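import Mathlib.GroupTheory.Nilpotent
import Mathlib.GroupTheory.Sylow
import Mathlib.GroupTheory.Solvable
import Mathlib.GroupTheory.QuotientGroup.Basic
import Mathlib.GroupTheory.GroupAction.ConjAct

/-!
General lemmas on finite groups: products with normal subgroups, coprime orders, characteristic
subgroups, subgroups of nilpotent and solvable groups.
-/

namespace Cfsg.Agent.Core

open Subgroup
open scoped Pointwise

variable {G : Type*} [Group G] {G' : Type*} [Group G']

/-- `|H ⊔ N| * |H ⊓ N| = |H| * |N|` when `N` is normal. -/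
theorem card_sup_mul_card_inf (H N : Subgroup G) [N.Normal] :
    Nat.card (H ⊔ N : Subgroup G) * Nat.card (H ⊓ N : Subgroup G) = Nat.card H * Nat.card N := by
  have h1 : Nat.card N * N.relIndex (H ⊔ N) = Nat.card (H ⊔ N : Subgroup G) := by
    rw [← relIndex_bot_left, ← relIndex_bot_left,
      relIndex_mul_relIndex _ _ _ bot_le le_sup_right]
  have h2 : Nat.card (H ⊓ N : Subgroup G) * (H ⊓ N).relIndex H = Nat.card H := by
    rw [← relIndex_bot_left, ← relIndex_bot_left,
      relIndex_mul_relIndex _ _ _ bot_le inf_le_left]
  rw [relIndex_sup_right] at h1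
  rw [inf_relIndex_left] at h2
  rw [← h1, ← h2]; ring

theorem card_sup_dvd_mul (H N : Subgroup G) [N.Normal] :
    Nat.card (H ⊔ N : Subgroup G) ∣ Nat.card H * Nat.card N :=
  ⟨_, (card_sup_mul_card_inf H N).symm⟩

theorem card_sup_of_inf_eq_bot {H N : Subgroup G} [N.Normal] (h : H ⊓ N = ⊥) :
    Nat.card (H ⊔ N : Subgroup G) = Nat.card H * Nat.card N := by
  rw [← card_sup_mul_card_inf, h, card_bot, mul_one]

/-- A subgroup of order prime to the index of a normal subgroup lies in that subgroup. -/
theorem le_of_coprime_index {H N : Subgroup G} [N.Normal]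
    (h : (Nat.card H).Coprime N.index) : H ≤ N := by
  rw [← relIndex_eq_one]
  exact Nat.eq_one_of_dvd_coprimes h (relIndex_dvd_card _ _)
    (relIndex_dvd_index_of_normal _ _)

/-- A normal subgroup of order prime to its index is the only subgroup of its order. -/
theorem eq_of_card_eq_of_coprime {H N : Subgroup G} [N.Normal] [Finite N]
    (hN : (Nat.card N).Coprime N.index) (h : Nat.card H = Nat.card N) : H = N :=
  eq_of_le_of_card_ge (le_of_coprime_index (h ▸ hN)) h.ge

/-- A normal subgroup of order prime to its index is characteristic. -/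
theorem characteristic_of_coprime {N : Subgroup G} [N.Normal] [Finite N]
    (hN : (Nat.card N).Coprime N.index) : N.Characteristic :=
  characteristic_iff_map_eq.mpr fun φ =>
    eq_of_card_eq_of_coprime hN (card_map_of_injective φ.injective)

/-- Normal subgroups of coprime order commute elementwise. -/
theorem commute_of_coprime {H K : Subgroup G} [H.Normal] [K.Normal]
    (h : (Nat.card H).Coprime (Nat.card K)) {x y : G} (hx : x ∈ H) (hy : y ∈ K) : Commute x y :=
  commute_of_normal_of_disjoint H K inferInstance inferInstance
    (disjoint_of_coprime_natCard h) x y hx hy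

theorem isNilpotent_mono {H K : Subgroup G} (hK : Group.IsNilpotent K) (h : H ≤ K) :
    Group.IsNilpotent H :=
  (Group.isNilpotent_congr (subgroupOfEquivOfLe h)).mp inferInstance

theorem isSolvable_mono {H K : Subgroup G} (hK : Group.IsSolvable K) (h : H ≤ K) :
    Group.IsSolvable H :=
  Group.isSolvable_of_isSolvable_injective (inclusion_injective h)

theorem isNilpotent_map {H : Subgroup G} (hH : Group.IsNilpotent H) (f : G →* G') :
    Group.IsNilpotent (H.map f) :=
  Group.nilpotent_of_surjective (f.subgroupMap H) (f.subgroupMap_surjective H)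

theorem isSolvable_map {H : Subgroup G} (hH : Group.IsSolvable H) (f : G →* G') :
    Group.IsSolvable (H.map f) :=
  Group.isSolvable_of_surjective (f.subgroupMap_surjective H)

theorem card_lt_of_lt [Finite G] {H K : Subgroup G} (h : H < K) : Nat.card H < Nat.card K :=
  lt_of_le_of_ne (card_le_of_le h.le) fun e => h.ne (eq_of_le_of_card_ge h.le e.ge)

theorem card_lt_of_ne_top [Finite G] {H : Subgroup G} (h : H ≠ ⊤) : Nat.card H < Nat.card G := by
  rw [← card_top (G := G)]; exact card_lt_of_lt (lt_top_iff_ne_top.mpr h)

theorem card_quotient_lt [Finite G] {N : Subgroup G} (h : N ≠ ⊥) :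
    Nat.card (G ⧸ N) < Nat.card G := by
  rw [← card_mul_index N, index_eq_card]
  have h1 : 1 < Nat.card N := by
    rcases Nat.lt_or_ge 1 (Nat.card N) with h1 | h1
    · exact h1
    · exact absurd (card_eq_one.mp (le_antisymm h1 Nat.card_pos)) h
  exact lt_mul_of_one_lt_left Nat.card_pos h1

/-- A group generated by pairwise commuting nilpotent subgroups is nilpotent. -/
theorem isNilpotent_iSup_of_commute {ι : Type*} [Finite ι] {H : ι → Subgroup G}
    (hnil : ∀ i, Group.IsNilpotent (H i))
    (hcomm : Pairwise fun i j => ∀ x y : G, x ∈ H i → y ∈ H j → Commute x y) :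
    Group.IsNilpotent (⨆ i, H i : Subgroup G) := by
  cases nonempty_fintype ι
  have := hnil
  rw [← noncommPiCoprod_range (hcomm := hcomm)]
  exact Group.nilpotent_of_surjective _ (MonoidHom.rangeRestrict_surjective _)

/-- The image in `G` of a characteristic subgroup of a normal subgroup is characteristic if the
normal subgroup is. -/
theorem characteristic_map_subtype (H : Subgroup G) [hH : H.Characteristic] (K : Subgroup H)
    [hK : K.Characteristic] : (K.map H.subtype).Characteristic := by
  refine characteristic_iff_map_le.mpr fun φ => ?_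
  rintro _ ⟨_, ⟨k, hk, rfl⟩, rfl⟩
  have hH' : H.map φ.toMonoidHom = H := characteristic_iff_map_eq.mp hH φ
  let ψ : H ≃* H := (φ.subgroupMap H).trans (MulEquiv.subgroupCongr hH')
  exact ⟨ψ k, characteristic_iff_map_le.mp hK ψ ⟨k, hk, rfl⟩, rfl⟩

end Cfsg.Agent.Core
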