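import Cfsg.Prelude.Def_Solvable
import Cfsg.Agent.Core.Basics

/-!
The `p`-core and the `p'`-core: largest normal subgroups, characteristic, behaviour under
isomorphisms, surjections, normal subgroups and quotients.
-/

namespace Cfsg.Agent.Core

open Subgroup
open scoped Pointwise

variable {G : Type*} [Group G] {G' : Type*} [Group G'] {p q : ℕ}

/-- A property of `⊥` that is closed under products of normal subgroups holds for the join of a
finite set of normal subgroups having it. -/
theorem normal_and_sSup_induction {S : Set (Subgroup G)} (hS : S.Finite)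
    {P : Subgroup G → Prop} (hbot : P ⊥)
    (hsup : ∀ H K : Subgroup G, H.Normal → K.Normal → P H → P K → P (H ⊔ K))
    (hmem : ∀ H ∈ S, H.Normal ∧ P H) : (sSup S).Normal ∧ P (sSup S) := by
  induction S, hS using Set.Finite.induction_on with
  | empty => rw [sSup_empty]; exact ⟨inferInstance, hbot⟩
  | @insert a S _ _ ih =>
    obtain ⟨han, hap⟩ := hmem a (Set.mem_insert _ _)
    obtain ⟨hn, hp⟩ := ih fun H hH => hmem H (Set.mem_insert_of_mem _ hH)
    rw [sSup_insert]
    exact ⟨Subgroup.sup_normal _ _, hsup _ _ han hn hap hp⟩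

/-! ### The p-core -/

instance pCore_normal : (pCore p G).Normal := sSup_normal _ fun _ h => h.1

theorem pCore_isPGroup : IsPGroup p (pCore p G) :=
  Sylow.sSup_of_normal _ (fun _ h => h.2) fun _ h => h.1

theorem le_pCore {N : Subgroup G} [hN : N.Normal] (h : IsPGroup p N) : N ≤ pCore p G :=
  le_sSup ⟨hN, h⟩

theorem map_pCore (e : G ≃* G') : (pCore p G).map e.toMonoidHom = pCore p G' := by
  refine le_antisymm ?_ ?_
  · have := pCore_normal (p := p) (G := G).map e.toMonoidHom e.surjective
    exact le_pCore (pCore_isPGroup.map _)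
  · have := pCore_normal (p := p) (G := G').map e.symm.toMonoidHom e.symm.surjective
    have h := map_mono (f := e.toMonoidHom)
      (le_pCore (G := G) (pCore_isPGroup (p := p) (G := G') |>.map e.symm.toMonoidHom))
    rwa [map_map, show e.toMonoidHom.comp e.symm.toMonoidHom = MonoidHom.id G' from
      MonoidHom.ext e.apply_symm_apply, map_id] at h

instance pCore_characteristic : (pCore p G).Characteristic :=
  characteristic_iff_map_eq.mpr map_pCore

theorem map_pCore_le_of_surjective {f : G →* G'} (hf : Function.Surjective f) :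
    (pCore p G).map f ≤ pCore p G' :=
  have := pCore_normal (p := p) (G := G).map f hf
  le_pCore (pCore_isPGroup.map _)

theorem pCore_le_sylow (P : Sylow p G) : pCore p G ≤ P :=
  pCore_isPGroup.le_sylow_of_normal P

theorem pCore_eq_top (h : IsPGroup p G) : pCore p G = ⊤ :=
  top_le_iff.mp (le_pCore (h.to_subgroup ⊤))

/-- The `p`-core of a normal subgroup is its intersection with the `p`-core. -/
theorem map_pCore_normal (N : Subgroup G) [N.Normal] :
    (pCore p N).map N.subtype = pCore p G ⊓ N := by
  refine le_antisymm (le_inf (le_pCore (pCore_isPGroup.map _)) (map_subtype_le _)) ?_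
  have h := le_pCore (G := N) (N := (pCore p G).subgroupOf N)
    ((pCore_isPGroup (p := p) (G := G)).comap_subtype)
  have h' := map_mono (f := N.subtype) h
  rwa [subgroupOf, map_comap_eq, range_subtype, inf_comm] at h'

theorem pCore_quotient_eq_bot : pCore p (G ⧸ pCore p G) = ⊥ := by
  have hk : IsPGroup p (QuotientGroup.mk' (pCore p G)).ker := by
    rw [QuotientGroup.ker_mk']; exact pCore_isPGroup
  have h := le_pCore (pCore_isPGroup (p := p) (G := G ⧸ pCore p G) |>.comap_of_ker_isPGroup _ hk)
  rw [eq_bot_iff, ← map_comap_eq_self_of_surjective (QuotientGroup.mk'_surjective (pCore p G))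
    (pCore p (G ⧸ pCore p G))]
  exact (map_mono h).trans (QuotientGroup.map_mk'_self _).le

/-! ### The p'-core -/

instance pPrimeCore_normal : (pPrimeCore p G).Normal := sSup_normal _ fun _ h => h.1

theorem coprime_card_pPrimeCore [Finite G] : (Nat.card (pPrimeCore p G)).Coprime p :=
  (normal_and_sSup_induction (P := fun H : Subgroup G => (Nat.card H).Coprime p)
    (Set.toFinite _) (by simp)
    (fun H K _ hK h1 h2 =>
      have := hK
      Nat.Coprime.coprime_dvd_left (card_sup_dvd_mul H K) (h1.mul_left h2))
    fun _ h => h).2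

theorem not_dvd_card_pPrimeCore [Finite G] [hp : Fact p.Prime] :
    ¬ p ∣ Nat.card (pPrimeCore p G) :=
  hp.out.coprime_iff_not_dvd.mp coprime_card_pPrimeCore.symm

theorem le_pPrimeCore {N : Subgroup G} [hN : N.Normal] (h : (Nat.card N).Coprime p) :
    N ≤ pPrimeCore p G :=
  le_sSup ⟨hN, h⟩

theorem map_pPrimeCore_le (e : G ≃* G') :
    (pPrimeCore p G).map e.toMonoidHom ≤ pPrimeCore p G' := by
  rw [map_le_iff_le_comap]
  refine sSup_le fun N hN => ?_
  rw [← map_le_iff_le_comap]
  have := hN.1.map e.toMonoidHom e.surjective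
  exact le_pPrimeCore (by rw [card_map_of_injective e.injective]; exact hN.2)

theorem map_pPrimeCore (e : G ≃* G') :
    (pPrimeCore p G).map e.toMonoidHom = pPrimeCore p G' := by
  refine le_antisymm (map_pPrimeCore_le e) ?_
  have h := map_mono (f := e.toMonoidHom) (map_pPrimeCore_le (p := p) e.symm)
  rwa [map_map, show e.toMonoidHom.comp e.symm.toMonoidHom = MonoidHom.id G' from
    MonoidHom.ext e.apply_symm_apply, map_id] at h

instance pPrimeCore_characteristic : (pPrimeCore p G).Characteristic :=
  characteristic_iff_map_eq.mpr map_pPrimeCore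

theorem map_pPrimeCore_le_of_surjective [Finite G] {f : G →* G'} (hf : Function.Surjective f) :
    (pPrimeCore p G).map f ≤ pPrimeCore p G' :=
  have := pPrimeCore_normal (p := p) (G := G).map f hf
  le_pPrimeCore (coprime_card_pPrimeCore.coprime_dvd_left (card_map_dvd _ _))

/-- The `p'`-core of a normal subgroup is its intersection with the `p'`-core. -/
theorem map_pPrimeCore_normal [Finite G] (N : Subgroup G) [N.Normal] :
    (pPrimeCore p N).map N.subtype = pPrimeCore p G ⊓ N := by
  refine le_antisymm (le_inf (le_pPrimeCore ?_) (map_subtype_le _)) ?_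
  · rw [card_map_of_injective N.subtype_injective]; exact coprime_card_pPrimeCore
  · have h := map_mono (f := N.subtype) (le_pPrimeCore (p := p) (G := N)
      (N := (pPrimeCore p G).subgroupOf N)
      (coprime_card_pPrimeCore.coprime_dvd_left (card_comap_dvd_of_injective _ _ N.subtype_injective)))
    rwa [subgroupOf, map_comap_eq, range_subtype, inf_comm] at h

theorem pPrimeCore_quotient_eq_bot [Finite G] : pPrimeCore p (G ⧸ pPrimeCore p G) = ⊥ := by
  have hs := QuotientGroup.mk'_surjective (pPrimeCore p G)
  set Q := pPrimeCore p (G ⧸ pPrimeCore p G) with hQ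
  have hcard : Nat.card (Q.comap (QuotientGroup.mk' (pPrimeCore p G)))
      ∣ Nat.card (pPrimeCore p G) * Nat.card Q := by
    rw [← relIndex_bot_left, ← relIndex_mul_relIndex _ (pPrimeCore p G) _ bot_le
      (by
        intro x hx
        rw [mem_comap, QuotientGroup.mk'_apply, (QuotientGroup.eq_one_iff x).mpr hx]
        exact one_mem _)]
    refine mul_dvd_mul (by rw [relIndex_bot_left]) ?_
    have h := relIndex_comap (⊥ : Subgroup (G ⧸ pPrimeCore p G))
      (QuotientGroup.mk' (pPrimeCore p G)) (Q.comap (QuotientGroup.mk' (pPrimeCore p G)))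
    rw [MonoidHom.comap_bot, QuotientGroup.ker_mk', map_comap_eq_self_of_surjective hs,
      relIndex_bot_left] at h
    rw [h]
  have h := le_pPrimeCore (p := p) (N := Q.comap (QuotientGroup.mk' (pPrimeCore p G)))
    (Nat.Coprime.coprime_dvd_left hcard
      (coprime_card_pPrimeCore.mul_left (hQ ▸ coprime_card_pPrimeCore)))
  rw [eq_bot_iff, ← map_comap_eq_self_of_surjective hs Q]
  exact (map_mono h).trans (QuotientGroup.map_mk'_self _).le

theorem pPrimeCore_eq_top (h : (Nat.card G).Coprime p) : pPrimeCore p G = ⊤ :=
  top_le_iff.mp (le_pPrimeCore (by rwa [card_top]))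

theorem coprime_card_pCore_pPrimeCore [Finite G] [Fact p.Prime] :
    (Nat.card (pCore p G)).Coprime (Nat.card (pPrimeCore p G)) := by
  obtain ⟨n, hn⟩ := IsPGroup.iff_card.mp (pCore_isPGroup (p := p) (G := G))
  rw [hn]; exact (coprime_card_pPrimeCore (G := G)).symm.pow_left n

theorem pCore_le_centralizer_pPrimeCore [Finite G] [Fact p.Prime] :
    pCore p G ≤ centralizer (pPrimeCore p G : Set G) := fun _ hx _ hy =>
  (commute_of_coprime coprime_card_pCore_pPrimeCore hx hy).eq.symm

theorem pCore_le_pPrimeCore [Fact p.Prime] [Fact q.Prime] [Finite G] (hne : q ≠ p) :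
    pCore q G ≤ pPrimeCore p G := by
  obtain ⟨n, hn⟩ := IsPGroup.iff_card.mp (pCore_isPGroup (p := q) (G := G))
  refine le_pPrimeCore ?_
  rw [hn]
  exact ((Nat.coprime_primes Fact.out Fact.out).mpr hne).pow_left n

end Cfsg.Agent.Core
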