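import Cfsg.Agent.Core.PCore

/-!
The Fitting subgroup: join of the p-cores, nilpotent, largest normal nilpotent subgroup,
characteristic, and self-centralizing in solvable groups.
-/

namespace Cfsg.Agent.Core

open Subgroup
open scoped Pointwise

variable {G : Type*} [Group G] {G' : Type*} [Group G']

theorem iSup_pCore_eq_iSup_primeFactors [Finite G] :
    ⨆ p : Nat.Primes, pCore (p : ℕ) G = ⨆ p : (Nat.card G).primeFactors, pCore (p : ℕ) G := by
  refine le_antisymm (iSup_le fun p => ?_)
    (iSup_le fun p => le_iSup (fun p : Nat.Primes => pCore (p : ℕ) G)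
      ⟨(p : ℕ), Nat.prime_of_mem_primeFactors p.2⟩)
  by_cases h : (p : ℕ) ∣ Nat.card G
  · exact le_iSup (fun p : (Nat.card G).primeFactors => pCore (p : ℕ) G)
      ⟨(p : ℕ), Nat.mem_primeFactors.mpr ⟨p.2, h, Nat.card_pos.ne'⟩⟩
  · have := Fact.mk p.2
    obtain ⟨n, hn⟩ := IsPGroup.iff_card.mp (pCore_isPGroup (p := (p : ℕ)) (G := G))
    rcases Nat.eq_zero_or_pos n with rfl | hpos
    · rw [pow_zero, card_eq_one] at hn
      rw [hn]; exact bot_le
    · exact absurd ((dvd_pow_self _ hpos.ne').trans (hn ▸ card_subgroup_dvd_card _)) h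

theorem isNilpotent_iSup_pCore [Finite G] :
    Group.IsNilpotent (⨆ p : Nat.Primes, pCore (p : ℕ) G : Subgroup G) := by
  rw [iSup_pCore_eq_iSup_primeFactors]
  refine isNilpotent_iSup_of_commute (fun p => ?_) fun p q hne x y hx hy => ?_
  · have := Fact.mk (Nat.prime_of_mem_primeFactors p.2)
    exact (pCore_isPGroup (p := (p : ℕ))).isNilpotent
  · have := Fact.mk (Nat.prime_of_mem_primeFactors p.2)
    have := Fact.mk (Nat.prime_of_mem_primeFactors q.2)
    exact commute_of_normal_of_disjoint _ _ inferInstance inferInstance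
      (IsPGroup.disjoint_of_ne (p : ℕ) (q : ℕ) (Subtype.coe_injective.ne hne) _ _
        pCore_isPGroup pCore_isPGroup) x y hx hy

/-- A nilpotent normal subgroup is contained in the join of the p-cores. -/
theorem le_iSup_pCore [Finite G] {N : Subgroup G} [N.Normal] (hN : Group.IsNilpotent N) :
    N ≤ ⨆ p : Nat.Primes, pCore (p : ℕ) G := by
  set J := (⨆ p : Nat.Primes, pCore (p : ℕ) G) with hJ
  rw [← subgroupOf_eq_top]
  rw [← index_eq_one]
  by_contra hne
  obtain ⟨p, hp, hpd⟩ := Nat.exists_prime_and_dvd hne
  have := Fact.mk hp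
  obtain ⟨P⟩ := (inferInstance : Nonempty (Sylow p N))
  have hP : (P : Subgroup N).Normal := inferInstance
  have h1 : (P : Subgroup N).map N.subtype ≤ pCore p G := by
    rw [show (P : Subgroup N) = pCore p N from le_antisymm (le_pCore P.isPGroup') (pCore_le_sylow P),
      map_pCore_normal]
    exact inf_le_left
  have h2 : (P : Subgroup N) ≤ J.subgroupOf N := by
    rw [subgroupOf, ← map_le_iff_le_comap]
    exact h1.trans (le_iSup (fun p : Nat.Primes => pCore (p : ℕ) G) ⟨p, hp⟩)
  exact P.not_dvd_index (hpd.trans (index_dvd_of_le h2))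

theorem fittingSubgroup_eq_iSup_pCore [Finite G] :
    fittingSubgroup G = ⨆ p : Nat.Primes, pCore (p : ℕ) G := by
  refine le_antisymm (sSup_le fun N hN => ?_) (iSup_le fun p => ?_)
  · have := hN.1
    exact le_iSup_pCore hN.2
  · have := Fact.mk p.2
    exact le_sSup ⟨inferInstance, (pCore_isPGroup (p := (p : ℕ))).isNilpotent⟩

instance fittingSubgroup_normal : (fittingSubgroup G).Normal :=
  Subgroup.sSup_normal _ fun _ h => h.1

theorem fittingSubgroup_isNilpotent [Finite G] : Group.IsNilpotent (fittingSubgroup G) := by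
  rw [fittingSubgroup_eq_iSup_pCore]; exact isNilpotent_iSup_pCore

instance fittingSubgroup_isNilpotent_inst [Finite G] : Group.IsNilpotent (fittingSubgroup G) :=
  fittingSubgroup_isNilpotent

theorem le_fittingSubgroup {N : Subgroup G} [hN : N.Normal] (h : Group.IsNilpotent N) :
    N ≤ fittingSubgroup G :=
  le_sSup ⟨hN, h⟩

theorem map_fittingSubgroup_le (e : G ≃* G') :
    (fittingSubgroup G).map e.toMonoidHom ≤ fittingSubgroup G' := by
  rw [map_le_iff_le_comap]
  refine sSup_le fun N hN => ?_
  rw [← map_le_iff_le_comap]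
  have := hN.1.map e.toMonoidHom e.surjective
  exact le_fittingSubgroup (isNilpotent_map hN.2 _)

theorem map_fittingSubgroup (e : G ≃* G') :
    (fittingSubgroup G).map e.toMonoidHom = fittingSubgroup G' := by
  refine le_antisymm (map_fittingSubgroup_le e) ?_
  have h := map_mono (f := e.toMonoidHom) (map_fittingSubgroup_le e.symm)
  rwa [map_map, show e.toMonoidHom.comp e.symm.toMonoidHom = MonoidHom.id G' from
    MonoidHom.ext e.apply_symm_apply, map_id] at h

instance fittingSubgroup_characteristic : (fittingSubgroup G).Characteristic :=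
  characteristic_iff_map_eq.mpr map_fittingSubgroup

theorem pCore_le_fittingSubgroup [Finite G] (p : ℕ) [Fact p.Prime] :
    pCore p G ≤ fittingSubgroup G :=
  le_fittingSubgroup (pCore_isPGroup (p := p)).isNilpotent

theorem map_fittingSubgroup_le_of_surjective [Finite G] {f : G →* G'} (hf : Function.Surjective f) :
    (fittingSubgroup G).map f ≤ fittingSubgroup G' :=
  have := (fittingSubgroup_normal (G := G)).map f hf
  le_fittingSubgroup (isNilpotent_map fittingSubgroup_isNilpotent f)

/-- The Fitting subgroup of a normal subgroup is its intersection with the Fitting subgroup. -/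
theorem map_fittingSubgroup_normal [Finite G] (N : Subgroup G) [N.Normal] :
    (fittingSubgroup N).map N.subtype = fittingSubgroup G ⊓ N := by
  refine le_antisymm
    (le_inf (le_fittingSubgroup (isNilpotent_map fittingSubgroup_isNilpotent _))
      (map_subtype_le _)) ?_
  have hn : Group.IsNilpotent (fittingSubgroup G ⊓ N : Subgroup G) :=
    isNilpotent_mono fittingSubgroup_isNilpotent inf_le_left
  have hn' : Group.IsNilpotent ((fittingSubgroup G ⊓ N).subgroupOf N) :=
    (Group.isNilpotent_congr (subgroupOfEquivOfLe inf_le_right)).mpr hn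
  have h := map_mono (f := N.subtype) (le_fittingSubgroup hn')
  rwa [map_subgroupOf_eq_of_le inf_le_right] at h

theorem fittingSubgroup_eq_top [Group.IsNilpotent G] : fittingSubgroup G = ⊤ :=
  top_le_iff.mp (le_fittingSubgroup (Group.isNilpotent_top.mpr ‹_›))

/-- An abelian normal subgroup lies in the Fitting subgroup. -/
theorem le_fittingSubgroup_of_isMulCommutative {N : Subgroup G} [N.Normal] [IsMulCommutative N] :
    N ≤ fittingSubgroup G :=
  le_fittingSubgroup (let _ : CommGroup N := open scoped IsMulCommutative in inferInstance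
    CommGroup.isNilpotent)

/-- A nontrivial finite solvable group has a nontrivial Fitting subgroup. -/
theorem fittingSubgroup_ne_bot [Group.IsSolvable G] [Nontrivial G] : fittingSubgroup G ≠ ⊥ := by
  obtain ⟨n, hn⟩ := (inferInstance : Group.IsSolvable G)
  have h0 : derivedSeries G 0 ≠ ⊥ := top_ne_bot
  classical
  have hex : ∃ m, derivedSeries G m = ⊥ := ⟨n, hn⟩
  have hm := Nat.find_spec hex
  obtain ⟨m, hm'⟩ := Nat.exists_eq_succ_of_ne_zero (n := Nat.find hex) fun h => h0 (h ▸ hm)
  have hne : derivedSeries G m ≠ ⊥ := Nat.find_min hex (hm' ▸ m.lt_succ_self)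
  rw [hm', derivedSeries_succ, commutator_eq_bot_iff_le_centralizer] at hm
  have := derivedSeries_normal G m
  have : IsMulCommutative (derivedSeries G m) := ⟨⟨fun a b => Subtype.ext (hm b.2 a a.2)⟩⟩
  exact fun h => hne (le_bot_iff.mp (h ▸ le_fittingSubgroup_of_isMulCommutative))

/-- A group which is central-by-nilpotent is nilpotent. -/
theorem isNilpotent_of_commutator_le_center {H : Subgroup G} {C : Subgroup G}
    (hC : ⁅H, H⁆ ≤ C) (hcen : H ≤ centralizer (C : Set G)) : Group.IsNilpotent H := by
  have h2 : ⁅⁅H, H⁆, H⁆ = ⊥ :=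
    commutator_eq_bot_iff_le_centralizer.mpr (le_trans hC fun c hc h hh => (hcen hh c hc).symm)
  refine isNilpotent_of_lowerCentralSeries_eq_bot (n := 2) ?_
  rw [Subgroup.lowerCentralSeries_succ, Subgroup.lowerCentralSeries_succ, Subgroup.lowerCentralSeries_zero, h2]

/-- In a finite solvable group the Fitting subgroup contains its centralizer. -/
theorem centralizer_fittingSubgroup_le [Finite G] [Group.IsSolvable G] :
    centralizer (fittingSubgroup G : Set G) ≤ fittingSubgroup G := by
  set C := centralizer (fittingSubgroup G : Set G) with hC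
  have hCn : C.Normal := inferInstance
  by_contra hle
  set Z := C ⊓ fittingSubgroup G with hZ
  -- the derived series of `C` eventually lies in `Z`
  obtain ⟨n, hn⟩ := (inferInstance : Group.IsSolvable C)
  classical
  have hex : ∃ m, (derivedSeries C m).map C.subtype ≤ Z := ⟨n, by rw [hn, Subgroup.map_bot]; exact bot_le⟩
  have hm := Nat.find_spec hex
  obtain ⟨m, hm'⟩ := Nat.exists_eq_succ_of_ne_zero (n := Nat.find hex) fun h => by
    rw [h, derivedSeries_zero, ← MonoidHom.range_eq_map, range_subtype] at hm
    exact hle (hm.trans inf_le_right)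
  have hne := Nat.find_min hex (hm' ▸ m.lt_succ_self)
  rw [hm', derivedSeries_succ, map_commutator] at hm
  set D := (derivedSeries C m).map C.subtype with hD
  have : (derivedSeries C m).Characteristic := by
    clear_value D; clear hD hne hm
    induction m with
    | zero => exact topCharacteristic
    | succ k _ => exact Subgroup.commutator_characteristic _ _
  have hDn : D.Normal := inferInstance
  have hDnil : Group.IsNilpotent D :=
    isNilpotent_of_commutator_le_center hm fun x hx y hy =>
      map_subtype_le (H := C) _ hx y (show y ∈ fittingSubgroup G from hy.2)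
  exact hne (le_inf (map_subtype_le _) (le_fittingSubgroup hDnil))

end Cfsg.Agent.Core
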