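import Mathlib.GroupTheory.Frattini
import Mathlib.GroupTheory.SpecificGroups.Cyclic
import Cfsg.Agent.Core.Fitting

/-!
The Frattini subgroup of finite groups: supplements, behaviour in normal subgroups and quotients,
nilpotent groups and p-groups, Gaschütz's theorem `F(G/Φ(G)) = F(G)/Φ(G)`.
-/

namespace Cfsg.Agent.Core

open Subgroup
open scoped Pointwise

variable {G : Type*} [Group G] {G' : Type*} [Group G']

/-- A subgroup not inside the Frattini subgroup has a maximal subgroup as supplement. -/
theorem exists_coatom_not_le {H : Subgroup G} (h : ¬ H ≤ frattini G) :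
    ∃ M : Subgroup G, IsCoatom M ∧ ¬ H ≤ M := by
  by_contra hne
  push Not at hne
  exact h (le_iInf₂ fun M hM => hne M hM)

theorem le_frattini {H : Subgroup G} (h : ∀ M : Subgroup G, IsCoatom M → H ≤ M) :
    H ≤ frattini G :=
  le_iInf₂ h

theorem eq_top_of_sup_frattini [Finite G] {K D : Subgroup G} (hD : D ≤ frattini G)
    (h : K ⊔ D = ⊤) : K = ⊤ :=
  frattini_nongenerating (top_le_iff.mp (h ▸ sup_le_sup_left hD K))

/-- In a nilpotent finite group maximal subgroups are normal. -/
theorem normal_of_isCoatom [Finite G] [Group.IsNilpotent G] {M : Subgroup G} (hM : IsCoatom M) :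
    M.Normal :=
  NormalizerCondition.normal_of_coatom M Group.normalizerCondition_of_isNilpotent hM

/-- A normal maximal subgroup has prime index. -/
theorem prime_index_of_isCoatom_normal [Finite G] {M : Subgroup G} [M.Normal] (hM : IsCoatom M) :
    M.index.Prime := by
  have h1 : M.index ≠ 1 := fun h => hM.1 (index_eq_one.mp h)
  obtain ⟨p, hp, hpd⟩ := Nat.exists_prime_and_dvd h1
  have := Fact.mk hp
  obtain ⟨y, hy⟩ := exists_prime_orderOf_dvd_card' (G := G ⧸ M) p (by rwa [← index_eq_card])
  have hy1 : y ≠ 1 := fun e => hp.one_lt.ne (by rw [← hy, e, orderOf_one])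
  have hlt : M < (zpowers y).comap (QuotientGroup.mk' M) := by
    refine lt_of_le_of_ne (fun x hx => ?_) fun e => hy1 ?_
    · rw [mem_comap, QuotientGroup.mk'_apply, (QuotientGroup.eq_one_iff x).mpr hx]
      exact one_mem _
    · have h := mem_zpowers y
      rw [← map_comap_eq_self_of_surjective (QuotientGroup.mk'_surjective M) (zpowers y), ← e,
        QuotientGroup.map_mk'_self, mem_bot] at h
      exact h
  have htop : zpowers y = ⊤ := by
    rw [← map_comap_eq_self_of_surjective (QuotientGroup.mk'_surjective M) (zpowers y),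
      hM.2 _ hlt, map_top_of_surjective _ (QuotientGroup.mk'_surjective M)]
  rw [index_eq_card, ← card_top, ← htop, Nat.card_zpowers, hy]
  exact hp

/-- A normal maximal subgroup contains the commutator subgroup and all `index`-th powers. -/
theorem commutator_le_of_isCoatom_normal [Finite G] {M : Subgroup G} [M.Normal] (hM : IsCoatom M) :
    commutator G ≤ M := by
  have := Fact.mk (prime_index_of_isCoatom_normal hM)
  have : IsCyclic (G ⧸ M) := isCyclic_of_prime_card (index_eq_card (H := M)).symm
  let _ : CommGroup (G ⧸ M) := IsCyclic.commGroup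
  have h := Abelianization.commutator_subset_ker (QuotientGroup.mk' M)
  rwa [QuotientGroup.ker_mk'] at h

theorem commutator_le_frattini [Finite G] [Group.IsNilpotent G] : commutator G ≤ frattini G :=
  le_frattini fun _ hM =>
    have := normal_of_isCoatom hM
    commutator_le_of_isCoatom_normal hM

theorem index_eq_of_isCoatom [Finite G] {p : ℕ} [hp : Fact p.Prime] (hG : IsPGroup p G)
    {M : Subgroup G} (hM : IsCoatom M) : M.Normal ∧ M.index = p := by
  have := hG.isNilpotent
  have := normal_of_isCoatom hM
  obtain ⟨n, hn⟩ := IsPGroup.iff_card.mp hG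
  obtain ⟨k, -, hk⟩ := (Nat.dvd_prime_pow hp.out).mp (hn ▸ M.index_dvd_card)
  refine ⟨this, ?_⟩
  have hpr := prime_index_of_isCoatom_normal hM
  rw [hk] at hpr ⊢
  rw [Nat.Prime.eq_one_of_pow hpr, pow_one]

theorem pow_mem_frattini [Finite G] {p : ℕ} [Fact p.Prime] (hG : IsPGroup p G) (x : G) :
    x ^ p ∈ frattini G := by
  refine mem_iInf.mpr fun M => mem_iInf.mpr fun hM => ?_
  obtain ⟨hn, hi⟩ := index_eq_of_isCoatom hG hM
  rw [← hi]
  exact pow_index_mem M x

/-- The Frattini subgroup of a normal subgroup lies in the Frattini subgroup. -/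
theorem frattini_le_of_normal [Finite G] (N : Subgroup G) [N.Normal] :
    (frattini N).map N.subtype ≤ frattini G := by
  refine le_frattini fun M hM => ?_
  by_contra hle
  set D := (frattini N).map N.subtype with hD
  have hDN : D ≤ N := map_subtype_le _
  have htop : M ⊔ D = ⊤ := hM.2 _ (lt_of_le_of_ne le_sup_left fun e => hle (e ▸ le_sup_right))
  refine hle (hDN.trans ?_)
  have hsup : M.subgroupOf N ⊔ frattini N = ⊤ := by
    refine eq_top_iff.mpr fun x _ => ?_
    have hx : (x : G) ∈ M ⊔ D := htop ▸ mem_top _
    obtain ⟨m, hm, d, ⟨e, he, rfl⟩, hxe⟩ := mem_sup_of_normal_right.mp hx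
    have hmN : m ∈ N := by
      have : m = (x : G) * (e : G)⁻¹ := by rw [← hxe]; simp
      exact this ▸ N.mul_mem x.2 (N.inv_mem e.2)
    have : x = ⟨m, hmN⟩ * e := Subtype.ext hxe.symm
    exact this ▸ mul_mem_sup (mem_subgroupOf.mpr hm) he
  exact subgroupOf_eq_top.mp (frattini_nongenerating hsup)

theorem map_frattini_le_of_surjective {f : G →* G'} (hf : Function.Surjective f) :
    (frattini G).map f ≤ frattini G' :=
  map_le_iff_le_comap.mpr (frattini_le_comap_frattini_of_surjective hf)

/-- If `N` is normal, `D ≤ Φ(G)` and `N/D` is nilpotent, then `N` is nilpotent. -/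
theorem isNilpotent_of_map_frattini [Finite G] {N D : Subgroup G} [N.Normal] [D.Normal]
    (hDN : D ≤ N) (hD : D ≤ frattini G)
    (h : Group.IsNilpotent (N.map (QuotientGroup.mk' D))) : Group.IsNilpotent N := by
  refine ((Group.isNilpotent_of_finite_tfae (G := N)).out 0 3).mpr fun p hp P => ?_
  have := hp
  set f := QuotientGroup.mk' D with hf
  set P' := (P : Subgroup N).map N.subtype with hP'
  have hNn : (N.map f).Normal := Subgroup.Normal.map inferInstance f (QuotientGroup.mk'_surjective D)
  set Pb := P.mapSurjective (f.subgroupMap_surjective N) with hPb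
  have hPn : (Pb : Subgroup (N.map f)).Normal := inferInstance
  have hPc : (Pb : Subgroup (N.map f)).Characteristic := Pb.characteristic_of_normal hPn
  have hn : ((Pb : Subgroup (N.map f)).map (N.map f).subtype).Normal := inferInstance
  have heq : (Pb : Subgroup (N.map f)).map (N.map f).subtype = P'.map f := by
    rw [hPb, Sylow.coe_mapSurjective, map_map, hP', map_map]; rfl
  rw [heq] at hn
  have hK : (P' ⊔ D).Normal := by
    have := hn.comap f
    rwa [hf, comap_map_eq, QuotientGroup.ker_mk'] at this
  set K := P' ⊔ D with hKdef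
  have hKN : K ≤ N := sup_le (map_subtype_le _) hDN
  have hPK : P' ≤ K := le_sup_left
  have hpg : IsPGroup p (P'.subgroupOf K) :=
    (P.isPGroup'.map _).comap_subtype
  have hidx : ¬ p ∣ (P'.subgroupOf K).index := by
    intro hd
    refine P.not_dvd_index ?_
    have h1 : P'.relIndex N = (P : Subgroup N).index := by
      rw [relIndex, hP', subgroupOf, comap_map_eq_self_of_injective N.subtype_injective]
    rw [← h1, ← relIndex_mul_relIndex _ _ _ hPK hKN]
    exact Dvd.dvd.mul_right hd _
  have harg := Sylow.normalizer_sup_eq_top (hpg.toSylow hidx)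
  rw [IsPGroup.toSylow_coe, map_subgroupOf_eq_of_le hPK] at harg
  have hN1 : normalizer (P' : Set G) = ⊤ := by
    refine eq_top_of_sup_frattini hD (top_le_iff.mp (harg.ge.trans ?_))
    refine sup_le le_sup_left (sup_le ?_ le_sup_right)
    exact le_normalizer.trans le_sup_left
  exact (normalizer_eq_top_iff.mp hN1).of_map_subtype

/-- A finite group with nilpotent Frattini quotient is nilpotent. -/
theorem isNilpotent_of_quotient_frattini [Finite G]
    (h : Group.IsNilpotent (G ⧸ frattini G)) : Group.IsNilpotent G :=
  Group.isNilpotent_top.mp (isNilpotent_of_map_frattini le_top le_rfl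
    (by rw [map_top_of_surjective _ (QuotientGroup.mk'_surjective _)]
        exact Group.isNilpotent_top.mpr h))

theorem frattini_le_fittingSubgroup [Finite G] : frattini G ≤ fittingSubgroup G :=
  le_fittingSubgroup frattini_nilpotent

/-- Gaschütz: `F(G/D)` is the image of `F(G)` when `D ≤ Φ(G)`. -/
theorem map_fittingSubgroup_frattini [Finite G] {D : Subgroup G} [D.Normal] (hD : D ≤ frattini G) :
    (fittingSubgroup G).map (QuotientGroup.mk' D) = fittingSubgroup (G ⧸ D) := by
  have hs := QuotientGroup.mk'_surjective D
  refine le_antisymm (map_fittingSubgroup_le_of_surjective hs) ?_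
  rw [← map_comap_eq_self_of_surjective hs (fittingSubgroup (G ⧸ D))]
  refine map_mono (le_fittingSubgroup (isNilpotent_of_map_frattini ?_ hD ?_))
  · rw [← map_le_iff_le_comap, QuotientGroup.map_mk'_self]; exact bot_le
  · rw [map_comap_eq_self_of_surjective hs]; exact fittingSubgroup_isNilpotent

theorem frattini_quotient_frattini : frattini (G ⧸ frattini G) = ⊥ := by
  have hs := QuotientGroup.mk'_surjective (frattini G)
  rw [eq_bot_iff, ← map_comap_eq_self_of_surjective hs (frattini (G ⧸ frattini G))]
  refine (map_mono (le_frattini fun M hM => ?_)).trans (QuotientGroup.map_mk'_self _).le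
  have hker : (QuotientGroup.mk' (frattini G)).ker ≤ M := by
    rw [QuotientGroup.ker_mk']; exact frattini_le_coatom hM
  have hco : IsCoatom (M.map (QuotientGroup.mk' (frattini G))) := by
    refine ⟨fun e => hM.1 ?_, fun K hK => ?_⟩
    · have h := congrArg (comap (QuotientGroup.mk' (frattini G))) e
      rwa [comap_map_eq_self hker, comap_top] at h
    · have h := comap_lt_comap_of_surjective hs |>.mpr hK
      rw [comap_map_eq_self hker] at h
      rw [← map_comap_eq_self_of_surjective hs K, hM.2 _ h, map_top_of_surjective _ hs]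
  calc (frattini _).comap _ ≤ (M.map (QuotientGroup.mk' (frattini G))).comap _ :=
        comap_mono (frattini_le_coatom hco)
    _ = M := comap_map_eq_self hker

end Cfsg.Agent.Core
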