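import Mathlib.GroupTheory.PGroup
import Cfsg.Agent.Core.Fitting

/-!
Minimal normal subgroups of finite groups, and their structure in the solvable case.
-/

namespace Cfsg.Agent.Core

open Subgroup
open scoped Pointwise

variable {G : Type*} [Group G]

/-- `N` is a minimal normal subgroup. -/
structure IsMinNormal (N : Subgroup G) : Prop where
  normal : N.Normal
  ne_bot : N ≠ ⊥
  eq_of_le : ∀ M : Subgroup G, M.Normal → M ≤ N → M = ⊥ ∨ M = N

theorem exists_isMinNormal_le [Finite G] {N : Subgroup G} [hN : N.Normal] (hne : N ≠ ⊥) :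
    ∃ M ≤ N, IsMinNormal M := by
  obtain ⟨M, hM, hmin⟩ := (Set.toFinite {M : Subgroup G | M.Normal ∧ M ≠ ⊥ ∧ M ≤ N}).exists_minimal
    ⟨N, hN, hne, le_rfl⟩
  refine ⟨M, hM.2.2, hM.1, hM.2.1, fun K hK hKM => ?_⟩
  by_cases hKb : K = ⊥
  · exact Or.inl hKb
  · exact Or.inr (le_antisymm hKM (hmin ⟨hK, hKb, hKM.trans hM.2.2⟩ hKM))

theorem exists_isMinNormal [Finite G] [Nontrivial G] : ∃ M : Subgroup G, IsMinNormal M :=
  let ⟨M, _, hM⟩ := exists_isMinNormal_le (top_ne_bot : (⊤ : Subgroup G) ≠ ⊥)
  ⟨M, hM⟩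

/-- A minimal normal subgroup inside or disjoint from any normal subgroup. -/
theorem IsMinNormal.le_or_inf_eq_bot {N : Subgroup G} (h : IsMinNormal N) (M : Subgroup G)
    [M.Normal] : N ≤ M ∨ N ⊓ M = ⊥ := by
  have := h.normal
  rcases h.eq_of_le (N ⊓ M) inferInstance inf_le_left with h' | h'
  · exact Or.inr h'
  · exact Or.inl (inf_eq_left.mp h')

/-- A solvable minimal normal subgroup is abelian. -/
theorem IsMinNormal.isMulCommutative {N : Subgroup G} (h : IsMinNormal N) [Group.IsSolvable N] :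
    IsMulCommutative N := by
  have := h.normal
  have hlt : (⁅(⊤ : Subgroup N), (⊤ : Subgroup N)⁆ : Subgroup N) ≠ ⊤ := by
    have : Nontrivial N := (Subgroup.nontrivial_iff_ne_bot N).mpr h.ne_bot
    exact (Group.IsSolvable.commutator_lt_top_of_nontrivial N).ne
  rcases h.eq_of_le ((⁅(⊤ : Subgroup N), (⊤ : Subgroup N)⁆ : Subgroup N).map N.subtype) inferInstance (map_subtype_le _) with
    h' | h'
  · rw [map_eq_bot_iff_of_injective _ N.subtype_injective,
      commutator_eq_bot_iff_le_centralizer] at h'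
    exact ⟨⟨fun a b => (h' (mem_top b) a (mem_top a))⟩⟩
  · refine absurd (map_injective N.subtype_injective ?_) hlt
    rw [h', ← MonoidHom.range_eq_map, range_subtype]

/-- An abelian minimal normal subgroup has prime exponent. -/
theorem IsMinNormal.exists_prime_pow_eq_one [Finite G] {N : Subgroup G} (h : IsMinNormal N)
    [IsMulCommutative N] : ∃ p : ℕ, p.Prime ∧ ∀ x ∈ N, x ^ p = 1 := by
  have hNn := h.normal
  have h1 : Nat.card N ≠ 1 := fun h' => h.ne_bot (card_eq_one.mp h')
  obtain ⟨p, hp, hpd⟩ := Nat.exists_prime_and_dvd h1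
  have := Fact.mk hp
  obtain ⟨y, hy⟩ := exists_prime_orderOf_dvd_card' (G := N) p hpd
  open scoped IsMulCommutative in
  let K : Subgroup N := (powMonoidHom p : N →* N).ker
  have hmem : ∀ x : N, x ∈ K ↔ x ^ p = 1 := fun x => Iff.rfl
  have hK : K.Characteristic := characteristic_iff_map_le.mpr fun φ => by
    rintro _ ⟨x, hx, rfl⟩
    rw [hmem]
    have hx' : x ^ p = 1 := (hmem x).mp hx
    rw [MulEquiv.toMonoidHom_eq_coe, MonoidHom.coe_coe, ← map_pow, hx', map_one]
  rcases h.eq_of_le (K.map N.subtype) inferInstance (map_subtype_le _) with h' | h'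
  · exfalso
    rw [map_eq_bot_iff_of_injective _ N.subtype_injective] at h'
    have hy1 : y ∈ K := (hmem y).mpr (hy ▸ pow_orderOf_eq_one y)
    rw [h', mem_bot] at hy1
    rw [hy1, orderOf_one] at hy
    exact hp.one_lt.ne hy
  · refine ⟨p, hp, fun x hx => ?_⟩
    rw [← h'] at hx
    obtain ⟨z, hz, rfl⟩ := hx
    rw [← map_pow, (hmem z).mp hz, map_one]

theorem isPGroup_of_forall_pow_eq_one {p : ℕ} {N : Subgroup G} (h : ∀ x ∈ N, x ^ p = 1) :
    IsPGroup p N := fun x => ⟨1, Subtype.ext (by simpa using h x x.2)⟩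

/-- A solvable minimal normal subgroup is a `p`-group for some prime `p`. -/
theorem IsMinNormal.exists_isPGroup [Finite G] {N : Subgroup G} (h : IsMinNormal N)
    [Group.IsSolvable N] : ∃ p : ℕ, p.Prime ∧ IsPGroup p N ∧ (∀ x ∈ N, x ^ p = 1) :=
  have := h.isMulCommutative
  let ⟨p, hp, he⟩ := h.exists_prime_pow_eq_one
  ⟨p, hp, isPGroup_of_forall_pow_eq_one he, he⟩

theorem IsMinNormal.le_fittingSubgroup {N : Subgroup G} (h : IsMinNormal N) [Group.IsSolvable N] :
    N ≤ fittingSubgroup G :=
  have := h.normal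
  have := h.isMulCommutative
  le_fittingSubgroup_of_isMulCommutative

/-- In a nilpotent group a minimal normal subgroup is central. -/
theorem IsMinNormal.le_center [Group.IsNilpotent G] {N : Subgroup G} (h : IsMinNormal N) :
    N ≤ center G := by
  have := h.normal
  rcases h.le_or_inf_eq_bot (center G) with h' | h'
  · exact h'
  exfalso
  obtain ⟨n, hn⟩ := Subgroup.nilpotent_iff_lowerCentralSeries.mp (inferInstance : Group.IsNilpotent G)
  -- `[N, G, ..., G] = ⊥`, so the last nontrivial term is central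
  have hcomm : ⁅N, (⊤ : Subgroup G)⁆ = N := by
    rcases h.eq_of_le ⁅N, (⊤ : Subgroup G)⁆ inferInstance (commutator_le_left N ⊤) with h'' | h''
    · refine absurd ?_ h.ne_bot
      rw [← h']
      refine le_antisymm (le_inf le_rfl ?_) inf_le_left
      rw [← centralizer_univ, ← coe_top, ← commutator_eq_bot_iff_le_centralizer]
      exact h''
    · exact h''
  have hall : ∀ m, N ≤ (⊤ : Subgroup G).lowerCentralSeries m := by
    intro m
    induction m with
    | zero => exact le_top
    | succ m ih =>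
      rw [Subgroup.lowerCentralSeries_succ]
      exact hcomm.symm.le.trans (commutator_mono ih le_rfl)
  exact h.ne_bot (le_bot_iff.mp (hn ▸ hall n))

end Cfsg.Agent.Core
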