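import Mathlib.GroupTheory.SchurZassenhaus
import Cfsg.Agent.Core.MinimalNormal
import Cfsg.Agent.Coprime.SchurZassenhaus

/-!
Hall's theorems for finite solvable groups (existence, conjugacy, containment) and the generalised
Frattini argument.
-/

set_option autoImplicit false

namespace Cfsg.Agent.Core

open Subgroup
open scoped Pointwise

universe u

variable {G : Type u} [Group G]

theorem card_comap_mk (N : Subgroup G) [N.Normal] (K : Subgroup (G ⧸ N)) :
    Nat.card (K.comap (QuotientGroup.mk' N)) = Nat.card N * Nat.card K := by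
  have hle : N ≤ K.comap (QuotientGroup.mk' N) := fun x hx => by
    rw [mem_comap, QuotientGroup.mk'_apply, (QuotientGroup.eq_one_iff x).mpr hx]
    exact one_mem _
  rw [← relIndex_bot_left, ← relIndex_mul_relIndex _ N _ bot_le hle, relIndex_bot_left]
  have h := relIndex_comap (⊥ : Subgroup (G ⧸ N)) (QuotientGroup.mk' N)
    (K.comap (QuotientGroup.mk' N))
  rw [MonoidHom.comap_bot, QuotientGroup.ker_mk',
    map_comap_eq_self_of_surjective (QuotientGroup.mk'_surjective N), relIndex_bot_left] at h
  rw [h]

theorem card_map_mk_mul (N H : Subgroup G) [N.Normal] :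
    Nat.card (H.map (QuotientGroup.mk' N)) * Nat.card (H ⊓ N : Subgroup G) = Nat.card H := by
  rw [← relIndex_ker, QuotientGroup.ker_mk', ← relIndex_bot_left (H := H),
    ← relIndex_mul_relIndex _ (H ⊓ N) _ bot_le inf_le_left, relIndex_bot_left, inf_relIndex_left,
    mul_comm]

private theorem hall_exists_aux :
    ∀ (k : ℕ) (G : Type u) [Group G] [Finite G] [Group.IsSolvable G], Nat.card G = k →
      ∀ m n : ℕ, k = m * n → m.Coprime n → ∃ H : Subgroup G, Nat.card H = m := by
  intro k
  induction k using Nat.strong_induction_on with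
  | _ k ih =>
    intro G _ _ _ hk m n hmn hc
    by_cases hs : Subsingleton G
    · refine ⟨⊥, ?_⟩
      rw [Nat.card_of_subsingleton (1 : G)] at hk
      rw [card_bot, eq_comm]
      exact Nat.dvd_one.mp (hk ▸ hmn ▸ dvd_mul_right m n)
    have : Nontrivial G := not_subsingleton_iff_nontrivial.mp hs
    obtain ⟨N, hN⟩ := exists_isMinNormal (G := G)
    have := hN.normal
    obtain ⟨p, hp, hNp, -⟩ := hN.exists_isPGroup
    have := Fact.mk hp
    obtain ⟨a, ha⟩ := IsPGroup.iff_card.mp hNp
    have hlt : Nat.card (G ⧸ N) < k := hk ▸ card_quotient_lt hN.ne_bot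
    have hq : Nat.card N * Nat.card (G ⧸ N) = m * n := by
      rw [← index_eq_card, card_mul_index, hk, hmn]
    by_cases hpm : p ∣ m
    · have hcn : (Nat.card N).Coprime n := by
        rw [ha]; exact ((hp.coprime_iff_not_dvd.mpr fun h =>
          hp.one_lt.ne' (Nat.eq_one_of_dvd_coprimes hc hpm h))).pow_left a
      obtain ⟨m', rfl⟩ := hcn.dvd_of_dvd_mul_right ⟨_, hq.symm⟩
      rw [mul_assoc, Nat.mul_left_cancel_iff Nat.card_pos] at hq
      obtain ⟨K, hK⟩ := ih _ hlt (G ⧸ N) rfl m' n hq (hc.coprime_dvd_left (dvd_mul_left m' _))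
      exact ⟨K.comap (QuotientGroup.mk' N), by rw [card_comap_mk, hK]⟩
    · have hcm : (Nat.card N).Coprime m := by
        rw [ha]; exact (hp.coprime_iff_not_dvd.mpr hpm).pow_left a
      obtain ⟨n', rfl⟩ := hcm.dvd_of_dvd_mul_left ⟨_, hq.symm⟩
      rw [mul_left_comm, Nat.mul_left_cancel_iff Nat.card_pos] at hq
      obtain ⟨K, hK⟩ := ih _ hlt (G ⧸ N) rfl m n' hq (hc.coprime_dvd_right (dvd_mul_left n' _))
      set L := K.comap (QuotientGroup.mk' N) with hL
      have hLc : Nat.card L = Nat.card N * m := by rw [hL, card_comap_mk, hK]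
      have hNL : N ≤ L := fun x hx => by
        rw [hL, mem_comap, QuotientGroup.mk'_apply, (QuotientGroup.eq_one_iff x).mpr hx]
        exact one_mem _
      have hcard : Nat.card (N.subgroupOf L) = Nat.card N :=
        Nat.card_congr (subgroupOfEquivOfLe hNL).toEquiv
      have hidx : (N.subgroupOf L).index = m := by
        have h := (N.subgroupOf L).card_mul_index
        rw [hcard, hLc] at h
        exact Nat.eq_of_mul_eq_mul_left Nat.card_pos h
      obtain ⟨H, hH⟩ := exists_right_complement'_of_coprime (N := N.subgroupOf L)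
        (by rwa [hidx, hcard])
      refine ⟨H.map L.subtype, ?_⟩
      rw [card_map_of_injective L.subtype_injective,
        Coprime.card_eq_index_of_isComplement' hH, hidx]

/-- Hall: a finite solvable group has a subgroup of every order coprime to its cofactor. -/
theorem exists_hall [Finite G] [Group.IsSolvable G] {m n : ℕ} (h : Nat.card G = m * n)
    (hc : m.Coprime n) : ∃ H : Subgroup G, Nat.card H = m :=
  hall_exists_aux _ G h m n rfl hc

private theorem hall_le_aux :
    ∀ (k : ℕ) (G : Type u) [Group G] [Finite G] [Group.IsSolvable G], Nat.card G = k →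
      ∀ m n : ℕ, k = m * n → m.Coprime n → ∀ H K : Subgroup G, Nat.card H = m →
        (Nat.card K).Coprime n → ∃ g : G, K ≤ MulAut.conj g • H := by
  intro k
  induction k using Nat.strong_induction_on with
  | _ k ih =>
    intro G _ _ _ hk m n hmn hc H K hH hK
    by_cases hs : Subsingleton G
    · exact ⟨1, fun x _ => Subsingleton.elim (1 : G) x ▸ one_mem _⟩
    have : Nontrivial G := not_subsingleton_iff_nontrivial.mp hs
    obtain ⟨N, hN⟩ := exists_isMinNormal (G := G)
    have := hN.normal
    obtain ⟨p, hp, hNp, -⟩ := hN.exists_isPGroup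
    have := Fact.mk hp
    obtain ⟨a, ha⟩ := IsPGroup.iff_card.mp hNp
    have hlt : Nat.card (G ⧸ N) < k := hk ▸ card_quotient_lt hN.ne_bot
    have hq : Nat.card N * Nat.card (G ⧸ N) = m * n := by
      rw [← index_eq_card, card_mul_index, hk, hmn]
    set f := QuotientGroup.mk' N with hf
    have hKf : ∀ n', n' ∣ n → (Nat.card (K.map f)).Coprime n' := fun n' h =>
      (hK.coprime_dvd_left (card_map_dvd _ _)).coprime_dvd_right h
    have hinf : ∀ X : Subgroup G, Nat.card (X ⊓ N : Subgroup G) ∣ Nat.card N := fun X =>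
      card_dvd_of_le inf_le_right
    by_cases hpm : p ∣ m
    · have hcn : (Nat.card N).Coprime n := by
        rw [ha]; exact ((hp.coprime_iff_not_dvd.mpr fun h =>
          hp.one_lt.ne' (Nat.eq_one_of_dvd_coprimes hc hpm h))).pow_left a
      have hNH : N ≤ H := by
        have h1 : Nat.card (H ⊔ N : Subgroup G) ∣ m := by
          refine Nat.Coprime.dvd_of_dvd_mul_right ?_ (?_ : _ ∣ m * n)
          · exact Nat.Coprime.coprime_dvd_left (card_sup_dvd_mul H N) (hH ▸ hc.mul_left hcn)
          · rw [← hmn, ← hk]; exact card_subgroup_dvd_card _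
        have h2 : H = H ⊔ N := eq_of_le_of_card_ge le_sup_left
          (hH ▸ Nat.le_of_dvd (hH ▸ Nat.card_pos) h1)
        exact h2 ▸ le_sup_right
      obtain ⟨m', rfl⟩ := hcn.dvd_of_dvd_mul_right ⟨_, hq.symm⟩
      rw [mul_assoc, Nat.mul_left_cancel_iff Nat.card_pos] at hq
      have hHf : Nat.card (H.map f) = m' := by
        have h := card_map_mk_mul N H
        rw [inf_eq_right.mpr hNH, hH, mul_comm] at h
        exact Nat.eq_of_mul_eq_mul_left Nat.card_pos h
      obtain ⟨gb, hgb⟩ := ih _ hlt (G ⧸ N) rfl m' n hq (hc.coprime_dvd_left (dvd_mul_left m' _))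
        (H.map f) (K.map f) hHf (hKf n dvd_rfl)
      obtain ⟨g, rfl⟩ := QuotientGroup.mk'_surjective N gb
      refine ⟨g, ?_⟩
      rw [← Coprime.map_conj_smul f g H, map_le_iff_le_comap, comap_map_eq, hf,
        QuotientGroup.ker_mk'] at hgb
      refine hgb.trans (sup_le le_rfl ?_)
      rw [← Coprime.conj_smul_eq_self_of_mem_normalizer
        (show g ∈ normalizer (N : Set G) by rw [normalizer_eq_top]; trivial)]
      exact pointwise_smul_le_pointwise_smul_iff.mpr hNH
    · have hcm : (Nat.card N).Coprime m := by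
        rw [ha]; exact (hp.coprime_iff_not_dvd.mpr hpm).pow_left a
      obtain ⟨n', rfl⟩ := hcm.dvd_of_dvd_mul_left ⟨_, hq.symm⟩
      rw [mul_left_comm, Nat.mul_left_cancel_iff Nat.card_pos] at hq
      have hKN : N ⊓ K = ⊥ :=
        Coprime.inf_eq_bot_of_coprime (hK.coprime_dvd_right (dvd_mul_right _ n')).symm
      have hHf : Nat.card (H.map f) = m := by
        have h := card_map_mk_mul N H
        rwa [Coprime.inf_eq_bot_of_coprime (hH ▸ hcm.symm), card_bot, mul_one, hH] at h
      obtain ⟨gb, hgb⟩ := ih _ hlt (G ⧸ N) rfl m n' hq (hc.coprime_dvd_right (dvd_mul_left n' _))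
        (H.map f) (K.map f) hHf (hKf n' (dvd_mul_left n' _))
      obtain ⟨g, rfl⟩ := QuotientGroup.mk'_surjective N gb
      rw [← Coprime.map_conj_smul f g H, map_le_iff_le_comap, comap_map_eq, hf,
        QuotientGroup.ker_mk'] at hgb
      set H' := MulAut.conj g • H with hH'
      have hH'c : Nat.card H' = m := by rw [hH', Coprime.card_conj_smul, hH]
      have hNH' : N ⊓ H' = ⊥ := Coprime.inf_eq_bot_of_coprime (hH'c ▸ hcm)
      set L := H' ⊔ N with hLdef
      have hLc : Nat.card L = m * Nat.card N := by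
        rw [hLdef, card_sup_of_inf_eq_bot (by rw [inf_comm, hNH']), hH'c]
      suffices hh : ∃ x : G, K ≤ MulAut.conj x • H' by
        obtain ⟨x, hx⟩ := hh
        exact ⟨x * g, by rwa [map_mul, mul_smul]⟩
      by_cases hn' : Nat.card L = k
      · have hdd : N ⊔ (H' ⊓ (N ⊔ K)) = N ⊔ K := by
          refine le_antisymm (sup_le le_sup_left inf_le_right) (sup_le le_sup_left fun x hx => ?_)
          obtain ⟨y, hy, z, hz, rfl⟩ := mem_sup_of_normal_right.mp (hgb hx)
          rw [sup_comm]
          refine mul_mem_sup ⟨hy, ?_⟩ hz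
          have := mul_mem (mem_sup_right (S := N) hx) (inv_mem (mem_sup_left (T := K) hz))
          simpa using this
        obtain ⟨x, -, hx⟩ := Coprime.exists_conj_of_sup_eq (N := N) (H := H' ⊓ (N ⊔ K)) (K := K)
          (by rw [normalizer_eq_top]; exact le_top)
          (le_bot_iff.mp (le_trans (inf_le_inf_left N inf_le_left) hNH'.le)) hKN hdd
          (hcm.coprime_dvd_right (hH'c ▸ card_dvd_of_le inf_le_left))
          (Or.inl inferInstance)
        exact ⟨x, hx ▸ pointwise_smul_le_pointwise_smul_iff.mpr inf_le_left⟩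
      · have hLlt : Nat.card L < k := lt_of_le_of_ne (hk ▸ card_le_card_group L) hn'
        obtain ⟨l, hl⟩ := ih _ hLlt L rfl m (Nat.card N) hLc hcm.symm
          (H'.subgroupOf L) (K.subgroupOf L)
          (by rw [Nat.card_congr (subgroupOfEquivOfLe (le_sup_left : H' ≤ L)).toEquiv, hH'c])
          (by rw [Nat.card_congr (subgroupOfEquivOfLe hgb).toEquiv]
              exact hK.coprime_dvd_right (dvd_mul_right _ n'))
        refine ⟨(l : G), ?_⟩
        have h := map_mono (f := L.subtype) hl
        rwa [map_subgroupOf_eq_of_le hgb, Coprime.map_conj_smul,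
          map_subgroupOf_eq_of_le le_sup_left] at h

/-- Hall: in a finite solvable group every subgroup of order prime to `n` is inside a conjugate of
any subgroup of order `m`, when the group order is `m * n` with `m, n` coprime. -/
theorem exists_le_conj_hall [Finite G] [Group.IsSolvable G] {m n : ℕ} (h : Nat.card G = m * n)
    (hc : m.Coprime n) {H : Subgroup G} (hH : Nat.card H = m) {K : Subgroup G}
    (hK : (Nat.card K).Coprime n) : ∃ g : G, K ≤ MulAut.conj g • H :=
  hall_le_aux _ G h m n rfl hc H K hH hK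

/-- Hall: two subgroups of the same order prime to its cofactor are conjugate. -/
theorem exists_conj_hall [Finite G] [Group.IsSolvable G] {m n : ℕ} (h : Nat.card G = m * n)
    (hc : m.Coprime n) {H K : Subgroup G} (hH : Nat.card H = m) (hK : Nat.card K = m) :
    ∃ g : G, MulAut.conj g • H = K := by
  obtain ⟨g, hg⟩ := exists_le_conj_hall h hc hH (hK ▸ hc)
  refine ⟨g, (eq_of_le_of_card_ge hg ?_).symm⟩
  rw [Coprime.card_conj_smul, hH, hK]

/-- Generalised Frattini argument for Hall subgroups of solvable normal subgroups. -/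
theorem sup_normalizer_hall [Finite G] {L : Subgroup G} [L.Normal] (hL : Group.IsSolvable L)
    {H : Subgroup G} (hHL : H ≤ L) (hH : (Nat.card H).Coprime (H.relIndex L)) :
    L ⊔ normalizer (H : Set G) = ⊤ := by
  refine top_le_iff.mp fun g _ => ?_
  have hle : MulAut.conj g • H ≤ L :=
    Coprime.conj_smul_le_self (by rw [normalizer_eq_top]; trivial) hHL
  have h1 : Nat.card (H.subgroupOf L) = Nat.card H :=
    Nat.card_congr (subgroupOfEquivOfLe hHL).toEquiv
  obtain ⟨l, hl⟩ := exists_conj_hall (G := L) (m := Nat.card H) (n := H.relIndex L)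
    (by rw [← h1]; exact (H.subgroupOf L).card_mul_index.symm) hH
    (H := (MulAut.conj g • H : Subgroup G).subgroupOf L) (K := H.subgroupOf L)
    (by rw [Nat.card_congr (subgroupOfEquivOfLe hle).toEquiv, Coprime.card_conj_smul]) h1
  have h := congrArg (Subgroup.map L.subtype) hl
  rw [Coprime.map_conj_smul, map_subgroupOf_eq_of_le hle, map_subgroupOf_eq_of_le hHL,
    ← mul_smul, ← map_mul] at h
  rw [← inv_mul_cancel_left (l : G) g]
  exact mul_mem_sup (inv_mem l.2) (Coprime.mem_normalizer_of_conj_smul_eq h)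

end Cfsg.Agent.Core
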