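import Mathlib.GroupTheory.Complement
import Mathlib.Data.Nat.Factorization.Basic
import Cfsg.Prelude.Def_SolvableStructure
import Cfsg.Agent.Core.Hall
import Cfsg.Agent.Char.Integral

/-!
Subgroups of coprime index, Hall complement systems, Wielandt's solvability criterion and Hall's
converse theorem; permuting subgroups.
-/

set_option autoImplicit false

namespace Cfsg.Agent.Core

open Subgroup
open scoped Pointwise

universe u

variable {G : Type u} [Group G]

theorem index_inf_of_coprime [Finite G] {H K : Subgroup G} (h : H.index.Coprime K.index) :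
    (H ⊓ K).index = H.index * K.index :=
  le_antisymm index_inf_le (Nat.le_of_dvd (Nat.pos_of_ne_zero index_ne_zero_of_finite)
    (h.mul_dvd_of_dvd_of_dvd (index_dvd_of_le inf_le_left) (index_dvd_of_le inf_le_right)))

theorem relIndex_eq_of_coprime [Finite G] {H K : Subgroup G} (h : H.index.Coprime K.index) :
    H.relIndex K = H.index := by
  have h' := relIndex_mul_index (inf_le_right : H ⊓ K ≤ K)
  rw [inf_relIndex_right, index_inf_of_coprime h] at h'
  exact Nat.eq_of_mul_eq_mul_right (Nat.pos_of_ne_zero index_ne_zero_of_finite) h'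

theorem exists_mul_eq_swap {H K : Subgroup G} (h : ∀ g : G, ∃ x ∈ H, ∃ y ∈ K, g = x * y) (g : G) :
    ∃ y ∈ K, ∃ x ∈ H, g = y * x := by
  obtain ⟨x, hx, y, hy, e⟩ := h g⁻¹
  exact ⟨y⁻¹, K.inv_mem hy, x⁻¹, H.inv_mem hx, by rw [← mul_inv_rev, ← e, inv_inv]⟩

/-- Subgroups of coprime index have product `G`. -/
theorem exists_mul_eq_of_coprime [Finite G] {H K : Subgroup G} (h : H.index.Coprime K.index)
    (g : G) : ∃ x ∈ H, ∃ y ∈ K, g = x * y := by
  have hr : K.relIndex H = K.index := relIndex_eq_of_coprime h.symm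
  let f : H ⧸ K.subgroupOf H → G ⧸ K := Quotient.map' Subtype.val (by
    intro a b hab
    rw [QuotientGroup.leftRel_apply] at hab ⊢
    exact hab)
  have hinj : Function.Injective f := by
    intro a b hab
    induction a using QuotientGroup.induction_on with
    | _ a =>
      induction b using QuotientGroup.induction_on with
      | _ b =>
        apply QuotientGroup.eq.mpr
        have hab' : ((a : G) : G ⧸ K) = ((b : G) : G ⧸ K) := hab
        show ((a⁻¹ * b : H) : G) ∈ K
        simpa using QuotientGroup.eq.mp hab'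
  obtain ⟨a, ha⟩ := (hinj.bijective_of_nat_card_le (by
    change K.index ≤ K.relIndex H
    exact hr.ge)).2 (g : G ⧸ K)
  induction a using QuotientGroup.induction_on with
  | _ a => exact ⟨a, a.2, (a : G)⁻¹ * g, QuotientGroup.eq.mp ha, by rw [mul_inv_cancel_left]⟩

private theorem wielandt_aux :
    ∀ (n : ℕ) (G : Type u) [Group G] [Finite G], Nat.card G = n →
      ∀ H₁ H₂ H₃ : Subgroup G, Group.IsSolvable H₁ → Group.IsSolvable H₂ → Group.IsSolvable H₃ →
      (∀ g : G, ∃ x ∈ H₁, ∃ y ∈ H₂, g = x * y) → (∀ g : G, ∃ x ∈ H₁, ∃ y ∈ H₃, g = x * y) →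
      H₂.index.Coprime H₃.index → Group.IsSolvable G := by
  intro n
  induction n using Nat.strong_induction_on with
  | _ n ih =>
    intro G _ _ hn H₁ H₂ H₃ h₁ h₂ h₃ h12 h13 hcop
    by_cases hb : H₁ = ⊥
    · refine Group.isSolvable_of_surjective (f := H₂.subtype) fun g => ?_
      obtain ⟨x, hx, y, hy, rfl⟩ := h12 g
      refine ⟨⟨y, hy⟩, ?_⟩
      rw [hb, mem_bot] at hx
      simp [hx]
    have : Nontrivial H₁ := (nontrivial_iff_ne_bot H₁).mpr hb
    obtain ⟨N₀, hN₀⟩ := exists_isMinNormal (G := H₁)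
    obtain ⟨p, hp, hNp, -⟩ := hN₀.exists_isPGroup
    have := Fact.mk hp
    set N := N₀.map H₁.subtype with hN
    have hNne : N ≠ ⊥ := fun h => hN₀.ne_bot
      ((map_eq_bot_iff_of_injective _ H₁.subtype_injective).mp h)
    have key : ∀ H : Subgroup G, Group.IsSolvable H → (∀ g : G, ∃ x ∈ H₁, ∃ y ∈ H, g = x * y) →
        ¬ p ∣ H.index → ∃ M : Subgroup G, M.Normal ∧ M ≠ ⊥ ∧ Group.IsSolvable M := by
      intro H hH hG hp'
      obtain ⟨P⟩ := (inferInstance : Nonempty (Sylow p H))
      set P' := (P : Subgroup H).map H.subtype with hP'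
      have hidx : ¬ p ∣ P'.index := by
        rw [hP', index_map_subtype]
        exact fun hd => (hp.dvd_mul.mp hd).elim P.not_dvd_index hp'
      obtain ⟨Q, hQ⟩ := (hNp.map H₁.subtype).exists_le_sylow
      obtain ⟨g, hg⟩ := MulAction.exists_smul_eq G ((P.isPGroup'.map H.subtype).toSylow hidx) Q
      have hg' : MulAut.conj g • P' = (Q : Subgroup G) := by
        rw [← hg, Sylow.coe_subgroup_smul, IsPGroup.toSylow_coe]
      obtain ⟨x, hx, y, hy, rfl⟩ := hG g
      have hNH : N ≤ H := by
        intro v hv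
        have hv' : x * v * x⁻¹ ∈ N := by
          obtain ⟨u, hu, rfl⟩ := hv
          exact ⟨⟨x, hx⟩ * u * ⟨x, hx⟩⁻¹, hN₀.normal.conj_mem u hu _, rfl⟩
        have hQv := hQ hv'
        rw [← hg', Coprime.mem_conj_smul] at hQv
        have h3 : (x * y)⁻¹ * (x * v * x⁻¹) * (x * y) ∈ H := map_subtype_le (P : Subgroup H) hQv
        have h4 := H.mul_mem (H.mul_mem hy h3) (H.inv_mem hy)
        simpa [mul_assoc] using h4
      have hle : normalClosure (N : Set G) ≤ H := by
        refine (closure_le _).mpr fun z hz => ?_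
        obtain ⟨v, hv, hvz⟩ := Group.mem_conjugatesOfSet_iff.mp hz
        obtain ⟨c, rfl⟩ := isConj_iff.mp hvz
        obtain ⟨y, hy, x, hx, rfl⟩ := exists_mul_eq_swap hG c
        have hv' : x * v * x⁻¹ ∈ H := by
          refine hNH ?_
          obtain ⟨u, hu, rfl⟩ := hv
          exact ⟨⟨x, hx⟩ * u * ⟨x, hx⟩⁻¹, hN₀.normal.conj_mem u hu _, rfl⟩
        have := H.mul_mem (H.mul_mem hy hv') (H.inv_mem hy)
        simpa [mul_assoc] using this
      exact ⟨normalClosure (N : Set G), normalClosure_normal,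
        fun h => hNne (le_bot_iff.mp (le_normalClosure.trans h.le)), isSolvable_mono hH hle⟩
    obtain ⟨M, hMn, hMb, hMs⟩ : ∃ M : Subgroup G, M.Normal ∧ M ≠ ⊥ ∧ Group.IsSolvable M := by
      by_cases h : p ∣ H₂.index
      · exact key H₃ h₃ h13 fun h' => hp.one_lt.ne' (Nat.eq_one_of_dvd_coprimes hcop h h')
      · exact key H₂ h₂ h12 h
    set f := QuotientGroup.mk' M
    have hs := QuotientGroup.mk'_surjective M
    have hprod : ∀ A B : Subgroup G, (∀ g : G, ∃ x ∈ A, ∃ y ∈ B, g = x * y) →
        ∀ g : G ⧸ M, ∃ x ∈ A.map f, ∃ y ∈ B.map f, g = x * y := by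
      intro A B hAB g
      obtain ⟨g, rfl⟩ := hs g
      obtain ⟨x, hx, y, hy, rfl⟩ := hAB g
      exact ⟨f x, mem_map_of_mem _ hx, f y, mem_map_of_mem _ hy, map_mul f x y⟩
    have := ih _ (hn ▸ card_quotient_lt hMb) (G ⧸ M) rfl (H₁.map f) (H₂.map f) (H₃.map f)
      (isSolvable_map h₁ f) (isSolvable_map h₂ f) (isSolvable_map h₃ f)
      (hprod _ _ h12) (hprod _ _ h13)
      ((hcop.coprime_dvd_left (index_map_dvd _ hs)).coprime_dvd_right (index_map_dvd _ hs))
    exact (Group.isSolvable_iff_subgroup_quotient M).mpr ⟨hMs, this⟩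

/-- Wielandt: `G = H₁H₂ = H₁H₃` with solvable `Hᵢ` and coprime indices of `H₂`, `H₃` is solvable. -/
theorem isSolvable_of_three [Finite G] (H₁ H₂ H₃ : Subgroup G) (h₁ : Group.IsSolvable H₁)
    (h₂ : Group.IsSolvable H₂) (h₃ : Group.IsSolvable H₃)
    (h12 : ∀ g : G, ∃ x ∈ H₁, ∃ y ∈ H₂, g = x * y) (h13 : ∀ g : G, ∃ x ∈ H₁, ∃ y ∈ H₃, g = x * y)
    (hcop : H₂.index.Coprime H₃.index) : Group.IsSolvable G :=
  wielandt_aux _ G rfl H₁ H₂ H₃ h₁ h₂ h₃ h12 h13 hcop

theorem coprime_prime_pow {p q : ℕ} (hp : p.Prime) (hq : q.Prime) (h : p ≠ q) (a b : ℕ) :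
    (p ^ a).Coprime (q ^ b) :=
  Nat.Coprime.pow a b ((Nat.coprime_primes hp hq).mpr h)

theorem exists_complementSystem [Finite G] [Group.IsSolvable G] :
    ∃ K : Nat.Primes → Subgroup G, IsComplementSystem K := by
  suffices h : ∀ p : Nat.Primes, ∃ H : Subgroup G,
      H.index = (p : ℕ) ^ (Nat.card G).factorization p from
    ⟨fun p => (h p).choose, fun p => (h p).choose_spec⟩
  intro p
  set N := Nat.card G
  have h : N = ordCompl[(p : ℕ)] N * ordProj[(p : ℕ)] N := by
    rw [mul_comm, Nat.ordProj_mul_ordCompl_eq_self]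
  obtain ⟨H, hH⟩ := exists_hall h
    ((Nat.coprime_ordCompl p.2 Nat.card_pos.ne').symm.pow_right _)
  refine ⟨H, ?_⟩
  have h' := H.card_mul_index
  rw [hH] at h'
  exact Nat.eq_of_mul_eq_mul_left
    (Nat.pos_of_ne_zero fun e => (Nat.card_pos (α := H)).ne' (hH.trans e)) (h'.trans h)

/-- Hall's converse theorem. -/
theorem isSolvable_of_complements [Finite G]
    (h : ∀ p : ℕ, p.Prime → ∃ H : Subgroup G, H.index = p ^ (Nat.card G).factorization p) :
    Group.IsSolvable G := by
  suffices H : ∀ (n : ℕ) (G : Type u) [Group G] [Finite G], Nat.card G = n →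
      (∀ p : ℕ, p.Prime → ∃ H : Subgroup G, H.index = p ^ (Nat.card G).factorization p) →
      Group.IsSolvable G from H _ G rfl h
  clear h
  intro n
  induction n using Nat.strong_induction_on with
  | _ n ih =>
    intro G _ _ hn h
    by_cases htwo : ∃ p q : ℕ, p.Prime ∧ q.Prime ∧ (Nat.card G).primeFactors ⊆ {p, q}
    · obtain ⟨p, q, hp, hq, hsub⟩ := htwo
      refine Char.isSolvable_of_card_eq p q hp hq _ G rfl ?_
      have hprod := Nat.prod_factorization_pow_eq_self (Nat.card_pos (α := G)).ne'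
      rw [Finsupp.prod, Nat.support_factorization] at hprod
      rw [Finset.prod_subset hsub fun x _ hx => by
        rw [Finsupp.notMem_support_iff.mp (by rwa [Nat.support_factorization]), pow_zero]] at hprod
      by_cases hpq : p = q
      · subst hpq
        exact ⟨(Nat.card G).factorization p, 0, by simpa using hprod.symm⟩
      · rw [Finset.prod_pair hpq] at hprod
        exact ⟨_, _, hprod.symm⟩
    push Not at htwo
    rcases subsingleton_or_nontrivial G with hs | hs
    · exact Group.isSolvable_of_comm fun a b => Subsingleton.elim _ _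
    obtain ⟨p, hpf⟩ : (Nat.card G).primeFactors.Nonempty :=
      Nat.nonempty_primeFactors.mpr Finite.one_lt_card
    have hp := Nat.prime_of_mem_primeFactors hpf
    obtain ⟨q, hqf, hq'⟩ := Finset.not_subset.mp (htwo p p hp hp)
    have hq := Nat.prime_of_mem_primeFactors hqf
    obtain ⟨r, hrf, hr'⟩ := Finset.not_subset.mp (htwo p q hp hq)
    have hr := Nat.prime_of_mem_primeFactors hrf
    simp only [Finset.mem_insert, Finset.mem_singleton, or_self] at hq' hr'
    push Not at hr'
    have sol : ∀ s : ℕ, s ∈ (Nat.card G).primeFactors → ∀ K : Subgroup G,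
        K.index = s ^ (Nat.card G).factorization s → Group.IsSolvable K := by
      intro s hs' K hK
      have hs'' := Nat.prime_of_mem_primeFactors hs'
      have hlt : Nat.card K < n := by
        refine hn ▸ card_lt_of_ne_top fun e => ?_
        rw [e, index_top, eq_comm, Nat.pow_eq_one] at hK
        rcases hK with hK | hK
        · exact hs''.one_lt.ne' hK
        · exact (hs''.factorization_pos_of_dvd Nat.card_pos.ne'
            (Nat.dvd_of_mem_primeFactors hs')).ne' hK
      refine ih _ hlt K rfl fun t ht => ?_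
      have hf := congrArg (fun k : ℕ => k.factorization t) K.card_mul_index
      rw [Nat.factorization_mul Nat.card_pos.ne' index_ne_zero_of_finite, hK, Finsupp.add_apply,
        Nat.Prime.factorization_pow hs'', Finsupp.single_apply] at hf
      by_cases hts : s = t
      · subst hts
        refine ⟨⊤, ?_⟩
        rw [if_pos rfl] at hf
        rw [index_top, show (Nat.card K).factorization s = 0 by omega, pow_zero]
      · obtain ⟨T, hT⟩ := h t ht
        refine ⟨T.subgroupOf K, ?_⟩
        rw [if_neg hts, add_zero] at hf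
        rw [hf, ← hT]
        exact relIndex_eq_of_coprime (by rw [hT, hK]; exact coprime_prime_pow ht hs'' (Ne.symm hts) _ _)
    obtain ⟨A, hA⟩ := h p hp
    obtain ⟨B, hB⟩ := h q hq
    obtain ⟨C, hC⟩ := h r hr
    refine isSolvable_of_three A B C (sol p hpf A hA) (sol q hqf B hB) (sol r hrf C hC)
      (exists_mul_eq_of_coprime ?_) (exists_mul_eq_of_coprime ?_) ?_
    · rw [hA, hB]; exact coprime_prime_pow hp hq (Ne.symm hq') _ _
    · rw [hA, hC]; exact coprime_prime_pow hp hr (Ne.symm hr'.1) _ _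
    · rw [hB, hC]; exact coprime_prime_pow hq hr (Ne.symm hr'.2) _ _

/-- For a complement system, the intersection over a finite set of primes has the expected index. -/
theorem index_finset_inf [Finite G] {K : Nat.Primes → Subgroup G} (hK : IsComplementSystem K)
    (T : Finset Nat.Primes) :
    (T.inf K).index = ∏ p ∈ T, (p : ℕ) ^ (Nat.card G).factorization p := by
  classical
  induction T using Finset.induction_on with
  | empty => simp
  | @insert a T ha ih =>
    rw [Finset.inf_insert, Finset.prod_insert ha, index_inf_of_coprime, hK a, ih]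
    rw [hK a, ih]
    exact Nat.Coprime.prod_right fun q hq =>
      coprime_prime_pow a.2 q.2 (fun e => ha (by rwa [← Subtype.ext e] at hq)) _ _

/-- The set of primes dividing the group order, as a finset of `Nat.Primes`. -/
noncomputable def primesOf (G : Type u) : Finset Nat.Primes :=
  (Nat.card G).primeFactors.attach.map
    ⟨fun (q : (Nat.card G).primeFactors) =>
        (⟨q.1, Nat.prime_of_mem_primeFactors q.2⟩ : Nat.Primes),
      fun a b h => Subtype.ext (congrArg (fun x : Nat.Primes => (x : ℕ)) h)⟩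

theorem mem_primesOf [Finite G] {q : Nat.Primes} : q ∈ primesOf G ↔ (q : ℕ) ∣ Nat.card G := by
  simp only [primesOf, Finset.mem_map, Finset.mem_attach, true_and, Subtype.exists]
  constructor
  · rintro ⟨a, ha, rfl⟩
    exact Nat.dvd_of_mem_primeFactors ha
  · exact fun h => ⟨q.1, Nat.mem_primeFactors.mpr ⟨q.2, h, Nat.card_pos.ne'⟩, rfl⟩

theorem prod_primes_eq_card [Finite G] {T : Finset Nat.Primes} (hT : primesOf G ⊆ T) :
    ∏ q ∈ T, (q : ℕ) ^ (Nat.card G).factorization q = Nat.card G := by
  rw [← Finset.prod_subset hT fun q _ hq => by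
    rw [mem_primesOf] at hq
    rw [Nat.factorization_eq_zero_of_not_dvd hq, pow_zero]]
  rw [primesOf, Finset.prod_map]
  have h := Nat.prod_factorization_pow_eq_self (Nat.card_pos (α := G)).ne'
  rw [Finsupp.prod, Nat.support_factorization, ← Finset.prod_attach] at h
  exact h

theorem card_finset_inf [Finite G] {K : Nat.Primes → Subgroup G} (hK : IsComplementSystem K)
    {T U : Finset Nat.Primes} (hTU : Disjoint T U) (hcov : primesOf G ⊆ T.disjUnion U hTU) :
    Nat.card (T.inf K : Subgroup G) = ∏ q ∈ U, (q : ℕ) ^ (Nat.card G).factorization q := by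
  have h := (T.inf K).card_mul_index
  rw [index_finset_inf hK, mul_comm] at h
  have h' := prod_primes_eq_card hcov
  rw [Finset.prod_disjUnion] at h'
  exact Nat.eq_of_mul_eq_mul_left
    (Finset.prod_pos fun (q : Nat.Primes) _ => pow_pos q.2.pos _) (h.trans h'.symm)

theorem coe_mul_eq_of_card [Finite G] {H K L : Subgroup G} (hH : H ≤ L) (hK : K ≤ L)
    (hd : Disjoint H K) (hc : Nat.card H * Nat.card K = Nat.card L) :
    (H : Set G) * (K : Set G) = (L : Set G) := by
  have hsub : (H : Set G) * (K : Set G) ⊆ L := by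
    rintro _ ⟨x, hx, y, hy, rfl⟩
    exact L.mul_mem (hH hx) (hK hy)
  refine Set.eq_of_subset_of_ncard_le hsub ?_ (Set.toFinite _)
  have h := Set.ncard_range_of_injective (mul_injective_of_disjoint hd)
  rw [Nat.card_prod, hc] at h
  rw [← Nat.card_coe_set_eq, SetLike.coe_sort_coe, ← h]
  refine le_of_eq (congrArg Set.ncard ?_)
  ext z
  simp [Set.mem_mul]

/-- Two permuting subgroups form a subgroup, the join. -/
theorem exists_sup_of_mul_comm {H K : Subgroup G}
    (h : (H : Set G) * (K : Set G) = (K : Set G) * (H : Set G)) :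
    ((H ⊔ K : Subgroup G) : Set G) = (H : Set G) * (K : Set G) := by
  let S : Subgroup G :=
    { carrier := (H : Set G) * (K : Set G)
      one_mem' := ⟨1, H.one_mem, 1, K.one_mem, one_mul 1⟩
      mul_mem' := by
        rintro _ _ ⟨a, ha, b, hb, rfl⟩ ⟨c, hc, d, hd, rfl⟩
        have hbc : b * c ∈ (H : Set G) * (K : Set G) := h ▸ Set.mul_mem_mul hb hc
        obtain ⟨e, he, f, hf, hef⟩ := hbc
        refine ⟨a * e, H.mul_mem ha he, f * d, K.mul_mem hf hd, ?_⟩
        calc a * e * (f * d) = a * (e * f) * d := by simp [mul_assoc]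
          _ = a * (b * c) * d := congrArg (fun z => a * z * d) hef
          _ = _ := by simp [mul_assoc]
      inv_mem' := by
        rintro _ ⟨a, ha, b, hb, rfl⟩
        show (a * b)⁻¹ ∈ (H : Set G) * (K : Set G)
        rw [h, mul_inv_rev]
        exact Set.mul_mem_mul (K.inv_mem hb) (H.inv_mem ha) }
  refine le_antisymm ?_ ?_
  · intro x hx
    have hle : H ⊔ K ≤ S := sup_le (fun x hx => ⟨x, hx, 1, K.one_mem, mul_one x⟩)
      fun x hx => ⟨1, H.one_mem, x, hx, one_mul x⟩
    exact hle hx
  · rintro _ ⟨a, ha, b, hb, rfl⟩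
    exact mul_mem_sup ha hb

end Cfsg.Agent.Core
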