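import Mathlib.GroupTheory.Complement
import Mathlib.Algebra.IsPrimePow
import Cfsg.Agent.Core.MinimalNormal
import Cfsg.Agent.Core.Frattini

/-!
Complements of abelian normal subgroups, maximal subgroups of solvable groups, centres of
nilpotent groups.
-/

namespace Cfsg.Agent.Core

open Subgroup
open scoped Pointwise

variable {G : Type*} [Group G]

/-- A nontrivial normal subgroup of a finite nilpotent group meets the centre. -/
theorem inf_center_ne_bot [Finite G] [Group.IsNilpotent G] {N : Subgroup G} [N.Normal]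
    (hN : N ≠ ⊥) : N ⊓ center G ≠ ⊥ := fun h =>
  let ⟨_, hMN, hM⟩ := exists_isMinNormal_le hN
  hM.ne_bot (le_bot_iff.mp ((le_inf hMN hM.le_center).trans h.le))

/-- If `A` is abelian normal and `M ⊔ A = ⊤` then `M ⊓ A` is normal. -/
theorem inf_normal_of_sup_eq_top {A M : Subgroup G} [hA : A.Normal] [IsMulCommutative A]
    (h : M ⊔ A = ⊤) : (M ⊓ A).Normal := by
  refine normalizer_eq_top_iff.mp (top_le_iff.mp ?_)
  rw [← h, sup_le_iff]
  refine ⟨fun m hm => mem_normalizer_iff.mpr fun x => ⟨fun hx => ?_, fun hx => ?_⟩, fun a ha =>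
    mem_normalizer_iff.mpr fun x => ?_⟩
  · exact ⟨M.mul_mem (M.mul_mem hm hx.1) (M.inv_mem hm), hA.conj_mem x hx.2 m⟩
  · have h2 := M.mul_mem (M.mul_mem (M.inv_mem hm) hx.1) hm
    have h3 := hA.conj_mem _ hx.2 m⁻¹
    simp [mul_assoc] at h2 h3
    exact ⟨h2, h3⟩
  · by_cases hxA : x ∈ A
    · rw [setLike_mul_comm ha hxA, mul_assoc, mul_inv_cancel, mul_one]
    · refine iff_of_false (fun hx => hxA hx.2) fun hx => hxA ?_
      have h3 := A.mul_mem (A.mul_mem (A.inv_mem ha) hx.2) ha
      simpa [mul_assoc] using h3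

/-- An abelian normal subgroup meeting the Frattini subgroup trivially has a complement. -/
theorem exists_isComplement'_of_inf_frattini [Finite G] {A : Subgroup G} [A.Normal]
    [IsMulCommutative A] (h : A ⊓ frattini G = ⊥) : ∃ H : Subgroup G, IsComplement' A H := by
  obtain ⟨U, hU, hmin⟩ := (Set.toFinite {U : Subgroup G | U ⊔ A = ⊤}).exists_minimal
    ⟨⊤, top_sup_eq A⟩
  have hn : (U ⊓ A).Normal := inf_normal_of_sup_eq_top hU
  have hb : U ⊓ A = ⊥ := by
    refine le_bot_iff.mp (h ▸ le_inf inf_le_right (le_frattini fun M hM => ?_))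
    by_contra hle
    have htop : M ⊔ (U ⊓ A) = ⊤ :=
      hM.2 _ (lt_of_le_of_ne le_sup_left fun e => hle (e ▸ le_sup_right))
    refine hle (inf_le_left.trans (le_trans ?_ (inf_le_right : U ⊓ M ≤ M)))
    refine hmin (show U ⊓ M ⊔ A = ⊤ from ?_) inf_le_left
    refine top_le_iff.mp (hU.ge.trans (sup_le (fun u hu => ?_) le_sup_right))
    have hu' : u ∈ M ⊔ (U ⊓ A) := htop ▸ mem_top u
    obtain ⟨m, hm, d, hd, rfl⟩ := mem_sup_of_normal_right.mp hu'
    refine mul_mem_sup ⟨?_, hm⟩ hd.2
    have := mul_mem hu (inv_mem hd.1)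
    simpa using this
  refine ⟨U, isComplement'_of_disjoint_and_mul_eq_univ (disjoint_iff.mpr (by rw [inf_comm, hb])) ?_⟩
  rw [← normal_mul, sup_comm, hU, coe_top]

/-- The index of a maximal subgroup of a finite solvable group is a prime power. -/
theorem isPrimePow_index_of_isCoatom [Finite G] [Group.IsSolvable G] {M : Subgroup G}
    (hM : IsCoatom M) : IsPrimePow M.index := by
  -- the smallest normal subgroup not in `M`
  obtain ⟨N, ⟨hN, hNM⟩, hmin⟩ := (Set.toFinite {N : Subgroup G | N.Normal ∧ ¬ N ≤ M}).exists_minimal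
    ⟨⊤, inferInstance, fun h => hM.1 (top_le_iff.mp h)⟩
  -- modulo the core, `N` is a minimal normal subgroup
  set C := M.normalCore with hC
  set f := QuotientGroup.mk' C
  have hs := QuotientGroup.mk'_surjective C
  have hker : f.ker ≤ M := by rw [QuotientGroup.ker_mk']; exact normalCore_le M
  have hNb : (N.map f).Normal := hN.map f hs
  have hne : N.map f ≠ ⊥ := fun h => hNM (((map_eq_bot_iff N).mp h).trans hker)
  obtain ⟨T, hTN, hT⟩ := exists_isMinNormal_le hne
  obtain ⟨p, hp, hTp, -⟩ := hT.exists_isPGroup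
  have hTM : ¬ T.comap f ≤ M := fun h => hT.ne_bot (by
    have := hT.normal
    have h' := map_mono (f := f) (normal_le_normalCore.mpr h : T.comap f ≤ C)
    rw [map_comap_eq_self_of_surjective hs, QuotientGroup.map_mk'_self] at h'
    exact le_bot_iff.mp h')
  have := Fact.mk hp
  have := hT.normal
  have hMf : IsCoatom (M.map f) := by
    refine ⟨fun e => hM.1 ?_, fun K hK => ?_⟩
    · rw [← comap_map_eq_self hker, e, comap_top]
    · have h := comap_lt_comap_of_surjective hs |>.mpr hK
      rw [comap_map_eq_self hker] at h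
      rw [← map_comap_eq_self_of_surjective hs K, hM.2 _ h, map_top_of_surjective _ hs]
  have htop : M.map f ⊔ T = ⊤ := hMf.2 _ (lt_of_le_of_ne le_sup_left fun e => hTM
    ((comap_mono (le_sup_right.trans e.ge)).trans (comap_map_eq_self hker).le))
  have hidx : (M.map f).index ∣ Nat.card T := by
    have h1 := card_sup_mul_card_inf (M.map f) T
    rw [htop, card_top, ← card_mul_index (M.map f), mul_assoc] at h1
    exact ⟨_, (Nat.eq_of_mul_eq_mul_left Nat.card_pos h1).symm⟩
  rw [← index_map_eq M hs hker]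
  obtain ⟨n, hn⟩ := IsPGroup.iff_card.mp hTp
  obtain ⟨k, -, hk⟩ := (Nat.dvd_prime_pow hp).mp (hn ▸ hidx)
  refine ⟨p, k, hp.prime, Nat.pos_of_ne_zero fun h => hMf.1 (index_eq_one.mp ?_), hk.symm⟩
  rw [hk, h, pow_zero]

end Cfsg.Agent.Core
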