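import Mathlib.GroupTheory.Complement
import Mathlib.GroupTheory.Index
import Mathlib.Algebra.BigOperators.Group.Finset.Basic
import Cfsg.Agent.Coprime.Tools

/-!
Gaschütz's theorem on complements of abelian normal subgroups: an abelian normal subgroup `K` with
`|K|` prime to the index of an intermediate subgroup `U` is complemented if it is complemented in
`U`, and complements with the same trace on `U` are conjugate.
-/

set_option autoImplicit false

namespace Cfsg.Agent.Core

open Subgroup
open scoped Pointwise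

universe u

variable {G : Type u} [Group G] [Finite G]

/-- In an abelian group of order prime to `m` every element is an `m`-th power. -/
theorem exists_pow_eq_of_coprime {K : Type*} [Group K] [Finite K] {m : ℕ}
    (h : (Nat.card K).Coprime m) (k : K) : ∃ e : K, e ^ m = k :=
  ⟨(powCoprime h).symm k, (powCoprime h).apply_symm_apply k⟩

theorem gaschutz_conj {K U : Subgroup G} [K.Normal] [IsMulCommutative K]
    (hKU : K ≤ U) (hcop : (Nat.card K).Coprime U.index)
    {H₀ H₁ : Subgroup G} (h₀ : IsComplement' K H₀) (h₁ : IsComplement' K H₁)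
    (hU : H₀ ⊓ U = H₁ ⊓ U) : ∃ k ∈ K, MulAut.conj k • H₀ = H₁ := by
  classical
  open scoped IsMulCommutative in
  -- `δ x * x ∈ H₁`
  have hex : ∀ x : G, ∃ k : K, (k : G) * x ∈ H₁ := fun x => by
    obtain ⟨⟨k, y⟩, e⟩ := h₁.2 x
    refine ⟨k⁻¹, ?_⟩
    have : (k : G)⁻¹ * x = y := by rw [← e]; simp
    rw [Subgroup.coe_inv, this]
    exact y.2
  choose δ hδ using hex
  have huniq : ∀ (x : G) (k : K), (k : G) * x ∈ H₁ → k = δ x := by
    intro x k hk
    have h := H₁.mul_mem hk (H₁.inv_mem (hδ x))
    have h2 : (k : G) * ((δ x : K) : G)⁻¹ ∈ K ⊓ H₁ := by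
      refine ⟨K.mul_mem k.2 (K.inv_mem (δ x).2), ?_⟩
      simpa [mul_assoc] using h
    rw [disjoint_iff.mp h₁.disjoint, mem_bot, mul_inv_eq_one] at h2
    exact Subtype.ext h2
  have hmul : ∀ x y : G, δ (x * y) = δ x * (MulAut.conjNormal x (δ y)) := fun x y => by
    refine (huniq _ _ ?_).symm
    have := H₁.mul_mem (hδ x) (hδ y)
    rw [Subgroup.coe_mul, MulAut.conjNormal_apply]
    simpa [mul_assoc] using this
  have hright : ∀ x y : G, y ∈ H₀ ⊓ U → δ (x * y) = δ x := fun x y hy => by
    rw [hU] at hy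
    have : δ y = 1 := (huniq y 1 (by simpa using hy.1)).symm
    rw [hmul, this, map_one, mul_one]
  -- average over `H₀ / (H₀ ∩ U)`
  set V := U.subgroupOf H₀ with hV
  have hidx : V.index = U.index := by
    have h1 : U.relIndex (K ⊔ H₀) = U.index := by rw [h₀.sup_eq_top, relIndex_top_right]
    rw [← h1]
    show U.relIndex H₀ = U.relIndex (K ⊔ H₀)
    refine le_antisymm (relIndex_le_of_le_right le_sup_right ?_) ?_
    · rw [h1]; exact index_ne_zero_of_finite
    · rw [h1, index_eq_card]
      refine Nat.card_le_card_of_surjective (α := H₀ ⧸ U.subgroupOf H₀)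
        (Quotient.map' Subtype.val fun a b hab => by
          rw [QuotientGroup.leftRel_apply] at hab ⊢; exact hab) fun q => ?_
      induction q using QuotientGroup.induction_on with
      | _ g =>
        obtain ⟨⟨k, h⟩, rfl⟩ := h₀.2 g
        refine ⟨QuotientGroup.mk h, QuotientGroup.eq.mpr ?_⟩
        have := hKU (‹K.Normal›.conj_mem k k.2 (h : G)⁻¹)
        simpa [mul_assoc] using this
  let d : H₀ ⧸ V → K := Quotient.lift (fun x : H₀ => δ x) fun a b hab => by
    have hab' : a⁻¹ * b ∈ V := QuotientGroup.leftRel_apply.mp hab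
    show δ a = δ b
    rw [← hright a ((a : G)⁻¹ * b) ⟨H₀.mul_mem (H₀.inv_mem a.2) b.2, hab'⟩, mul_inv_cancel_left]
  have := Fintype.ofFinite (H₀ ⧸ V)
  open scoped IsMulCommutative in
  let c : K := ∏ q, d q
  open scoped IsMulCommutative in
  have hc : ∀ x : H₀, c = δ x ^ U.index * MulAut.conjNormal (x : G) c := fun x => by
    have h1 : ∀ q, d (x • q) = δ x * MulAut.conjNormal (x : G) (d q) := fun q => by
      induction q using QuotientGroup.induction_on with
      | _ y => exact hmul x y
    calc c = ∏ q, d (x • q) := (Equiv.prod_comp (MulAction.toPerm x) d).symm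
      _ = ∏ q, δ x * MulAut.conjNormal (x : G) (d q) := Finset.prod_congr rfl fun q _ => h1 q
      _ = _ := by
        rw [Finset.prod_mul_distrib, Finset.prod_const, Finset.card_univ, map_prod,
          ← Nat.card_eq_fintype_card, ← index_eq_card, hidx]
  obtain ⟨e, he⟩ := exists_pow_eq_of_coprime hcop c
  refine ⟨e, e.2, ?_⟩
  refine eq_of_le_of_card_ge (fun y hy => ?_) ?_
  · rw [Coprime.mem_conj_smul] at hy
    set x := (e : G)⁻¹ * y * e with hx
    have hδx : δ x = e * (MulAut.conjNormal x e)⁻¹ := by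
      open scoped IsMulCommutative in
      refine (powCoprime hcop).injective ?_
      open scoped IsMulCommutative in
      show δ x ^ U.index = (e * (MulAut.conjNormal x e)⁻¹) ^ U.index
      open scoped IsMulCommutative in
      rw [mul_pow, inv_pow, ← map_pow, he, eq_mul_inv_iff_mul_eq]
      exact (hc ⟨x, hy⟩).symm
    have h2 := hδ x
    rw [hδx] at h2
    simp only [Subgroup.coe_mul, Subgroup.coe_inv, MulAut.conjNormal_apply, hx] at h2
    simpa [mul_assoc] using h2
  · rw [Coprime.card_conj_smul]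
    have e1 := h₀.card_mul_card.trans h₁.card_mul_card.symm
    exact (Nat.eq_of_mul_eq_mul_left Nat.card_pos e1).ge

theorem gaschutz_exists {K U : Subgroup G} [K.Normal] [IsMulCommutative K]
    (hKU : K ≤ U) (hcop : (Nat.card K).Coprime U.index)
    {A : Subgroup G} (hAU : A ≤ U) (hAK : A ⊓ K = ⊥) (hKA : K ⊔ A = U) :
    ∃ H : Subgroup G, IsComplement' K H := by
  classical
  have := Fintype.ofFinite (G ⧸ U)
  -- a section which is right equivariant for `A`
  have hdec : ∀ g : G, ∃ a : A, ∃ k : K,
      g = (Quotient.out (QuotientGroup.mk g : G ⧸ U)) * (a : G) * (k : G) := fun g => by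
    have h1 : (Quotient.out (QuotientGroup.mk g : G ⧸ U))⁻¹ * g ∈ A ⊔ K := by
      rw [sup_comm, hKA]
      exact QuotientGroup.eq.mp (QuotientGroup.out_eq' _)
    obtain ⟨a, ha, k, hk, e⟩ := mem_sup_of_normal_right.mp h1
    exact ⟨⟨a, ha⟩, ⟨k, hk⟩, by rw [mul_assoc]; simp only; rw [e, mul_inv_cancel_left]⟩
  choose α κ hακ using hdec
  let s : G → G := fun g => (Quotient.out (QuotientGroup.mk g : G ⧸ U)) * (α g : G)
  have huniq : ∀ g : G, ∀ a : A, ∀ k : K,
      g = (Quotient.out (QuotientGroup.mk g : G ⧸ U)) * (a : G) * (k : G) → α g = a := by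
    intro g a k e
    have e3 := (hακ g).symm.trans e
    rw [mul_assoc, mul_assoc] at e3
    have e2 : (α g : G) * κ g = a * k := mul_left_cancel e3
    exact (Subtype.ext (congrArg Subtype.val (congrArg Prod.fst (Subgroup.mul_injective_of_disjoint
      (disjoint_iff.mpr hAK) (a₁ := (α g, κ g)) (a₂ := (a, k)) e2))) : α g = a)
  have hsK : ∀ g : G, ∀ k : K, s (g * k) = s g := fun g k => by
    have hmk : (QuotientGroup.mk (g * (k : G)) : G ⧸ U) = QuotientGroup.mk g :=
      QuotientGroup.eq.mpr (by simpa [mul_assoc] using U.inv_mem (hKU k.2))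
    have h : α (g * k) = α g := huniq _ _ (κ g * k) (by
      rw [hmk, Subgroup.coe_mul]
      conv_lhs => rw [hακ g]
      simp [mul_assoc])
    simp only [s, hmk, h]
  have hsA : ∀ g : G, ∀ a : A, s (g * a) = s g * a := fun g a => by
    have hmk : (QuotientGroup.mk (g * (a : G)) : G ⧸ U) = QuotientGroup.mk g :=
      QuotientGroup.eq.mpr (by simpa [mul_assoc] using U.inv_mem (hAU a.2))
    have h : α (g * a) = α g * a := huniq _ _
      ⟨(a : G)⁻¹ * κ g * a, by simpa using ‹K.Normal›.conj_mem _ (κ g).2 (a : G)⁻¹⟩ (by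
        rw [hmk, Subgroup.coe_mul]
        conv_lhs => rw [hακ g]
        simp [mul_assoc])
    simp only [s, hmk, h, Subgroup.coe_mul, mul_assoc]
  have hs : ∀ g : G, (s g)⁻¹ * g ∈ K := fun g => by
    have h : (s g)⁻¹ * g = (κ g : G) := by
      show ((Quotient.out (QuotientGroup.mk g : G ⧸ U)) * (α g : G))⁻¹ * g = _
      conv_lhs => arg 2; rw [hακ g]
      simp [mul_assoc]
    rw [h]; exact (κ g).2
  -- the factor set
  have hf : ∀ x y : G, s x * s y * (s (x * y))⁻¹ ∈ K := fun x y => by
    rw [← QuotientGroup.eq_one_iff]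
    have h : ∀ g, (QuotientGroup.mk (s g) : G ⧸ K) = QuotientGroup.mk g := fun g =>
      QuotientGroup.eq.mpr (hs g)
    simp [h]
  let f : G → G → K := fun x y => ⟨_, hf x y⟩
  have hfA : ∀ x y : G, ∀ a : A, f x (y * a) = f x y := fun x y a => Subtype.ext (by
    show s x * s (y * a) * (s (x * (y * a)))⁻¹ = s x * s y * (s (x * y))⁻¹
    rw [← mul_assoc x, hsA, hsA]
    simp [mul_assoc])
  have hfK : ∀ x y : G, ∀ k : K, f x (y * k) = f x y := fun x y k => Subtype.ext (by
    show s x * s (y * k) * (s (x * (y * k)))⁻¹ = s x * s y * (s (x * y))⁻¹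
    rw [← mul_assoc x, hsK, hsK])
  have hfK' : ∀ x y : G, ∀ k : K, f (x * k) y = f x y := fun x y k => Subtype.ext (by
    show s (x * k) * s y * (s (x * k * y))⁻¹ = s x * s y * (s (x * y))⁻¹
    rw [hsK, show x * k * y = x * y * ((⟨y⁻¹ * k * y,
      by simpa using ‹K.Normal›.conj_mem _ k.2 y⁻¹⟩ : K) : G) by simp [mul_assoc], hsK])
  have hfU : ∀ x y : G, ∀ u ∈ U, f x (y * u) = f x y := fun x y u hu => by
    rw [← hKA, sup_comm] at hu
    obtain ⟨a, ha, k, hk, rfl⟩ := mem_sup_of_normal_right.mp hu
    rw [← mul_assoc]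
    exact (hfK x (y * a) ⟨k, hk⟩).trans (hfA x y ⟨a, ha⟩)
  open scoped IsMulCommutative in
  have hcoc : ∀ x y z : G, f x y * f (x * y) z = MulAut.conjNormal (s x) (f y z) * f x (y * z) := by
    intro x y z
    refine Subtype.ext ?_
    simp only [f, Subgroup.coe_mul, MulAut.conjNormal_apply]
    simp [mul_assoc]
  let F : G → (G ⧸ U) → K := fun x q => Quotient.liftOn' q (f x) fun a b hab => by
    have h := hfU x a (a⁻¹ * b) (QuotientGroup.leftRel_apply.mp hab)
    rw [mul_inv_cancel_left] at h
    exact h.symm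
  open scoped IsMulCommutative in
  let c : G → K := fun x => ∏ q, F x q
  open scoped IsMulCommutative in
  have hc : ∀ x y : G, f x y ^ U.index * c (x * y) = MulAut.conjNormal (s x) (c y) * c x := by
    intro x y
    have h1 : ∀ q, f x y * F (x * y) q = MulAut.conjNormal (s x) (F y q) * F x (y • q) := fun q => by
      induction q using QuotientGroup.induction_on with
      | _ z => exact hcoc x y z
    calc f x y ^ U.index * c (x * y) = ∏ q, f x y * F (x * y) q := by
          rw [Finset.prod_mul_distrib, Finset.prod_const, Finset.card_univ,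
            ← Nat.card_eq_fintype_card, ← index_eq_card]
      _ = ∏ q, MulAut.conjNormal (s x) (F y q) * F x (y • q) := Finset.prod_congr rfl fun q _ => h1 q
      _ = _ := by
        rw [Finset.prod_mul_distrib, ← map_prod]
        exact congrArg _ (Equiv.prod_comp (MulAction.toPerm y) (F x))
  have hex : ∀ x : G, ∃ e : K, e ^ U.index = c x := fun x => exists_pow_eq_of_coprime hcop _
  choose e he using hex
  open scoped IsMulCommutative in
  have hf2 : ∀ x y : G, f x y * e (x * y) = MulAut.conjNormal (s x) (e y) * e x := by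
    intro x y
    refine (powCoprime hcop).injective ?_
    show (f x y * e (x * y)) ^ U.index = (MulAut.conjNormal (s x) (e y) * e x) ^ U.index
    rw [mul_pow, mul_pow, ← map_pow, he, he, he]
    exact hc x y
  have hcK : ∀ g : G, ∀ k : K, e (g * k) = e g := fun g k => by
    open scoped IsMulCommutative in
    refine (powCoprime hcop).injective ?_
    show (e (g * k)) ^ U.index = (e g) ^ U.index
    rw [he, he]
    open scoped IsMulCommutative in
    refine Finset.prod_congr rfl fun q _ => ?_
    induction q using QuotientGroup.induction_on with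
    | _ z => exact hfK' g z k
  let t : G → G := fun x => ((e x : G))⁻¹ * s x
  have htmul : ∀ x y : G, t (x * y) = t x * t y := by
    intro x y
    open scoped IsMulCommutative in
    have h1 : f x y * e (x * y) = MulAut.conjNormal (s x) (e y) * e x := hf2 x y
    open scoped IsMulCommutative in
    have h2 : (e (x * y))⁻¹ = (MulAut.conjNormal (s x) (e y) * e x)⁻¹ * f x y := by
      rw [← h1, mul_inv, mul_comm (f x y)⁻¹, mul_assoc, inv_mul_cancel, mul_one]
    have h3 : ((e (x * y) : K) : G)⁻¹ = ((e (x * y))⁻¹ : K) := (Subgroup.coe_inv _ _).symm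
    show ((e (x * y) : K) : G)⁻¹ * s (x * y) = _
    rw [h3, h2]
    simp only [t, f, Subgroup.coe_mul, Subgroup.coe_inv, MulAut.conjNormal_apply]
    simp [mul_assoc]
  have htK : ∀ k : K, t k = 1 := fun k => by
    have h1 : t (1 * k) = t 1 := by simp only [t, hsK, hcK]
    have h2 : t 1 = 1 := by
      have h := htmul 1 1
      rw [one_mul] at h
      exact left_eq_mul.mp h
    rw [one_mul] at h1
    exact h1.trans h2
  have htq : ∀ g : G, (t g)⁻¹ * g ∈ K := fun g => by
    have h : (t g)⁻¹ * g = (s g)⁻¹ * (e g : G) * g := by simp [t, mul_assoc]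
    rw [h, ← QuotientGroup.eq_one_iff]
    have h3 : ((e g : G) : G ⧸ K) = 1 := (QuotientGroup.eq_one_iff _).mpr (e g).2
    simp [h3, (QuotientGroup.eq.mpr (hs g) : (QuotientGroup.mk (s g) : G ⧸ K) = QuotientGroup.mk g)]
  let φ : G →* G := MonoidHom.mk' t htmul
  refine ⟨φ.range, isComplement'_of_disjoint_and_mul_eq_univ (disjoint_iff.mpr ?_) ?_⟩
  · refine eq_bot_iff.mpr fun x hx => ?_
    obtain ⟨hxK, g, rfl⟩ := hx
    have hg : g ∈ K := by
      have := K.mul_mem hxK (htq g)
      simpa [φ, mul_assoc] using this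
    exact mem_bot.mpr (htK ⟨g, hg⟩)
  · rw [← normal_mul, eq_comm, ← coe_top, SetLike.coe_set_eq, eq_comm, eq_top_iff]
    intro g _
    have h1 : t g ∈ K ⊔ φ.range := mem_sup_right ⟨g, rfl⟩
    have h2 := mul_mem h1 (mem_sup_left (T := φ.range) (htq g))
    rwa [mul_inv_cancel_left] at h2

end Cfsg.Agent.Core
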