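import Cfsg.Prelude.Def_SolvableStructure
import Cfsg.Agent.Core.Hall
import Cfsg.Agent.Core.Solvable

/-!
Supersolvable finite groups: closure properties, prime-order normal subgroups, Sylow tower,
recognition via a supersolvable supplement.
-/

set_option autoImplicit false

namespace Cfsg.Agent.Core

open Subgroup
open scoped Pointwise commutatorElement

universe u

variable {G : Type u} [Group G] {G' : Type*} [Group G']

theorem isSupersolvable_of_subsingleton [Subsingleton G] : IsSupersolvable G :=
  ⟨0, fun _ => ⊥, rfl, Subsingleton.elim _ _, fun _ => inferInstance, fun i => i.elim0⟩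

theorem isSupersolvable_of_surjective {f : G →* G'} (hf : Function.Surjective f)
    (h : IsSupersolvable G) : IsSupersolvable G' := by
  obtain ⟨n, H, h0, h1, hn, hs⟩ := h
  refine ⟨n, fun i => (H i).map f, ?_, ?_, fun i => (hn i).map f hf, fun i => ?_⟩
  · simp [h0]
  · simp [h1, Subgroup.map_top_of_surjective f hf]
  · obtain ⟨g, hg⟩ := hs i
    exact ⟨f g, by simp only [hg, Subgroup.map_sup, MonoidHom.map_zpowers]⟩

theorem isSupersolvable_congr (e : G ≃* G') (h : IsSupersolvable G) : IsSupersolvable G' :=
  isSupersolvable_of_surjective (f := e.toMonoidHom) e.surjective h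

theorem isSupersolvable_subgroup (h : IsSupersolvable G) (S : Subgroup G) : IsSupersolvable S := by
  obtain ⟨n, H, h0, h1, hn, hs⟩ := h
  refine ⟨n, fun i => (H i).subgroupOf S, ?_, ?_, fun i => (hn i).subgroupOf S, fun i => ?_⟩
  · simp [h0]
  · simp [h1]
  have := hn i.castSucc
  obtain ⟨g, hg⟩ := hs i
  set f := QuotientGroup.mk' (H i.castSucc) with hf
  have hmap : (H i.succ).map f = zpowers (f g) := by
    rw [hg, Subgroup.map_sup, MonoidHom.map_zpowers,
      show (H i.castSucc).map f = ⊥ from QuotientGroup.map_mk'_self _, bot_sup_eq]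
  have hc : IsCyclic (((H i.succ) ⊓ S).map f) := by
    have hc0 : IsCyclic ((H i.succ).map f) := by rw [hmap]; infer_instance
    exact Subgroup.isCyclic_of_le (map_mono inf_le_left)
  obtain ⟨y, hy⟩ := (Subgroup.isCyclic_iff_exists_zpowers_eq_top _).mp hc
  have hy' : y ∈ ((H i.succ) ⊓ S).map f := hy ▸ mem_zpowers y
  obtain ⟨x, hx, rfl⟩ := hy'
  refine ⟨⟨x, hx.2⟩, le_antisymm (fun z hz => ?_) (sup_le
    (fun z hz => (hg ▸ le_sup_left : H i.castSucc ≤ H i.succ) hz) (zpowers_le.mpr hx.1))⟩
  obtain ⟨k, hk⟩ : f (z : G) ∈ zpowers (f x) := hy ▸ mem_map_of_mem f ⟨hz, z.2⟩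
  have h3 : z * (⟨x, hx.2⟩ ^ k)⁻¹ ∈ (H i.castSucc).subgroupOf S := by
    rw [mem_subgroupOf, Subgroup.coe_mul, Subgroup.coe_inv, SubgroupClass.coe_zpow,
      ← QuotientGroup.eq_one_iff (N := H i.castSucc)]
    show f ((z : G) * (x ^ k)⁻¹) = 1
    rw [map_mul, map_inv, map_zpow, show f x ^ k = f (z : G) from hk, mul_inv_cancel]
  have := mul_mem_sup h3 (show (⟨x, hx.2⟩ : S) ^ k ∈ zpowers (⟨x, hx.2⟩ : S) from ⟨k, rfl⟩)
  simpa using this

theorem isSupersolvable_of_injective {f : G' →* G} (hf : Function.Injective f)
    (h : IsSupersolvable G) : IsSupersolvable G' :=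
  isSupersolvable_congr (f.ofInjective hf).symm (isSupersolvable_subgroup h f.range)

theorem isSupersolvable_of_cyclic_normal (N : Subgroup G) [N.Normal] [hc : IsCyclic N]
    (h : IsSupersolvable (G ⧸ N)) : IsSupersolvable G := by
  obtain ⟨n, H, h0, h1, hn, hs⟩ := h
  set f := QuotientGroup.mk' N with hf
  have hsur := QuotientGroup.mk'_surjective N
  refine ⟨n + 1, Fin.cases ⊥ fun j => (H j).comap f, rfl, ?_, ?_, ?_⟩
  · show Fin.cases (motive := fun _ => Subgroup G) ⊥ (fun j => (H j).comap f) (Fin.last n).succ = ⊤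
    rw [Fin.cases_succ, h1, Subgroup.comap_top]
  · intro i
    induction i using Fin.cases with
    | zero => simp only [Fin.cases_zero]; infer_instance
    | succ j => simp only [Fin.cases_succ]; exact (hn j).comap f
  · intro i
    induction i using Fin.cases with
    | zero =>
      obtain ⟨g, hg⟩ := (Subgroup.isCyclic_iff_exists_zpowers_eq_top N).mp hc
      refine ⟨g, ?_⟩
      beta_reduce
      rw [Fin.cases_succ, h0, MonoidHom.comap_bot, hf, QuotientGroup.ker_mk', Fin.castSucc_zero,
        Fin.cases_zero, bot_sup_eq, hg]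
    | succ j =>
      obtain ⟨gb, hg⟩ := hs j
      obtain ⟨g, rfl⟩ := hsur gb
      refine ⟨g, ?_⟩
      beta_reduce
      rw [Fin.cases_succ, ← Fin.succ_castSucc, Fin.cases_succ, hg]
      have hker : f.ker ≤ (H j.castSucc).comap f := by
        rw [← MonoidHom.comap_bot]; exact comap_mono bot_le
      calc (H j.castSucc ⊔ zpowers (f g)).comap f
          = (((H j.castSucc).comap f).map f ⊔ (zpowers g).map f).comap f := by
            rw [map_comap_eq_self_of_surjective hsur, MonoidHom.map_zpowers]
        _ = (H j.castSucc).comap f ⊔ zpowers g := by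
            rw [← Subgroup.map_sup, comap_map_eq_self (hker.trans le_sup_left)]

theorem exists_cyclic_normal_of_isSupersolvable [Nontrivial G] (h : IsSupersolvable G) :
    ∃ N : Subgroup G, N.Normal ∧ N ≠ ⊥ ∧ IsCyclic N := by
  obtain ⟨n, H, h0, h1, hn, hs⟩ := h
  classical
  have hex : ∃ i, H i ≠ ⊥ := ⟨Fin.last n, h1 ▸ top_ne_bot⟩
  obtain ⟨i, hi, hmin⟩ := exists_minimal_of_wellFoundedLT (fun i => H i ≠ ⊥) hex
  have hi0 : i ≠ 0 := fun e => hi (e ▸ h0)
  obtain ⟨j, rfl⟩ := Fin.exists_succ_eq.mpr hi0
  have hb : H j.castSucc = ⊥ := by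
    by_contra hb
    exact absurd (hmin hb (Fin.castSucc_lt_succ (i := j)).le) (not_le.mpr Fin.castSucc_lt_succ)
  obtain ⟨g, hg⟩ := hs j
  rw [hb, bot_sup_eq] at hg
  exact ⟨H j.succ, hn _, hi, hg ▸ inferInstance⟩

theorem exists_prime_normal_of_isSupersolvable [Finite G] [Nontrivial G] (h : IsSupersolvable G) :
    ∃ N : Subgroup G, N.Normal ∧ (Nat.card N).Prime := by
  obtain ⟨N, hN, hne, hc⟩ := exists_cyclic_normal_of_isSupersolvable h
  obtain ⟨M, hMN, hM⟩ := exists_isMinNormal_le hne
  have : IsMulCommutative M := ⟨⟨fun a b => Subtype.ext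
    (congrArg Subtype.val (setLike_mul_comm (s := (⊤ : Subgroup N))
      (mem_top (⟨a, hMN a.2⟩ : N)) (mem_top (⟨b, hMN b.2⟩ : N))) : (a : G) * b = b * a)⟩⟩
  obtain ⟨p, hp, he⟩ := hM.exists_prime_pow_eq_one
  have : IsCyclic M := Subgroup.isCyclic_of_le hMN
  obtain ⟨g, hg⟩ := (Subgroup.isCyclic_iff_exists_zpowers_eq_top M).mp this
  refine ⟨M, hM.normal, ?_⟩
  rw [← hg, Nat.card_zpowers]
  rcases (Nat.dvd_prime hp).mp (orderOf_dvd_of_pow_eq_one (he g (hg ▸ mem_zpowers g))) with h' | h'
  · exact absurd (by rw [← hg, orderOf_eq_one_iff.mp h', zpowers_one_eq_bot]) hM.ne_bot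
  · exact h' ▸ hp

theorem isCyclic_of_card_prime {N : Subgroup G} (h : (Nat.card N).Prime) : IsCyclic N :=
  have := Fact.mk h
  isCyclic_of_prime_card rfl

theorem ne_bot_of_card_prime {N : Subgroup G} (h : (Nat.card N).Prime) : N ≠ ⊥ := fun e =>
  h.one_lt.ne' (card_eq_one.mpr e)

theorem IsSupersolvable.isSolvable [Finite G] (h : IsSupersolvable G) : Group.IsSolvable G := by
  suffices H : ∀ (n : ℕ) (G : Type u) [Group G] [Finite G], Nat.card G = n →
      IsSupersolvable G → Group.IsSolvable G from H _ G rfl h
  clear h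
  intro n
  induction n using Nat.strong_induction_on with
  | _ n ih =>
    intro G _ _ hn h
    rcases subsingleton_or_nontrivial G with hs | hs
    · exact Group.isSolvable_of_comm fun a b => Subsingleton.elim _ _
    obtain ⟨N, hN, hp⟩ := exists_prime_normal_of_isSupersolvable h
    have := isCyclic_of_card_prime hp
    exact (Group.isSolvable_iff_subgroup_quotient N).mpr
      ⟨Group.isSolvable_of_comm fun a b => mul_comm' a b,
        ih _ (hn ▸ card_quotient_lt (ne_bot_of_card_prime hp)) _ rfl
          (isSupersolvable_of_surjective (QuotientGroup.mk'_surjective N) h)⟩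

/-- In a supersolvable group a minimal normal subgroup has prime order. -/
theorem IsMinNormal.prime_card [Finite G] {M : Subgroup G} (hM : IsMinNormal M)
    (h : IsSupersolvable G) : (Nat.card M).Prime := by
  suffices H : ∀ (n : ℕ) (G : Type u) [Group G] [Finite G], Nat.card G = n → ∀ M : Subgroup G,
      IsMinNormal M → IsSupersolvable G → (Nat.card M).Prime from H _ G rfl M hM h
  clear hM h
  intro n
  induction n using Nat.strong_induction_on with
  | _ n ih =>
    intro G _ _ hn M hM h
    have : Nontrivial G :=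
      not_subsingleton_iff_nontrivial.mp fun _ => hM.ne_bot (Subsingleton.elim _ _)
    obtain ⟨N, hN, hp⟩ := exists_prime_normal_of_isSupersolvable h
    have := hM.normal
    rcases hM.le_or_inf_eq_bot N with hle | hinf
    · rcases (Nat.dvd_prime hp).mp (card_dvd_of_le hle) with h' | h'
      · exact absurd (card_eq_one.mp h') hM.ne_bot
      · exact h' ▸ hp
    set f := QuotientGroup.mk' N with hf
    have hs := QuotientGroup.mk'_surjective N
    have hne : M.map f ≠ ⊥ := fun e => hM.ne_bot (by
      rw [Subgroup.map_eq_bot_iff, hf, QuotientGroup.ker_mk'] at e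
      rw [← hinf, inf_eq_left.mpr e])
    have hMf : IsMinNormal (M.map f) := by
      refine ⟨hM.normal.map f hs, hne, fun K hK hle => ?_⟩
      have hKn := hK.comap f
      rcases hM.eq_of_le (K.comap f ⊓ M) inferInstance inf_le_right with e | e
      · refine Or.inl (le_bot_iff.mp fun x hx => ?_)
        obtain ⟨m, hm, rfl⟩ := hle hx
        have : m ∈ K.comap f ⊓ M := ⟨hx, hm⟩
        rw [e, mem_bot] at this
        rw [this, map_one]; exact one_mem _
      · exact Or.inr (le_antisymm hle (map_le_iff_le_comap.mpr (inf_eq_right.mp e)))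
    have := ih _ (hn ▸ card_quotient_lt (ne_bot_of_card_prime hp)) _ rfl _ hMf
      (isSupersolvable_of_surjective hs h)
    have hc := card_map_mk_mul N M
    rw [hinf, card_bot, mul_one] at hc
    rwa [hc] at this

theorem isCoatom_map_of_ker_le {f : G →* G'} (hs : Function.Surjective f) {M : Subgroup G}
    (hker : f.ker ≤ M) (hM : IsCoatom M) : IsCoatom (M.map f) := by
  refine ⟨fun e => hM.1 ?_, fun K hK => ?_⟩
  · rw [← comap_map_eq_self hker, e, comap_top]
  · have h := comap_lt_comap_of_surjective hs |>.mpr hK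
    rw [comap_map_eq_self hker] at h
    rw [← map_comap_eq_self_of_surjective hs K, hM.2 _ h, map_top_of_surjective _ hs]

theorem prime_index_of_isSupersolvable [Finite G] (h : IsSupersolvable G) {M : Subgroup G}
    (hM : IsCoatom M) : M.index.Prime := by
  suffices H : ∀ (n : ℕ) (G : Type u) [Group G] [Finite G], Nat.card G = n → ∀ M : Subgroup G,
      IsCoatom M → IsSupersolvable G → M.index.Prime from H _ G rfl M hM h
  clear hM h
  intro n
  induction n using Nat.strong_induction_on with
  | _ n ih =>
    intro G _ _ hn M hM h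
    have : Nontrivial G :=
      not_subsingleton_iff_nontrivial.mp fun _ => hM.1 (Subsingleton.elim _ _)
    obtain ⟨N, hN, hp⟩ := exists_prime_normal_of_isSupersolvable h
    by_cases hle : N ≤ M
    · have hs := QuotientGroup.mk'_surjective N
      have hker : (QuotientGroup.mk' N).ker ≤ M := by rwa [QuotientGroup.ker_mk']
      have := ih _ (hn ▸ card_quotient_lt (ne_bot_of_card_prime hp)) _ rfl _
        (isCoatom_map_of_ker_le hs hker hM) (isSupersolvable_of_surjective hs h)
      rwa [index_map_eq M hs hker] at this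
    · have htop : M ⊔ N = ⊤ := hM.2 _ (lt_of_le_of_ne le_sup_left fun e => hle (e ▸ le_sup_right))
      have hc := card_sup_mul_card_inf M N
      rw [htop, card_top, ← card_mul_index M, mul_assoc] at hc
      have hd : M.index ∣ Nat.card N := ⟨_, (Nat.eq_of_mul_eq_mul_left Nat.card_pos hc).symm⟩
      rcases (Nat.dvd_prime hp).mp hd with h' | h'
      · exact absurd (index_eq_one.mp h') hM.1
      · exact h' ▸ hp

/-- If all maximal subgroups have prime index, the Sylow subgroup for the largest prime is normal. -/
theorem sylow_normal_of_prime_index [Finite G] (h : ∀ M : Subgroup G, IsCoatom M → M.index.Prime)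
    {p : ℕ} [Fact p.Prime] (hmax : ∀ q : ℕ, q.Prime → q ∣ Nat.card G → q ≤ p) (P : Sylow p G) :
    (P : Subgroup G).Normal := by
  by_contra hn
  obtain ⟨M, hM, hle⟩ := (eq_top_or_exists_le_coatom (normalizer (P : Set G))).resolve_left
    fun e => hn (normalizer_eq_top_iff.mp e)
  have hPM : (P : Subgroup G) ≤ M := le_normalizer.trans hle
  have h1 : (normalizer (P : Set G)).index ≡ 1 [MOD p] := by
    rw [← P.card_eq_index_normalizer]; exact card_sylow_modEq_one p G
  have h2 : (normalizer (P : Set G)).relIndex M ≡ 1 [MOD p] := by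
    have h3 := card_sylow_modEq_one p M
    rw [Sylow.card_eq_index_normalizer (P.subtype hPM), ← Sylow.coe_coe, Sylow.coe_subtype] at h3
    rwa [relIndex, ← Sylow.coe_coe, subgroupOf_normalizer_eq hPM]
  rw [← relIndex_mul_index hle] at h1
  have h4 : M.index ≡ 1 [MOD p] := by
    have h5 := (h2.mul_right M.index).symm.trans h1
    rwa [one_mul] at h5
  have hq := h M hM
  have hqp := hmax _ hq M.index_dvd_card
  have h6 := (Nat.modEq_iff_dvd' hq.one_lt.le).mp h4.symm
  have := hq.one_lt
  have := Nat.le_of_dvd (by omega) h6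
  omega

/-- A minimal normal subgroup inside a normal `p`-subgroup is centralized by it. -/
theorem IsMinNormal.le_centralizer_of_isPGroup [Finite G] {p : ℕ} [Fact p.Prime] {N P : Subgroup G}
    [P.Normal] (hN : IsMinNormal N) (hP : IsPGroup p P) (hle : N ≤ P) :
    P ≤ centralizer (N : Set G) := by
  have := hN.normal
  have := hP.isNilpotent
  have hb : N.subgroupOf P ≠ ⊥ := fun e => hN.ne_bot (by
    rw [← map_subgroupOf_eq_of_le hle, e, Subgroup.map_bot])
  rcases hN.le_or_inf_eq_bot ((center P).map P.subtype) with h' | h'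
  · intro x hx m hm
    obtain ⟨z, hz, rfl⟩ := h' hm
    exact (congrArg Subtype.val (mem_center_iff.mp hz ⟨x, hx⟩)).symm
  · refine absurd (le_bot_iff.mp fun z hz => ?_) (inf_center_ne_bot hb)
    have : (z : G) ∈ N ⊓ (center P).map P.subtype := ⟨hz.1, z, hz.2, rfl⟩
    rw [h', mem_bot] at this
    exact mem_bot.mpr (Subtype.ext this)

theorem map_le_of_surjective_normal {N : Subgroup G} [N.Normal] {U : Subgroup G} (hU : U.Normal) :
    (U.map (QuotientGroup.mk' N)).Normal :=
  hU.map _ (QuotientGroup.mk'_surjective N)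

/-- If `W` is a supersolvable supplement to a normal `p`-subgroup `P` and `U ≤ P ⊓ W` is normal with
`G/U` supersolvable then `G` is supersolvable. -/
theorem isSupersolvable_of_supplement [Finite G] {p : ℕ} [Fact p.Prime] (P W U : Subgroup G)
    [P.Normal] [U.Normal] (hP : IsPGroup p P) (hW : IsSupersolvable W) (hWP : W ⊔ P = ⊤)
    (hUP : U ≤ P) (hUW : U ≤ W) (hq : IsSupersolvable (G ⧸ U)) : IsSupersolvable G := by
  suffices H : ∀ (n : ℕ) (G : Type u) [Group G] [Finite G], Nat.card G = n →
      ∀ (P W U : Subgroup G) [P.Normal] [U.Normal], IsPGroup p P → IsSupersolvable W → W ⊔ P = ⊤ →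
      U ≤ P → U ≤ W → IsSupersolvable (G ⧸ U) → IsSupersolvable G from
    H _ G rfl P W U hP hW hWP hUP hUW hq
  clear hP hW hWP hUP hUW hq
  intro n
  induction n using Nat.strong_induction_on with
  | _ n ih =>
    intro G _ _ hn P W U _ _ hP hW hWP hUP hUW hq
    by_cases hU : U = ⊥
    · subst hU
      exact isSupersolvable_congr QuotientGroup.quotientBot hq
    obtain ⟨N, hNU, hN⟩ := exists_isMinNormal_le hU
    have := hN.normal
    have hNP : N ≤ P := hNU.trans hUP
    have hPN := hN.le_centralizer_of_isPGroup hP hNP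
    have hNW : N ≤ W := hNU.trans hUW
    have hb : N.subgroupOf W ≠ ⊥ := fun e => hN.ne_bot (by
      rw [← map_subgroupOf_eq_of_le hNW, e, Subgroup.map_bot])
    obtain ⟨N', hN'le, hN'⟩ := exists_isMinNormal_le hb
    have hpr := hN'.prime_card hW
    set M := N'.map W.subtype with hM
    have hMN : M ≤ N := (map_mono hN'le).trans (map_subgroupOf_eq_of_le hNW).le
    have hMn : M.Normal := by
      refine normalizer_eq_top_iff.mp (top_le_iff.mp (hWP.ge.trans (sup_le ?_ ?_)))
      · intro w hw
        exact le_normalizer_map _ ⟨⟨w, hw⟩,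
          by rw [normalizer_eq_top_iff.mpr hN'.normal]; trivial, rfl⟩
      · exact le_trans (hPN.trans (centralizer_le (SetLike.coe_subset_coe.mpr hMN)))
          (centralizer_le_normalizer _)
    have hMp : (Nat.card M).Prime := by
      rwa [hM, card_map_of_injective W.subtype_injective]
    have hMe : M = N := (hN.eq_of_le M hMn hMN).resolve_left (ne_bot_of_card_prime hMp)
    have : IsCyclic N := isCyclic_of_card_prime (hMe ▸ hMp)
    set f := QuotientGroup.mk' N with hf
    have hs := QuotientGroup.mk'_surjective N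
    have := map_le_of_surjective_normal (N := N) (U := U) inferInstance
    have := map_le_of_surjective_normal (N := N) (U := P) inferInstance
    refine isSupersolvable_of_cyclic_normal N (ih _ (hn ▸ card_quotient_lt hN.ne_bot) _ rfl
      (P.map f) (W.map f) (U.map f) (hP.map f)
      (isSupersolvable_of_surjective (f.subgroupMap_surjective W) hW)
      (by rw [← Subgroup.map_sup, hWP, map_top_of_surjective f hs]) (map_mono hUP) (map_mono hUW)
      (isSupersolvable_congr (QuotientGroup.quotientQuotientEquivQuotient N U hNU).symm hq))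

/-- A nontrivial element-wise rule: commutators of automorphisms of a prime-order group act
trivially. -/
theorem commutatorElement_mem_centralizer_of_prime_card [Finite G] {N : Subgroup G} [N.Normal]
    (hp : (Nat.card N).Prime) (x y : G) : ⁅x, y⁆ ∈ centralizer (N : Set G) := by
  have := isCyclic_of_card_prime hp
  have hc : MulAut.conjNormal (H := N) ⁅x, y⁆ = 1 := by
    rw [map_commutatorElement, commutatorElement_eq_one_iff_mul_comm]
    refine MulEquiv.ext fun n => ?_
    obtain ⟨a, ha⟩ := MonoidHom.map_cyclic (MulAut.conjNormal (H := N) x).toMonoidHom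
    obtain ⟨b, hb⟩ := MonoidHom.map_cyclic (MulAut.conjNormal (H := N) y).toMonoidHom
    simp only [MulEquiv.toMonoidHom_eq_coe, MonoidHom.coe_coe] at ha hb
    simp only [MulAut.mul_apply, ha, hb]
    rw [← zpow_mul, ← zpow_mul, mul_comm]
  intro n hn
  have h := congrArg Subtype.val (DFunLike.congr_fun hc (⟨n, hn⟩ : N))
  rw [MulAut.conjNormal_apply, MulAut.one_apply] at h
  have h2 := congrArg (fun t => t * ⁅x, y⁆) h
  simpa [mul_assoc, -commutatorElement_inv] using h2.symm

/-- The derived subgroup of a finite supersolvable group is nilpotent. -/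
theorem isNilpotent_commutator_of_isSupersolvable [Finite G] (h : IsSupersolvable G) :
    Group.IsNilpotent (commutator G) := by
  suffices H : ∀ (n : ℕ) (G : Type u) [Group G] [Finite G], Nat.card G = n →
      IsSupersolvable G → Group.IsNilpotent (commutator G) from H _ G rfl h
  clear h
  intro n
  induction n using Nat.strong_induction_on with
  | _ n ih =>
    intro G _ _ hn h
    rcases subsingleton_or_nontrivial G with hs | hs
    · infer_instance
    obtain ⟨N, hN, hp⟩ := exists_prime_normal_of_isSupersolvable h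
    have hsur := QuotientGroup.mk'_surjective N
    have h1 := ih _ (hn ▸ card_quotient_lt (ne_bot_of_card_prime hp)) _ rfl
      (isSupersolvable_of_surjective hsur h)
    set f := QuotientGroup.mk' N
    have hmap : (commutator G).map f = commutator (G ⧸ N) := by
      rw [commutator_def, commutator_def, map_commutator, map_top_of_surjective f hsur]
    have hcen : commutator G ≤ centralizer (N : Set G) :=
      commutator_le.mpr fun x _ y _ => commutatorElement_mem_centralizer_of_prime_card hp x y
    have h1' : Group.IsNilpotent ((commutator G).map f) := hmap ▸ h1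
    refine Subgroup.isNilpotent_of_ker_le_center (f.subgroupMap (commutator G)) (fun x hx => ?_)
    have hxN : (x : G) ∈ N := (QuotientGroup.eq_one_iff (x : G)).mp (congrArg Subtype.val hx)
    exact mem_center_iff.mpr fun y => Subtype.ext (hcen y.2 x hxN).symm

/-- A finite nilpotent group is supersolvable. -/
theorem isSupersolvable_of_isNilpotent [Finite G] (h : Group.IsNilpotent G) : IsSupersolvable G := by
  suffices H : ∀ (n : ℕ) (G : Type u) [Group G] [Finite G], Nat.card G = n →
      Group.IsNilpotent G → IsSupersolvable G from H _ G rfl h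
  clear h
  intro n
  induction n using Nat.strong_induction_on with
  | _ n ih =>
    intro G _ _ hn h
    rcases subsingleton_or_nontrivial G with hs | hs
    · exact isSupersolvable_of_subsingleton
    obtain ⟨M, hM⟩ := exists_isMinNormal (G := G)
    obtain ⟨g, hg, hg1⟩ := (bot_or_exists_ne_one M).resolve_left hM.ne_bot
    have hn' : (zpowers g).Normal := ⟨fun w hw x => by
      rw [mem_center_iff.mp (hM.le_center (zpowers_le.mpr hg hw)) x, mul_assoc, mul_inv_cancel,
        mul_one]
      exact hw⟩
    exact isSupersolvable_of_cyclic_normal (zpowers g)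
      (ih _ (hn ▸ card_quotient_lt (zpowers_ne_bot.mpr hg1)) _ rfl inferInstance)

theorem hasSubgroupOfEveryOrder_congr (e : G ≃* G') (h : HasSubgroupOfEveryOrder G) :
    HasSubgroupOfEveryOrder G' := fun d hd => by
  obtain ⟨H, hH⟩ := h d ((Nat.card_congr e.toEquiv).symm ▸ hd)
  exact ⟨H.map e.toMonoidHom, (card_map_of_injective e.injective).trans hH⟩

/-- A supersolvable group has subgroups of all orders dividing its order. -/
theorem hasSubgroupOfEveryOrder_of_isSupersolvable [Finite G] (h : IsSupersolvable G) :
    HasSubgroupOfEveryOrder G := by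
  suffices H : ∀ (n : ℕ) (G : Type u) [Group G] [Finite G], Nat.card G = n →
      IsSupersolvable G → HasSubgroupOfEveryOrder G from H _ G rfl h
  clear h
  intro n
  induction n using Nat.strong_induction_on with
  | _ n ih =>
    intro G _ _ hn h d hd
    rcases subsingleton_or_nontrivial G with hs | hs
    · refine ⟨⊥, ?_⟩
      rw [Nat.card_of_subsingleton (1 : G), Nat.dvd_one] at hd
      rw [card_bot, hd]
    obtain ⟨N, hN, hp⟩ := exists_prime_normal_of_isSupersolvable h
    set f := QuotientGroup.mk' N with hf
    have hq := ih _ (hn ▸ card_quotient_lt (ne_bot_of_card_prime hp)) _ rfl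
      (isSupersolvable_of_surjective (QuotientGroup.mk'_surjective N) h)
    have hcard : Nat.card N * Nat.card (G ⧸ N) = Nat.card G := by
      rw [← index_eq_card, card_mul_index]
    by_cases hpd : Nat.card N ∣ d
    · obtain ⟨e, rfl⟩ := hpd
      rw [← hcard, Nat.mul_dvd_mul_iff_left Nat.card_pos] at hd
      obtain ⟨K, hK⟩ := hq e hd
      exact ⟨K.comap f, by rw [card_comap_mk, hK]⟩
    · have hc : d.Coprime (Nat.card N) := ((hp.coprime_iff_not_dvd).mpr hpd).symm
      obtain ⟨K, hK⟩ := hq d (hc.dvd_of_dvd_mul_left (hcard ▸ hd))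
      set L := K.comap f with hL
      have hNL : N ≤ L := fun x hx => by
        rw [hL, mem_comap, hf, QuotientGroup.mk'_apply, (QuotientGroup.eq_one_iff x).mpr hx]
        exact one_mem _
      have hLc : Nat.card L = Nat.card N * d := by rw [hL, card_comap_mk, hK]
      have hcN : Nat.card (N.subgroupOf L) = Nat.card N :=
        Nat.card_congr (subgroupOfEquivOfLe hNL).toEquiv
      have hidx : (N.subgroupOf L).index = d := by
        have h := (N.subgroupOf L).card_mul_index
        rw [hcN, hLc] at h
        exact Nat.eq_of_mul_eq_mul_left Nat.card_pos h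
      obtain ⟨H, hH⟩ := exists_right_complement'_of_coprime (N := N.subgroupOf L)
        (by rw [hidx, hcN]; exact hc.symm)
      refine ⟨H.map L.subtype, ?_⟩
      rw [card_map_of_injective L.subtype_injective,
        Coprime.card_eq_index_of_isComplement' hH, hidx]

end Cfsg.Agent.Core
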