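import Cfsg.Agent.S0560
import Cfsg.Agent.Core.MinimalNormal
import Cfsg.Agent.Core.Solvable
import Cfsg.Agent.Core.Supersolvable
import Cfsg.Agent.Core.Complements

/-!
Itô's theorem on products of two abelian groups and its consequences.
-/

set_option autoImplicit false

namespace Cfsg.Agent.Core

open Subgroup
open scoped commutatorElement

universe u

variable {G : Type u} [Group G]

theorem comm_of_isMulCommutative {A : Subgroup G} [IsMulCommutative A] {x y : G} (hx : x ∈ A)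
    (hy : y ∈ A) : x * y = y * x :=
  congrArg Subtype.val ((IsMulCommutative.is_comm (M := A)).comm ⟨x, hx⟩ ⟨y, hy⟩)

/-- Itô: a product of two abelian subgroups is metabelian. -/
theorem ito_derivedSeries {A B : Subgroup G} [IsMulCommutative A] [IsMulCommutative B]
    (h : ∀ g : G, ∃ a ∈ A, ∃ b ∈ B, g = a * b) : derivedSeries G 2 = ⊥ := by
  have hA : ∀ {x y : G}, x ∈ A → y ∈ A → x * y = y * x := fun hx hy => comm_of_isMulCommutative hx hy
  have hB : ∀ {x y : G}, x ∈ B → y ∈ B → x * y = y * x := fun hx hy => comm_of_isMulCommutative hx hy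
  have hBA := exists_mul_eq_swap h
  -- conjugating `⁅a, b⁆` by `a₁` changes only `b`, by `b₁` only `a`
  have key : ∀ (a₁ b : G), a₁ ∈ A → b ∈ B → ∃ b' ∈ B, ∀ a ∈ A, a₁ * ⁅a, b⁆ * a₁⁻¹ = ⁅a, b'⁆ := by
    intro a₁ b ha₁ hb
    obtain ⟨b', hb', a', ha', e⟩ := hBA (a₁ * b * a₁⁻¹)
    refine ⟨b', hb', fun a ha => ?_⟩
    calc a₁ * ⁅a, b⁆ * a₁⁻¹
        = (a₁ * a) * b * (a₁ * a)⁻¹ * (a₁ * b⁻¹ * a₁⁻¹) := by simp [commutatorElement_def, mul_assoc]
      _ = (a * a₁) * b * (a * a₁)⁻¹ * (a₁ * b * a₁⁻¹)⁻¹ := by rw [hA ha₁ ha]; simp [mul_assoc]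
      _ = a * (a₁ * b * a₁⁻¹) * a⁻¹ * (a₁ * b * a₁⁻¹)⁻¹ := by simp [mul_assoc]
      _ = a * (b' * a') * a⁻¹ * (b' * a')⁻¹ := by rw [e]
      _ = a * b' * (a' * a⁻¹) * a'⁻¹ * b'⁻¹ := by simp [mul_assoc]
      _ = a * b' * (a⁻¹ * a') * a'⁻¹ * b'⁻¹ := by rw [hA ha' (A.inv_mem ha)]
      _ = ⁅a, b'⁆ := by simp [commutatorElement_def, mul_assoc]
  have key' : ∀ (b₁ a : G), b₁ ∈ B → a ∈ A → ∃ a' ∈ A, ∀ b ∈ B, b₁ * ⁅a, b⁆ * b₁⁻¹ = ⁅a', b⁆ := by
    intro b₁ a hb₁ ha
    obtain ⟨a', ha', b', hb', e⟩ := h (b₁ * a * b₁⁻¹)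
    refine ⟨a', ha', fun b hb => ?_⟩
    calc b₁ * ⁅a, b⁆ * b₁⁻¹
        = (b₁ * a * b₁⁻¹) * (b₁ * b * b₁⁻¹) * (b₁ * a * b₁⁻¹)⁻¹ * (b₁ * b * b₁⁻¹)⁻¹ := by
          simp [commutatorElement_def, mul_assoc]
      _ = (a' * b') * b * (a' * b')⁻¹ * b⁻¹ := by rw [e, hB hb₁ hb, mul_inv_cancel_right]
      _ = a' * (b' * b) * b'⁻¹ * a'⁻¹ * b⁻¹ := by simp [mul_assoc]
      _ = a' * (b * b') * b'⁻¹ * a'⁻¹ * b⁻¹ := by rw [hB hb' hb]
      _ = ⁅a', b⁆ := by simp [commutatorElement_def, mul_assoc]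
  set S : Set G := {x | ∃ a ∈ A, ∃ b ∈ B, x = ⁅a, b⁆} with hS
  -- the generators commute
  have hcomm : ∀ x ∈ S, ∀ y ∈ S, x * y = y * x := by
    rintro _ ⟨a₁, ha₁, b₁, hb₁, rfl⟩ _ ⟨a, ha, b, hb, rfl⟩
    obtain ⟨b', hb', hbb⟩ := key a₁ b ha₁ hb
    obtain ⟨a', ha', haa⟩ := key' b₁ a hb₁ ha
    have h1 : a₁ * (b₁ * ⁅a, b⁆ * b₁⁻¹) * a₁⁻¹ = ⁅a', b'⁆ := by rw [haa b hb, hbb a' ha']
    have h2 : b₁ * (a₁ * ⁅a, b⁆ * a₁⁻¹) * b₁⁻¹ = ⁅a', b'⁆ := by rw [hbb a ha, haa b' hb']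
    have h3 : ⁅a₁, b₁⁆ * (b₁ * (a₁ * ⁅a, b⁆ * a₁⁻¹) * b₁⁻¹) * ⁅a₁, b₁⁆⁻¹ =
        a₁ * (b₁ * ⁅a, b⁆ * b₁⁻¹) * a₁⁻¹ := by simp [commutatorElement_def, mul_assoc]
    rw [h1, h2] at h3
    -- every generator is of the form `⁅a', b'⁆`
    obtain ⟨b'', hb'', e1⟩ := key a₁⁻¹ b (A.inv_mem ha₁) hb
    obtain ⟨a'', ha'', e2⟩ := key' b₁⁻¹ a (B.inv_mem hb₁) ha
    obtain ⟨b3, hb3, f1⟩ := key a₁ b'' ha₁ hb''
    obtain ⟨a3, ha3, f2⟩ := key' b₁ a'' hb₁ ha''
    have g1 : a₁ * (b₁ * ⁅a'', b''⁆ * b₁⁻¹) * a₁⁻¹ = ⁅a3, b3⁆ := by rw [f2 b'' hb'', f1 a3 ha3]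
    have g2 : b₁ * (a₁ * ⁅a'', b''⁆ * a₁⁻¹) * b₁⁻¹ = ⁅a3, b3⁆ := by rw [f1 a'' ha'', f2 b3 hb3]
    have g3 : ⁅a₁, b₁⁆ * (b₁ * (a₁ * ⁅a'', b''⁆ * a₁⁻¹) * b₁⁻¹) * ⁅a₁, b₁⁆⁻¹ =
        a₁ * (b₁ * ⁅a'', b''⁆ * b₁⁻¹) * a₁⁻¹ := by simp [commutatorElement_def, mul_assoc]
    have g4 : ⁅a3, b3⁆ = ⁅a, b⁆ := by
      rw [← g1, ← e2 b'' hb'', ← e1 a ha]
      simp [mul_assoc]
    rw [g1, g2, g4] at g3
    exact mul_inv_eq_iff_eq_mul.mp g3
  set K := closure S with hK
  have hnorm : K.Normal := by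
    refine normalizer_eq_top_iff.mp (top_le_iff.mp fun g _ => ?_)
    have hstab : ∀ x : G, ∀ k ∈ K, x * k * x⁻¹ ∈ K := fun x k hk => by
      obtain ⟨u, hu, v, hv, rfl⟩ := h x
      induction hk using closure_induction with
      | mem y hy =>
        obtain ⟨a, ha, b, hb, rfl⟩ := hy
        obtain ⟨a', ha', haa⟩ := key' v a hv ha
        obtain ⟨b', hb', hbb⟩ := key u b hu hb
        refine subset_closure ⟨a', ha', b', hb', ?_⟩
        rw [← hbb a' ha', ← haa b hb]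
        simp [mul_assoc]
      | one => simp
      | mul y z _ _ hy hz => simpa [mul_assoc] using mul_mem hy hz
      | inv y _ hy => simpa [mul_assoc] using inv_mem hy
    refine mem_normalizer_iff.mpr fun k => ⟨hstab g k, fun hk => ?_⟩
    simpa [mul_assoc] using hstab g⁻¹ _ hk
  have hle : commutator G ≤ K := by
    rw [_root_.commutator_def, commutator_le]
    intro g _ g' _
    rw [← QuotientGroup.eq_one_iff]
    have hab : ∀ a ∈ A, ∀ b ∈ B, QuotientGroup.mk' K a * QuotientGroup.mk' K b =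
        QuotientGroup.mk' K b * QuotientGroup.mk' K a := fun a ha b hb => by
      rw [← commutatorElement_eq_one_iff_mul_comm, ← map_commutatorElement]
      exact (QuotientGroup.eq_one_iff _).mpr (subset_closure ⟨a, ha, b, hb, rfl⟩)
    obtain ⟨a, ha, b, hb, rfl⟩ := h g
    obtain ⟨c, hc, d, hd, rfl⟩ := h g'
    show QuotientGroup.mk' K _ = 1
    rw [map_commutatorElement, commutatorElement_eq_one_iff_mul_comm, map_mul, map_mul]
    have e1 : QuotientGroup.mk' K a * QuotientGroup.mk' K c =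
        QuotientGroup.mk' K c * QuotientGroup.mk' K a := by rw [← map_mul, hA ha hc, map_mul]
    have e2 : QuotientGroup.mk' K b * QuotientGroup.mk' K d =
        QuotientGroup.mk' K d * QuotientGroup.mk' K b := by rw [← map_mul, hB hb hd, map_mul]
    exact ((Commute.mul_left (Commute.mul_right e1 (hab a ha d hd))
      (Commute.mul_right (hab c hc b hb).symm e2))).eq
  rw [derivedSeries_succ, derivedSeries_one, eq_bot_iff]
  refine (commutator_mono hle hle).trans (le_of_eq ?_)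
  rw [commutator_eq_bot_iff_le_centralizer, hK, centralizer_closure, closure_le]
  exact fun x hx => mem_centralizer_iff.mpr fun y hy => hcomm y hy x hx

theorem ito_isSolvable {A B : Subgroup G} [IsMulCommutative A] [IsMulCommutative B]
    (h : ∀ g : G, ∃ a ∈ A, ∃ b ∈ B, g = a * b) : Group.IsSolvable G :=
  ⟨2, ito_derivedSeries h⟩

theorem le_centralizer_of_orderOf_pow [Finite G] {p : ℕ} [Fact p.Prime] {N : Subgroup G} [N.Normal]
    (hN : IsPGroup p N) (hNb : N ≠ ⊥) {x : G} (hx : ∃ k, orderOf x = p ^ k)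
    (hfpf : N ⊓ centralizer ({x} : Set G) = ⊥) : False := by
  obtain ⟨k, hk⟩ := hx
  have hxp : IsPGroup p (zpowers x) := IsPGroup.of_card (n := k) (by rw [Nat.card_zpowers, hk])
  have hT : IsPGroup p (N ⊔ zpowers x : Subgroup G) := hN.to_sup_of_normal_left hxp
  have := hT.isNilpotent
  have hne : N.subgroupOf (N ⊔ zpowers x) ≠ ⊥ := by
    rw [Ne, subgroupOf_eq_bot]
    exact fun hd => hNb (disjoint_self.mp (hd.mono_right le_sup_left))
  obtain ⟨⟨z, hzT⟩, ⟨hzN, hzc⟩, hz1⟩ := (bot_or_exists_ne_one _).resolve_left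
    (inf_center_ne_bot (N := N.subgroupOf (N ⊔ zpowers x)) hne)
  have : z ∈ N ⊓ centralizer ({x} : Set G) := ⟨hzN, mem_centralizer_singleton_iff.mpr
    (congrArg Subtype.val (mem_center_iff.mp hzc ⟨x, mem_sup_right (mem_zpowers x)⟩)).symm⟩
  rw [hfpf, mem_bot] at this
  exact hz1 (Subtype.ext this)

/-- Itô: a nontrivial product of abelian subgroups has a nontrivial normal subgroup inside one of the
factors. -/
theorem ito_normal [Finite G] [Nontrivial G] (A B : Subgroup G) [IsMulCommutative A]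
    [IsMulCommutative B] (h : ∀ g : G, ∃ a ∈ A, ∃ b ∈ B, g = a * b) :
    ∃ N : Subgroup G, N.Normal ∧ N ≠ ⊥ ∧ (N ≤ A ∨ N ≤ B) := by
  have hd2 := ito_derivedSeries h
  have : Group.IsSolvable G := ⟨2, hd2⟩
  have hcen : ∀ z : G, (∀ a ∈ A, a * z = z * a) → (∀ b ∈ B, b * z = z * b) → z ∈ center G := by
    intro z hzA hzB
    refine mem_center_iff.mpr fun g => ?_
    obtain ⟨a, ha, b, hb, rfl⟩ := h g
    rw [mul_assoc, hzB b hb, ← mul_assoc, hzA a ha, mul_assoc]
  by_cases hZ : center G ≠ ⊥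
  · obtain ⟨z, hz, hz1⟩ := (bot_or_exists_ne_one _).resolve_left hZ
    obtain ⟨a, ha, b, hb, rfl⟩ := h z
    have hzc := mem_center_iff.mp hz
    have haz : a ∈ center G := hcen a (fun a' ha' => comm_of_isMulCommutative ha' ha) fun b' hb' => by
      have e : a = a * b * b⁻¹ := by group
      rw [e, ← mul_assoc b', hzc b', mul_assoc, comm_of_isMulCommutative hb' (B.inv_mem hb), mul_assoc]
      group
    have hnorm : ∀ c ∈ center G, (zpowers c).Normal := fun c hc => ⟨fun x hx g => by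
      rwa [mem_center_iff.mp ((zpowers_le.mpr hc) hx) g, mul_inv_cancel_right]⟩
    by_cases ha1 : a = 1
    · subst ha1
      rw [one_mul] at hz hz1
      exact ⟨zpowers b, hnorm b hz, fun e => hz1 (zpowers_eq_bot.mp e), Or.inr (zpowers_le.mpr hb)⟩
    · exact ⟨zpowers a, hnorm a haz, fun e => ha1 (zpowers_eq_bot.mp e), Or.inl (zpowers_le.mpr ha)⟩
  push Not at hZ
  obtain ⟨N, hN⟩ := exists_isMinNormal (G := G)
  have := hN.normal
  have := hN.isMulCommutative
  obtain ⟨p, hp, hNp, hexp⟩ := hN.exists_isPGroup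
  have := Fact.mk hp
  -- if one factor centralizes `N`, it contains `N`
  have side : ∀ A B : Subgroup G, IsMulCommutative A → IsMulCommutative B →
      (∀ g : G, ∃ a ∈ A, ∃ b ∈ B, g = a * b) →
      (∀ z : G, (∀ a ∈ A, a * z = z * a) → (∀ b ∈ B, b * z = z * b) → z ∈ center G) →
      A ≤ centralizer (N : Set G) → N ≤ A := by
    intro A B _ _ h hcen hle n hn
    obtain ⟨a, ha, b, hb, rfl⟩ := h n
    have hb1 : b ∈ center G := hcen b (fun a' ha' => by
      have e1 : a * b * a' = a' * (a * b) := mem_centralizer_iff.mp (hle ha') _ hn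
      rw [← mul_assoc, comm_of_isMulCommutative ha' ha, mul_assoc, mul_assoc] at e1
      exact (mul_left_cancel e1).symm) fun b' hb' => comm_of_isMulCommutative hb' hb
    rw [hZ, mem_bot] at hb1
    rw [hb1, mul_one]
    exact ha
  by_cases hAc : A ≤ centralizer (N : Set G)
  · exact ⟨N, hN.normal, hN.ne_bot, Or.inl (side A B inferInstance inferInstance h hcen hAc)⟩
  by_cases hBc : B ≤ centralizer (N : Set G)
  · exact ⟨N, hN.normal, hN.ne_bot, Or.inr (side B A inferInstance inferInstance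
      (exists_mul_eq_swap h) (fun z h1 h2 => hcen z h2 h1) hBc)⟩
  exfalso
  obtain ⟨a₀, ha₀, ha₀N⟩ := SetLike.not_le_iff_exists.mp hAc
  obtain ⟨b₀, hb₀, hb₀N⟩ := SetLike.not_le_iff_exists.mp hBc
  have hAB : A ⊓ B = ⊥ := eq_bot_iff.mpr fun z hz => hZ ▸
    hcen z (fun a ha => comm_of_isMulCommutative ha hz.1) fun b hb => comm_of_isMulCommutative hb hz.2
  -- `G'` centralizes `N`
  have hG' : commutator G ≤ centralizer (N : Set G) := by
    rcases hN.le_or_inf_eq_bot (commutator G) with hle | hb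
    · rw [derivedSeries_succ, derivedSeries_one, commutator_eq_bot_iff_le_centralizer] at hd2
      exact hd2.trans (centralizer_le hle)
    · refine absurd ?_ hN.ne_bot
      refine le_bot_iff.mp (hZ ▸ fun n hn => mem_center_iff.mpr fun g => ?_)
      have h1 : ⁅g, n⁆ ∈ N ⊓ commutator G :=
        ⟨by rw [commutatorElement_def]; exact N.mul_mem (‹N.Normal›.conj_mem n hn g) (N.inv_mem hn),
          commutator_mem_commutator (mem_top _) (mem_top _)⟩
      rw [hb, mem_bot, commutatorElement_eq_one_iff_mul_comm] at h1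
      exact h1
  have hfix : ∀ x : G, x ∉ centralizer (N : Set G) → N ⊓ centralizer ({x} : Set G) = ⊥ := by
    intro x hx
    have hn : (N ⊓ centralizer ({x} : Set G)).Normal := ⟨fun n hn g => by
      refine ⟨‹N.Normal›.conj_mem n hn.1 g, mem_centralizer_singleton_iff.mpr ?_⟩
      have hc : Commute n (g⁻¹ * x * g) := by
        have e : g⁻¹ * x * g = ⁅g⁻¹, x⁆ * x := by simp [commutatorElement_def, mul_assoc]
        rw [e]
        exact Commute.mul_right (mem_centralizer_iff.mp (hG' (commutator_mem_commutator (mem_top _) (mem_top _))) n hn.1)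
          (mem_centralizer_singleton_iff.mp hn.2)
      calc g * n * g⁻¹ * x = g * (n * (g⁻¹ * x * g)) * g⁻¹ := by group
        _ = g * ((g⁻¹ * x * g) * n) * g⁻¹ := by rw [hc.eq]
        _ = x * (g * n * g⁻¹) := by group⟩
    rcases hN.eq_of_le _ hn inf_le_left with e | e
    · exact e
    · exact absurd (mem_centralizer_iff.mpr fun n hn =>
        mem_centralizer_singleton_iff.mp (inf_eq_left.mp e hn)) hx
  obtain ⟨n, hn, hn1⟩ := (bot_or_exists_ne_one N).resolve_left hN.ne_bot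
  obtain ⟨a', ha', b, hb, hab⟩ := h n
  set a := a'⁻¹ with hadef
  have ha : a ∈ A := A.inv_mem ha'
  have hban : b = a * n := by rw [hadef, hab, inv_mul_cancel_left]
  -- `a` centralizes `N`: otherwise it would be conjugate to an element of `B`
  have haN : a ∈ centralizer (N : Set G) := by
    by_contra hac
    let f : N → N := fun m => ⟨a⁻¹ * (m : G)⁻¹ * a * m, by
      refine N.mul_mem ?_ m.2
      have := ‹N.Normal›.conj_mem _ (N.inv_mem m.2) a⁻¹
      simpa using this⟩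
    have hf : Function.Injective f := fun x y e => by
      have e' : a⁻¹ * (x : G)⁻¹ * a * x = a⁻¹ * (y : G)⁻¹ * a * y := congrArg Subtype.val e
      have h1 : (x : G) * (y : G)⁻¹ ∈ N ⊓ centralizer ({a} : Set G) := by
        refine ⟨N.mul_mem x.2 (N.inv_mem y.2), mem_centralizer_singleton_iff.mpr ?_⟩
        have e2 : (x : G)⁻¹ * a * x = (y : G)⁻¹ * a * y := by
          have := congrArg (a * ·) e'
          simpa [mul_assoc] using this
        calc (x : G) * (y : G)⁻¹ * a = x * ((y : G)⁻¹ * a * y) * (y : G)⁻¹ := by group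
          _ = x * ((x : G)⁻¹ * a * x) * (y : G)⁻¹ := by rw [e2]
          _ = a * (x * (y : G)⁻¹) := by group
      rw [hfix a hac, mem_bot, mul_inv_eq_one] at h1
      exact Subtype.ext h1
    obtain ⟨m, hm⟩ := (Finite.injective_iff_surjective.mp hf) ⟨n, hn⟩
    have hm' : a⁻¹ * (m : G)⁻¹ * a * m = n := congrArg Subtype.val hm
    obtain ⟨c, hc, d, hd, hcd⟩ := h (m : G)
    have e : b = d⁻¹ * a * d := by
      rw [hban, ← hm', hcd, mul_inv_rev]
      calc a * (a⁻¹ * (d⁻¹ * c⁻¹) * a * (c * d)) = d⁻¹ * (c⁻¹ * (a * c)) * d := by group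
        _ = d⁻¹ * a * d := by rw [comm_of_isMulCommutative ha hc, inv_mul_cancel_left]
    have hab' : a = b := by
      rw [e]
      calc a = d * (d⁻¹ * a * d) * d⁻¹ := by group
        _ = d * b * d⁻¹ := by rw [e]
        _ = b := by rw [comm_of_isMulCommutative hd hb, mul_inv_cancel_right]
        _ = d⁻¹ * a * d := e
    have : a ∈ A ⊓ B := ⟨ha, hab' ▸ hb⟩
    rw [hAB, mem_bot] at this
    exact hac (this ▸ one_mem _)
  have hbN : b ∈ centralizer (N : Set G) := by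
    rw [hban]
    exact mul_mem haN (le_centralizer N hn)
  -- conjugates of `a` lie in `a N`
  have hconj : ∀ x : G, ∃ c ∈ N, x * a * x⁻¹ = a * c := by
    intro x
    obtain ⟨u, hu, v, hv, rfl⟩ := h x
    refine ⟨u * (n * (v * n⁻¹ * v⁻¹)) * u⁻¹, ‹N.Normal›.conj_mem _
      (mul_mem hn (‹N.Normal›.conj_mem _ (inv_mem hn) v)) u, ?_⟩
    have hv' : v * a * v⁻¹ = a * (n * (v * n⁻¹ * v⁻¹)) := by
      calc v * a * v⁻¹ = (v * b) * n⁻¹ * v⁻¹ := by rw [hban]; group
        _ = (b * v) * n⁻¹ * v⁻¹ := by rw [comm_of_isMulCommutative hv hb]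
        _ = a * (n * (v * n⁻¹ * v⁻¹)) := by rw [hban]; group
    calc u * v * a * (u * v)⁻¹ = u * (v * a * v⁻¹) * u⁻¹ := by group
      _ = u * (a * (n * (v * n⁻¹ * v⁻¹))) * u⁻¹ := by rw [hv']
      _ = u * a * u⁻¹ * (u * (n * (v * n⁻¹ * v⁻¹)) * u⁻¹) := by group
      _ = _ := by rw [comm_of_isMulCommutative hu ha, mul_inv_cancel_right]
  set W := centralizer (N : Set G) ⊓ centralizer ({a} : Set G) with hW
  have hWn : W.Normal := ⟨fun w hw g => by
    refine ⟨(inferInstance : (centralizer (N : Set G)).Normal).conj_mem w hw.1 g,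
      mem_centralizer_singleton_iff.mpr ?_⟩
    obtain ⟨c, hc, e⟩ := hconj g⁻¹
    rw [inv_inv] at e
    have hcm : Commute w (g⁻¹ * a * g) := by
      rw [e]
      exact Commute.mul_right (mem_centralizer_singleton_iff.mp hw.2)
        (mem_centralizer_iff.mp hw.1 c hc).symm
    calc g * w * g⁻¹ * a = g * (w * (g⁻¹ * a * g)) * g⁻¹ := by group
      _ = g * ((g⁻¹ * a * g) * w) * g⁻¹ := by rw [hcm.eq]
      _ = a * (g * w * g⁻¹) := by group⟩
  -- the Sylow `p`-subgroup `A_p B_p` lies in `W`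
  have hWp : ¬ p ∣ W.index := by
    obtain ⟨P, Q, R, hR⟩ := S0560.result A B h p
    have hpel : ∀ x : G, (∃ k, orderOf x = p ^ k) → x ∈ centralizer (N : Set G) := fun x hx => by
      by_contra hxN
      exact le_centralizer_of_orderOf_pow hNp hN.ne_bot hx (hfix x hxN)
    have hRW : (R : Subgroup G) ≤ W := by
      intro r hr
      have hr' : r ∈ ((R : Subgroup G) : Set G) := hr
      rw [hR] at hr'
      obtain ⟨u, hu, v, hv, rfl⟩ := hr'
      obtain ⟨u, hu, rfl⟩ := hu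
      obtain ⟨v, hv, rfl⟩ := hv
      refine mul_mem ⟨hpel _ ?_, ?_⟩ ⟨hpel _ ?_, ?_⟩
      · obtain ⟨k, hk⟩ := IsPGroup.iff_orderOf.mp P.isPGroup' ⟨u, hu⟩
        exact ⟨k, by rw [← hk, orderOf_mk, ← orderOf_injective A.subtype A.subtype_injective u]⟩
      · exact mem_centralizer_singleton_iff.mpr (comm_of_isMulCommutative u.2 ha)
      · obtain ⟨k, hk⟩ := IsPGroup.iff_orderOf.mp Q.isPGroup' ⟨v, hv⟩
        exact ⟨k, by rw [← hk, orderOf_mk, ← orderOf_injective B.subtype B.subtype_injective v]⟩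
      · refine mem_centralizer_singleton_iff.mpr ?_
        have hvb : Commute (B.subtype v) b := comm_of_isMulCommutative v.2 hb
        have hvn : Commute (B.subtype v) n := ((mem_centralizer_iff.mp (hpel _ (by
          obtain ⟨k, hk⟩ := IsPGroup.iff_orderOf.mp Q.isPGroup' ⟨v, hv⟩
          exact ⟨k, by rw [← hk, orderOf_mk, ← orderOf_injective B.subtype B.subtype_injective v]⟩))) n hn).symm
        have := hvb.mul_right hvn.inv_right
        rwa [hban, mul_inv_cancel_right] at this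
    exact fun hd => R.not_dvd_index (hd.trans (index_dvd_of_le hRW))
  set g := ⁅a₀, b₀⁆ with hg
  set c := n * (b₀ * n⁻¹ * b₀⁻¹) with hcdef
  have hcN : c ∈ N := mul_mem hn (‹N.Normal›.conj_mem _ (inv_mem hn) b₀)
  have hb0a : b₀ * a * b₀⁻¹ = a * c := by
    calc b₀ * a * b₀⁻¹ = (b₀ * b) * n⁻¹ * b₀⁻¹ := by rw [hban]; group
      _ = (b * b₀) * n⁻¹ * b₀⁻¹ := by rw [comm_of_isMulCommutative hb₀ hb]
      _ = a * c := by rw [hban, hcdef]; group
  set d := (a₀ * c * a₀⁻¹) * c⁻¹ with hd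
  have hgN : g ∈ centralizer (N : Set G) := hG' (commutator_mem_commutator (mem_top _) (mem_top _))
  have hga : g * a * g⁻¹ = a * d := by
    have e1 : a₀ * b₀ * a * (a₀ * b₀)⁻¹ = a * (a₀ * c * a₀⁻¹) := by
      calc a₀ * b₀ * a * (a₀ * b₀)⁻¹ = a₀ * (b₀ * a * b₀⁻¹) * a₀⁻¹ := by group
        _ = a₀ * a * c * a₀⁻¹ := by rw [hb0a]; group
        _ = _ := by rw [comm_of_isMulCommutative ha₀ ha]; group
    have e2 : b₀ * a₀ * a * (b₀ * a₀)⁻¹ = a * c := by
      calc b₀ * a₀ * a * (b₀ * a₀)⁻¹ = b₀ * (a₀ * a * a₀⁻¹) * b₀⁻¹ := by group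
        _ = b₀ * a * b₀⁻¹ := by rw [comm_of_isMulCommutative ha₀ ha, mul_inv_cancel_right]
        _ = _ := hb0a
    calc g * a * g⁻¹ = g * (a * c) * g⁻¹ * c⁻¹ := by
          have hgc : c * g = g * c := mem_centralizer_iff.mp hgN c hcN
          calc g * a * g⁻¹ = g * a * (c * g⁻¹) * c⁻¹ * 1 := by
                rw [show c * g⁻¹ = g⁻¹ * c from (Commute.inv_right hgc).eq]; group
            _ = _ := by group
      _ = g * (b₀ * a₀ * a * (b₀ * a₀)⁻¹) * g⁻¹ * c⁻¹ := by rw [e2]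
      _ = a₀ * b₀ * a * (a₀ * b₀)⁻¹ * c⁻¹ := by rw [hg, commutatorElement_def]; group
      _ = a * d := by rw [e1, hd]; group
  have hdN : d ∈ N := mul_mem (‹N.Normal›.conj_mem c hcN a₀) (inv_mem hcN)
  have hpow : ∀ i : ℕ, g ^ i * a * (g ^ i)⁻¹ = a * d ^ i := by
    intro i
    induction i with
    | zero => simp
    | succ i ih =>
      have hgd : Commute g (d ^ i) := (Commute.pow_right (mem_centralizer_iff.mp hgN d hdN).symm i)
      calc g ^ (i + 1) * a * (g ^ (i + 1))⁻¹ = g * (g ^ i * a * (g ^ i)⁻¹) * g⁻¹ := by rw [pow_succ']; group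
        _ = g * a * (d ^ i * g⁻¹) := by rw [ih]; group
        _ = g * a * (g⁻¹ * d ^ i) := by rw [hgd.inv_left.eq]
        _ = (g * a * g⁻¹) * d ^ i := by group
        _ = _ := by rw [hga, pow_succ', mul_assoc]
  have hmem := mem_centralizer_singleton_iff.mp (pow_index_mem W g).2
  have h1 := hpow W.index
  rw [hmem, mul_inv_cancel_right, eq_comm, mul_eq_left] at h1
  have h2 : d = 1 := by
    have h3 : d ^ Nat.gcd W.index p = 1 := pow_gcd_eq_one.mpr ⟨h1, hexp d hdN⟩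
    rwa [Nat.Coprime.gcd_eq_one ((hp.coprime_iff_not_dvd.mpr hWp).symm), pow_one] at h3
  -- hence `c` and `n` are fixed
  have hc1 : c ∈ N ⊓ centralizer ({a₀} : Set G) := ⟨hcN, mem_centralizer_singleton_iff.mpr
    (by rw [hd, mul_inv_eq_one, mul_inv_eq_iff_eq_mul] at h2; exact h2.symm)⟩
  rw [hfix a₀ ha₀N, mem_bot] at hc1
  have hn0 : n ∈ N ⊓ centralizer ({b₀} : Set G) := ⟨hn, mem_centralizer_singleton_iff.mpr (by
    have e : n = b₀ * n * b₀⁻¹ := by
      rw [hcdef, mul_eq_one_iff_eq_inv] at hc1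
      refine hc1.trans ?_
      simp [mul_assoc]
    exact (eq_mul_inv_iff_mul_eq.mp e))⟩
  rw [hfix b₀ hb₀N, mem_bot] at hn0
  exact hn1 hn0

theorem exists_mul_map {G' : Type*} [Group G'] {A B : Subgroup G} (h : ∀ g : G, ∃ a ∈ A, ∃ b ∈ B, g = a * b)
    {f : G →* G'} (hf : Function.Surjective f) :
    ∀ g : G', ∃ a ∈ A.map f, ∃ b ∈ B.map f, g = a * b := fun g => by
  obtain ⟨g, rfl⟩ := hf g
  obtain ⟨a, ha, b, hb, rfl⟩ := h g
  exact ⟨f a, mem_map_of_mem f ha, f b, mem_map_of_mem f hb, map_mul f a b⟩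

theorem isSupersolvable_of_cyclic_product : ∀ (n : ℕ) (G : Type u) [Group G] [Finite G],
    Nat.card G = n → ∀ A B : Subgroup G, IsCyclic A → IsCyclic B →
      (∀ g : G, ∃ a ∈ A, ∃ b ∈ B, g = a * b) → IsSupersolvable G := by
  intro n
  induction n using Nat.strong_induction_on with
  | _ n ih =>
    intro G _ _ hn A B _ _ h
    rcases subsingleton_or_nontrivial G with hs | hs
    · exact isSupersolvable_of_subsingleton
    have := IsCyclic.isMulCommutative (α := A)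
    have := IsCyclic.isMulCommutative (α := B)
    obtain ⟨N, hN, hNb, hle⟩ := ito_normal A B h
    have hc : IsCyclic N := hle.elim
      (fun h => isCyclic_of_injective (inclusion h) (inclusion_injective h))
      (fun h => isCyclic_of_injective (inclusion h) (inclusion_injective h))
    refine isSupersolvable_of_cyclic_normal N ?_
    set f := QuotientGroup.mk' N
    exact ih _ (hn ▸ card_quotient_lt hNb) (G ⧸ N) rfl (A.map f) (B.map f)
      (isCyclic_of_surjective (f.subgroupMap A) (f.subgroupMap_surjective A))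
      (isCyclic_of_surjective (f.subgroupMap B) (f.subgroupMap_surjective B))
      (exists_mul_map h (QuotientGroup.mk'_surjective N))

end Cfsg.Agent.Core
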