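import Cfsg.Agent.Core.Complements

/-!
Permutable subgroups and Kegel's non-simplicity lemma.
-/

set_option autoImplicit false

namespace Cfsg.Agent.Core

open Subgroup
open scoped Pointwise

variable {G : Type*} [Group G]

/-- Two subgroups permute. -/
def Permutes (H K : Subgroup G) : Prop := (H : Set G) * (K : Set G) = (K : Set G) * (H : Set G)

theorem permutes_of_subgroup {H K S : Subgroup G} (h : (S : Set G) = (H : Set G) * (K : Set G)) :
    Permutes H K := by
  have h2 := congrArg (·⁻¹) h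
  simp only [inv_coe_set, mul_inv_rev] at h2
  show _ = _
  rw [← h, h2]

theorem permutes_of_forall {H K : Subgroup G}
    (h : ∀ w ∈ H, ∀ k ∈ K, w * k ∈ (K : Set G) * (H : Set G)) : Permutes H K := by
  refine Set.Subset.antisymm ?_ ?_
  · rintro _ ⟨w, hw, k, hk, rfl⟩
    exact h w hw k hk
  · rintro _ ⟨k, hk, w, hw, rfl⟩
    obtain ⟨k', hk', w', hw', e⟩ := h w⁻¹ (H.inv_mem hw) k⁻¹ (K.inv_mem hk)
    refine ⟨w'⁻¹, H.inv_mem hw', k'⁻¹, K.inv_mem hk', ?_⟩
    have e2 := congrArg (·⁻¹) e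
    simpa using e2

theorem Permutes.sup {H₁ H₂ K : Subgroup G} (h1 : Permutes H₁ K) (h2 : Permutes H₂ K) :
    Permutes (H₁ ⊔ H₂) K := by
  refine permutes_of_forall fun w hw => ?_
  rw [sup_eq_closure] at hw
  have step : ∀ x : G, (x ∈ H₁ ∨ x ∈ H₂) → ∀ y : G,
      (∀ k ∈ K, y * k ∈ (K : Set G) * ((H₁ ⊔ H₂ : Subgroup G) : Set G)) →
      ∀ k ∈ K, x * y * k ∈ (K : Set G) * ((H₁ ⊔ H₂ : Subgroup G) : Set G) := by
    intro x hx y hy k hk
    obtain ⟨k₁, hk₁, w₁, hw₁, e⟩ := hy k hk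
    obtain ⟨k₂, hk₂, w₂, hw₂, e2⟩ : x * k₁ ∈ (K : Set G) * ((H₁ ⊔ H₂ : Subgroup G) : Set G) := by
      rcases hx with hx | hx
      · have : x * k₁ ∈ (K : Set G) * (H₁ : Set G) := by rw [← h1]; exact Set.mul_mem_mul hx hk₁
        exact Set.mul_subset_mul_left (SetLike.coe_subset_coe.mpr le_sup_left) this
      · have : x * k₁ ∈ (K : Set G) * (H₂ : Set G) := by rw [← h2]; exact Set.mul_mem_mul hx hk₁
        exact Set.mul_subset_mul_left (SetLike.coe_subset_coe.mpr le_sup_right) this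
    refine ⟨k₂, hk₂, w₂ * w₁, mul_mem hw₂ hw₁, ?_⟩
    show k₂ * (w₂ * w₁) = x * y * k
    rw [← mul_assoc, show k₂ * w₂ = x * k₁ from e2, mul_assoc, show k₁ * w₁ = y * k from e, mul_assoc]
  induction hw using closure_induction_left with
  | one => intro k hk; rw [one_mul]; exact ⟨k, hk, 1, one_mem _, mul_one k⟩
  | mul_left x hx y _ ih => exact step x hx y ih
  | inv_mul_cancel x hx y _ ih =>
    exact step x⁻¹ (hx.imp (fun h => H₁.inv_mem h) fun h => H₂.inv_mem h) y ih

theorem Permutes.coe_sup {H K : Subgroup G} (h : Permutes H K) :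
    ((H ⊔ K : Subgroup G) : Set G) = (H : Set G) * (K : Set G) := exists_sup_of_mul_comm h

theorem Permutes.exists_mul {H K : Subgroup G} (h : Permutes H K) {g : G} (hg : g ∈ H ⊔ K) :
    ∃ w ∈ H, ∃ k ∈ K, g = w * k := by
  have : g ∈ (H : Set G) * (K : Set G) := h.coe_sup ▸ hg
  obtain ⟨w, hw, k, hk, e⟩ := this
  exact ⟨w, hw, k, hk, e.symm⟩

/-- Kegel: if `A` forms a proper subgroup with every conjugate of `B`, one of them lies in a proper
normal subgroup. -/
theorem kegel_nonsimple [Finite G] (A B : Subgroup G) (hA : A ≠ ⊥ ∨ B ≠ ⊥)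
    (h : ∀ x : G, Permutes A (MulAut.conj x • B) ∧ A ⊔ MulAut.conj x • B ≠ ⊤) :
    ∃ N : Subgroup G, N.Normal ∧ N ≠ ⊤ ∧ (A ≤ N ∨ B ≤ N) := by
  let S : Set (Subgroup G) :=
    {X | A ≤ X ∧ ∀ x : G, Permutes X (MulAut.conj x • B) ∧ X ⊔ MulAut.conj x • B ≠ ⊤}
  obtain ⟨X, ⟨hAX, hX⟩, hmax⟩ := (Set.toFinite S).exists_maximal ⟨A, le_rfl, h⟩
  have hnorm : ∀ x : G, MulAut.conj x • B ≤ normalizer (X : Set G) := by
    intro x y hy
    refine Coprime.mem_normalizer_of_conj_smul_eq (eq_of_le_of_card_ge ?_ (Coprime.card_conj_smul y X).ge)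
    refine le_sup_right.trans (hmax (y := X ⊔ MulAut.conj y • X) ⟨hAX.trans le_sup_left, fun z => ⟨?_, ?_⟩⟩ le_sup_left)
    · refine (hX z).1.sup ?_
      have h1 := congrArg (fun s : Set G => MulAut.conj y • s) (hX (y⁻¹ * z)).1
      simp only [smul_mul', ← coe_pointwise_smul, ← Coprime.conj_mul_smul, mul_inv_cancel_left] at h1
      exact h1
    · intro e
      have hle : X ⊔ MulAut.conj y • X ≤ X ⊔ MulAut.conj x • B := sup_le le_sup_left fun w hw => by
        rw [Coprime.mem_conj_smul] at hw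
        have h1 := mul_mem (mul_mem (mem_sup_right (S := X) hy) (mem_sup_left (T := MulAut.conj x • B) hw))
          (inv_mem (mem_sup_right (S := X) hy))
        simpa [mul_assoc] using h1
      have hperm : Permutes (X ⊔ MulAut.conj y • X) (MulAut.conj z • B) := by
        refine (hX z).1.sup ?_
        have h1 := congrArg (fun s : Set G => MulAut.conj y • s) (hX (y⁻¹ * z)).1
        simp only [smul_mul', ← coe_pointwise_smul, ← Coprime.conj_mul_smul, mul_inv_cancel_left] at h1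
        exact h1
      obtain ⟨w, hw, c, hc, hwc⟩ := hperm.exists_mul (e ▸ mem_top (x * z⁻¹))
      have hBx : MulAut.conj x • B = MulAut.conj w • MulAut.conj z • B := by
        rw [show x = (w * c) * z by rw [← hwc, inv_mul_cancel_right], Coprime.conj_mul_smul,
          Coprime.conj_mul_smul, Coprime.conj_smul_eq_self_of_mem_normalizer (le_normalizer hc)]
      refine (hX x).2 (top_le_iff.mp (e.ge.trans (sup_le hle ?_)))
      intro d hd
      have hd' : w * d * w⁻¹ ∈ MulAut.conj x • B := hBx ▸ Coprime.conj_mem_conj_smul hd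
      have h2 := mul_mem (mul_mem (inv_mem (hle hw)) (mem_sup_right (S := X) hd')) (hle hw)
      simpa [mul_assoc] using h2
  have hXtop : X ≠ ⊤ := fun e => (hX 1).2 (by rw [e, top_sup_eq])
  by_cases hN : normalClosure (B : Set G) = ⊤
  · refine ⟨X, normalizer_eq_top_iff.mp (top_le_iff.mp (hN.ge.trans ?_)), hXtop, Or.inl hAX⟩
    rw [normalClosure, closure_le]
    intro c hc
    obtain ⟨b, hb, hcb⟩ := Group.mem_conjugatesOfSet_iff.mp hc
    obtain ⟨x, rfl⟩ := isConj_iff.mp hcb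
    exact hnorm x (Coprime.conj_mem_conj_smul hb)
  · exact ⟨_, normalClosure_normal, hN, Or.inr fun b hb => subset_normalClosure hb⟩

end Cfsg.Agent.Core
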