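import Cfsg.Prelude.Def_Solvable
import Cfsg.Agent.Char.Frobenius
import Cfsg.Agent.Core.Basics
import Cfsg.Agent.Coprime.Tools

/-!
Frobenius complements: the kernel, counting, and the containment theorem (a subgroup covered by the
conjugates of a complement lies in one of them).
-/

set_option autoImplicit false

namespace Cfsg.Agent.Core

open Subgroup
open scoped Pointwise

universe u

variable {G : Type u} [Group G]

theorem malnormal_of_isFrobeniusComplement {H : Subgroup G} (hH : IsFrobeniusComplement H) :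
    ∀ g : G, g ∉ H → ∀ h ∈ H, g * h * g⁻¹ ∈ H → h = 1 := fun g hg h hh hc => by
  have h1 : g * h * g⁻¹ ∈ H ⊓ MulAut.conj g • H := ⟨hc, Coprime.conj_mem_conj_smul hh⟩
  rw [hH.2.2 g hg, mem_bot] at h1
  exact conj_eq_one_iff.mp h1

theorem isFrobeniusComplement_of_malnormal {H : Subgroup G} (h0 : H ≠ ⊥) (h1 : H ≠ ⊤)
    (h : ∀ g : G, g ∉ H → ∀ h ∈ H, g * h * g⁻¹ ∈ H → h = 1) : IsFrobeniusComplement H :=
  ⟨h0, h1, fun g hg => eq_bot_iff.mpr fun x hx => by
    have h2 := h g hg _ (Coprime.mem_conj_smul.mp hx.2) (by simpa [mul_assoc] using hx.1)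
    have h3 := congrArg (fun t => g * t * g⁻¹) h2
    simpa [mul_assoc] using h3⟩

theorem mem_frobeniusKernel_iff {H : Subgroup G} {g : G} :
    g ∈ frobeniusKernel H ↔ g = 1 ∨ ∀ x : G, x⁻¹ * g * x ∉ H :=
  or_congr Iff.rfl (forall_congr' fun _ => not_congr Coprime.mem_conj_smul)

/-- Frobenius' theorem. -/
theorem exists_frobeniusKernel [Finite G] {H : Subgroup G} (hH : IsFrobeniusComplement H) :
    ∃ N : Subgroup G, (N : Set G) = frobeniusKernel H ∧ N.Normal ∧ IsComplement' N H := by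
  obtain ⟨N, hn, hc, hmem⟩ := Char.frobenius_kernel H (malnormal_of_isFrobeniusComplement hH)
  exact ⟨N, Set.ext fun g => (hmem g).trans mem_frobeniusKernel_iff.symm, hn, hc⟩

/-- A finite group acting freely has order dividing the size of the set. -/
theorem card_dvd_of_free {A X : Type*} [Group A] [MulAction A X] [Finite A] [Finite X]
    (h : ∀ x : X, MulAction.stabilizer A x = ⊥) : Nat.card A ∣ Nat.card X := by
  classical
  have := Fintype.ofFinite (Quotient (MulAction.orbitRel A X))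
  rw [Nat.card_congr (MulAction.selfEquivSigmaOrbitsQuotientStabilizer A X), Nat.card_sigma]
  refine Finset.dvd_sum fun x _ => dvd_of_eq ?_
  rw [← index_eq_card, h, index_bot]

theorem card_frobenius_modEq [Finite G] {H : Subgroup G} (hH : IsFrobeniusComplement H) :
    H.index ≡ 1 [MOD Nat.card H] := by
  classical
  -- `H` permutes freely the nontrivial cosets
  set e : G ⧸ H := ((1 : G) : G ⧸ H) with he
  have hfix : ∀ a : H, a • e = e := fun a => by
    show ((((a : G) * 1 : G)) : G ⧸ H) = e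
    rw [mul_one, he, QuotientGroup.eq]
    simp
  let X : SubMulAction H (G ⧸ H) :=
    { carrier := {x | x ≠ e}
      smul_mem' := fun a x hx h => hx (by rw [← inv_smul_smul a x, h, hfix]) }
  have hX : Nat.card X + 1 = H.index := by
    rw [index_eq_card]
    have h1 := Set.ncard_add_ncard_compl ({e} : Set (G ⧸ H))
    rw [Set.ncard_singleton] at h1
    rw [← h1, add_comm 1]
    exact congrArg (· + 1) (Nat.card_coe_set_eq _)
  have hd : Nat.card H ∣ Nat.card X := by
    refine card_dvd_of_free fun x => eq_bot_iff.mpr fun a ha => ?_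
    obtain ⟨⟨g⟩, hg⟩ := x
    have hgH : g ∉ H := fun hh => hg (QuotientGroup.eq.mpr (by simpa using hh))
    have h1 : (((a : G) * g : G) : G ⧸ H) = (g : G ⧸ H) := congrArg Subtype.val ha
    rw [eq_comm, QuotientGroup.eq] at h1
    refine mem_bot.mpr (Subtype.ext ?_)
    exact malnormal_of_isFrobeniusComplement hH g⁻¹ (fun h => hgH (inv_inv g ▸ H.inv_mem h)) (a : G)
      a.2 (by simpa [mul_assoc] using h1)
  have h2 : H.index ≥ 1 := Nat.one_le_iff_ne_zero.mpr index_ne_zero_of_finite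
  exact ((Nat.modEq_iff_dvd' h2).mpr (by rwa [show H.index - 1 = Nat.card X by omega])).symm

theorem coprime_card_index_of_isFrobeniusComplement [Finite G] {H : Subgroup G}
    (hH : IsFrobeniusComplement H) : (Nat.card H).Coprime H.index := by
  rw [Nat.coprime_comm, Nat.coprime_iff_gcd_eq_one, (card_frobenius_modEq hH).gcd_eq]
  simp

/-- A nontrivial subgroup covered by the conjugates of a Frobenius complement lies in one. -/
theorem exists_le_conj_of_covered [Finite G] {H : Subgroup G} (hH : IsFrobeniusComplement H)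
    {L : Subgroup G} (hcov : ∀ x ∈ L, x ≠ 1 → ∃ g : G, x ∈ MulAut.conj g • H) :
    ∃ g : G, L ≤ MulAut.conj g • H := by
  classical
  rcases eq_or_ne L ⊥ with rfl | hL
  · exact ⟨1, bot_le⟩
  obtain ⟨y, hy, hy1⟩ := (bot_or_exists_ne_one L).resolve_left hL
  obtain ⟨g₁, hg₁⟩ := hcov y hy hy1
  refine ⟨g₁, ?_⟩
  by_contra hnle
  have hm := malnormal_of_isFrobeniusComplement hH
  -- two conjugates sharing a nontrivial element are equal
  have heq : ∀ a b : G, ∀ x : G, x ≠ 1 → x ∈ MulAut.conj a • H → x ∈ MulAut.conj b • H →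
      MulAut.conj a • H = MulAut.conj b • H := by
    intro a b x hx ha hb
    rw [Coprime.mem_conj_smul] at ha hb
    have hab : b⁻¹ * a ∈ H := by
      by_contra hab
      refine hx ?_
      have := hm _ hab _ ha (by simpa [mul_assoc] using hb)
      have h3 := congrArg (fun t => a * t * a⁻¹) this
      simpa [mul_assoc] using h3
    calc MulAut.conj a • H = MulAut.conj (b * (b⁻¹ * a)) • H := by rw [mul_inv_cancel_left]
      _ = MulAut.conj b • H := by
        rw [Coprime.conj_mul_smul, Coprime.conj_smul_eq_self_of_mem_normalizer (le_normalizer hab)]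
  have hcompl : ∀ a : G, (∃ x ∈ L, x ≠ 1 ∧ x ∈ MulAut.conj a • H) → ¬ L ≤ MulAut.conj a • H →
      IsFrobeniusComplement ((MulAut.conj a • H).subgroupOf L) := by
    rintro a ⟨x, hxL, hx1, hxa⟩ hna
    refine isFrobeniusComplement_of_malnormal (fun e => ?_)
      (fun e => hna (subgroupOf_eq_top.mp e)) ?_
    · have : (⟨x, hxL⟩ : L) ∈ (MulAut.conj a • H).subgroupOf L := mem_subgroupOf.mpr hxa
      rw [e, mem_bot] at this
      exact hx1 (congrArg Subtype.val this)
    · intro l hl z hz hc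
      rw [mem_subgroupOf, Coprime.mem_conj_smul] at hl hz hc
      have := hm (a⁻¹ * l * a) hl _ hz (by simpa [mul_assoc] using hc)
      have h3 := congrArg (fun t => a * t * a⁻¹) this
      exact Subtype.ext (by simpa [mul_assoc] using h3)
  obtain ⟨N₁, hN₁, -, hc₁⟩ := exists_frobeniusKernel (hcompl g₁ ⟨y, hy, hy1, hg₁⟩ hnle)
  have half : ∀ (K : Subgroup L) (M : Subgroup L), IsComplement' M K → K ≠ ⊥ →
      2 * Nat.card M ≤ Nat.card L := by
    intro K M hc hK
    have h1 : 1 < Nat.card K := (one_lt_card_iff_ne_bot K).mpr hK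
    rw [← hc.card_mul, mul_comm 2]
    exact Nat.mul_le_mul_left _ h1
  have hb₁ := half _ _ hc₁ (hcompl g₁ ⟨y, hy, hy1, hg₁⟩ hnle).1
  obtain ⟨x, hxN, hx1⟩ : ∃ x ∈ N₁, x ≠ 1 := by
    refine (bot_or_exists_ne_one N₁).resolve_left fun e => ?_
    rw [e] at hc₁
    exact hnle (subgroupOf_eq_top.mp (isComplement'_bot_left.mp hc₁))
  obtain ⟨g₂, hg₂⟩ := hcov x x.2 fun e => hx1 (Subtype.ext e)
  have hx₁ : ∀ l : L, l⁻¹ * x * l ∉ (MulAut.conj g₁ • H).subgroupOf L := by
    have h1 : x ∈ frobeniusKernel ((MulAut.conj g₁ • H).subgroupOf L) := by rw [← hN₁]; exact hxN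
    exact (mem_frobeniusKernel_iff.mp h1).resolve_left hx1
  have hnle₂ : ¬ L ≤ MulAut.conj g₂ • H := fun hle => by
    refine hx₁ 1 ?_
    rw [mem_subgroupOf]
    rw [heq g₁ g₂ y hy1 hg₁ (hle hy)]
    simpa using hle x.2
  obtain ⟨N₂, hN₂, -, hc₂⟩ := exists_frobeniusKernel
    (hcompl g₂ ⟨x, x.2, fun e => hx1 (Subtype.ext e), hg₂⟩ hnle₂)
  have hb₂ := half _ _ hc₂ (hcompl g₂ ⟨x, x.2, fun e => hx1 (Subtype.ext e), hg₂⟩ hnle₂).1
  have hdisj : ∀ z : L, z ∈ N₁ ∨ z ∈ N₂ := by
    intro z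
    by_contra hz
    push Not at hz
    have hz1 : ¬ z ∈ frobeniusKernel ((MulAut.conj g₁ • H).subgroupOf L) := by
      rw [← hN₁]; exact hz.1
    have hz2 : ¬ z ∈ frobeniusKernel ((MulAut.conj g₂ • H).subgroupOf L) := by
      rw [← hN₂]; exact hz.2
    rw [mem_frobeniusKernel_iff] at hz1 hz2
    push Not at hz1 hz2
    obtain ⟨hne, l₁, hl₁⟩ := hz1
    obtain ⟨-, l₂, hl₂⟩ := hz2
    rw [mem_subgroupOf] at hl₁ hl₂
    have h1 : (z : G) ∈ MulAut.conj ((l₁ : G) * g₁) • H := by
      rw [Coprime.mem_conj_smul] at hl₁ ⊢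
      simpa [mul_assoc] using hl₁
    have h2 : (z : G) ∈ MulAut.conj ((l₂ : G) * g₂) • H := by
      rw [Coprime.mem_conj_smul] at hl₂ ⊢
      simpa [mul_assoc] using hl₂
    have h3 := heq _ _ _ (fun e => hne (Subtype.ext e)) h1 h2
    refine hx₁ (l₂⁻¹ * l₁) ?_
    rw [mem_subgroupOf]
    rw [Coprime.conj_mul_smul, Coprime.conj_mul_smul] at h3
    have h4 : ((l₂ : G) * x * (l₂ : G)⁻¹) ∈ MulAut.conj (l₂ : G) • MulAut.conj g₂ • H :=
      Coprime.conj_mem_conj_smul hg₂
    rw [← h3, Coprime.mem_conj_smul] at h4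
    simpa [mul_assoc] using h4
  have hunion : Nat.card L + 1 ≤ Nat.card N₁ + Nat.card N₂ := by
    have h1 := Set.ncard_union_add_ncard_inter (N₁ : Set L) (N₂ : Set L)
    rw [show (N₁ : Set L) ∪ (N₂ : Set L) = Set.univ from Set.eq_univ_iff_forall.mpr hdisj,
      Set.ncard_univ, ← Nat.card_coe_set_eq, ← Nat.card_coe_set_eq, ← Nat.card_coe_set_eq,
      SetLike.coe_sort_coe, SetLike.coe_sort_coe] at h1
    have h2 : 1 ≤ Nat.card ((N₁ : Set L) ∩ (N₂ : Set L) : Set L) := by
      have : Nonempty ((N₁ : Set L) ∩ (N₂ : Set L) : Set L) := ⟨⟨1, one_mem _, one_mem _⟩⟩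
      exact Nat.card_pos
    omega
  omega

end Cfsg.Agent.Core
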