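import Cfsg.Prelude.Def_SolvableStructure
import Cfsg.Agent.S0046
import Cfsg.Agent.Core.Frattini
import Mathlib.GroupTheory.Sylow
import Mathlib.GroupTheory.PGroup

/-!
Minimal non-nilpotent groups (Schmidt groups).
-/

set_option autoImplicit false

namespace Cfsg.Agent.Core

open Subgroup

variable {G : Type*} [Group G]

/-- A subgroup containing a Sylow subgroup for every prime dividing the order is the whole group. -/
theorem eq_top_of_forall_sylow [Finite G] {H : Subgroup G}
    (h : ∀ p : ℕ, p.Prime → p ∣ Nat.card G → ∃ P : Sylow p G, (P : Subgroup G) ≤ H) : H = ⊤ := by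
  rw [← index_eq_one]
  by_contra hne
  obtain ⟨p, hp, hpd⟩ := Nat.exists_prime_and_dvd hne
  have := Fact.mk hp
  obtain ⟨P, hP⟩ := h p hp (hpd.trans H.index_dvd_card)
  exact P.not_dvd_index (hpd.trans (index_dvd_of_le hP))

theorem mem_normalizer_sylow_of_isNilpotent [Finite G] {p : ℕ} [Fact p.Prime] {L : Subgroup G}
    (hL : Group.IsNilpotent L) (P : Sylow p G) (hP : (P : Subgroup G) ≤ L) :
    L ≤ normalizer ((P : Subgroup G) : Set G) := by
  have := hL
  have hn : ((P.subtype hP : Sylow p L) : Subgroup L).Normal :=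
    inferInstance
  rw [Sylow.coe_subtype] at hn
  exact (normal_subgroupOf_iff_le_normalizer hP).mp hn

/-- In a nilpotent group with abelian Sylow subgroups everything commutes. -/
theorem isMulCommutative_of_nilpotent [Finite G] [Group.IsNilpotent G]
    (h : ∀ (p : ℕ) [Fact p.Prime] (P : Sylow p G), IsMulCommutative (P : Subgroup G)) :
    IsMulCommutative G := by
  have key : ∀ (p : ℕ) [Fact p.Prime] (P : Sylow p G), (P : Subgroup G) ≤ center G := by
    intro p _ P x hx
    have htop : centralizer ({x} : Set G) = ⊤ := by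
      refine eq_top_of_forall_sylow fun q hq _ => ?_
      have := Fact.mk hq
      obtain ⟨R⟩ : Nonempty (Sylow q G) := inferInstance
      refine ⟨R, fun y hy => mem_centralizer_singleton_iff.mpr ?_⟩
      rcases eq_or_ne p q with rfl | hne
      · have e : R = P := by
          have : (P : Subgroup G).Normal := inferInstance
          have := Sylow.unique_of_normal P this
          exact Subsingleton.elim _ _
        subst e
        exact congrArg Subtype.val ((h p R).is_comm.comm ⟨y, hy⟩ ⟨x, hx⟩)
      · have hP : (P : Subgroup G).Normal := inferInstance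
        have hR : (R : Subgroup G).Normal := inferInstance
        exact (commute_of_normal_of_disjoint _ _ hR hP
          (IsPGroup.disjoint_of_ne q p hne.symm _ _ R.isPGroup' P.isPGroup') y x hy hx).eq
    exact mem_center_iff.mpr fun y => (mem_centralizer_singleton_iff.mp (htop ▸ mem_top y))
  have htop : center G = ⊤ := eq_top_of_forall_sylow fun p hp _ => by
    have := Fact.mk hp
    obtain ⟨P⟩ : Nonempty (Sylow p G) := inferInstance
    exact ⟨P, key p P⟩
  exact ⟨⟨fun a b => mem_center_iff.mp (htop ▸ mem_top b) a⟩⟩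

theorem IsMinimalNonNilpotent.isSolvable [Finite G] (hG : IsMinimalNonNilpotent G) :
    Group.IsSolvable G :=
  S0046.result fun M hM => hG.2 M hM.1

/-- Structure of minimal non-nilpotent groups. -/
theorem minimalNonNilpotent_structure [Finite G] (hG : IsMinimalNonNilpotent G) :
    ∃ p q : ℕ, p.Prime ∧ q.Prime ∧ p ≠ q ∧ ∃ (P : Sylow p G) (Q : Sylow q G),
      IsCyclic P ∧ ¬ (P : Subgroup G).Normal ∧ (Q : Subgroup G).Normal ∧
      (P : Subgroup G) ⊔ Q = ⊤ := by
  have hs := IsMinimalNonNilpotent.isSolvable hG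
  have : Nontrivial G := not_subsingleton_iff_nontrivial.mp fun h => hG.1 inferInstance
  have hlt := (Group.IsSolvable.commutator_lt_top_of_nontrivial G).ne
  obtain ⟨M, hM, hcM⟩ := (eq_top_or_exists_le_coatom (commutator G)).resolve_left hlt
  have hMn : M.Normal := ⟨fun a ha g => by
    have h1 := M.mul_mem (hcM (commutator_mem_commutator (mem_top g) (mem_top a))) ha
    rwa [commutatorElement_def, inv_mul_cancel_right] at h1⟩
  set p := M.index with hpdef
  have hp : p.Prime := prime_index_of_isCoatom_normal hM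
  have := Fact.mk hp
  have hMnil := hG.2 M hM.1
  have hnormal : ∀ (q : ℕ) [Fact q.Prime], q ≠ p → ∀ Q : Sylow q G, (Q : Subgroup G).Normal := by
    intro q _ hne Q
    have hQM : (Q : Subgroup G) ≤ M := by
      have hc : Nat.Coprime (Nat.card (Q : Subgroup G)) M.index := by
        rw [Sylow.card_eq_multiplicity]
        exact ((Nat.coprime_primes Fact.out hp).mpr hne).pow_left _
      exact le_of_coprime_index hc
    have hN : ((Q.subtype hQM : Sylow q M) : Subgroup M).Normal :=
      (have := hMnil; inferInstance)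
    have hch := Sylow.characteristic_of_normal _ hN
    have h2 : (((Q.subtype hQM : Sylow q M) : Subgroup M).map M.subtype).Normal := inferInstance
    rwa [Sylow.coe_subtype, map_subgroupOf_eq_of_le hQM] at h2
  obtain ⟨P⟩ : Nonempty (Sylow p G) := inferInstance
  have hPn : ¬ (P : Subgroup G).Normal := by
    intro hPn
    apply hG.1
    refine (Group.isNilpotent_of_finite_tfae.out 0 3).mpr fun r hr R => ?_
    have := hr
    rcases eq_or_ne r p with e | hne
    · subst e
      have := Sylow.unique_of_normal P hPn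
      rwa [Subsingleton.elim R P]
    · exact hnormal r hne R
  obtain ⟨q, hq, hne, Q, hsup⟩ : ∃ q : ℕ, q.Prime ∧ q ≠ p ∧ ∃ Q : Sylow q G,
      (P : Subgroup G) ⊔ Q = ⊤ := by
    by_contra hc
    push Not at hc
    refine hPn (normalizer_eq_top_iff.mp (eq_top_of_forall_sylow fun r hr _ => ?_))
    rcases eq_or_ne r p with rfl | hrp
    · exact ⟨P, le_normalizer⟩
    · have := Fact.mk hr
      obtain ⟨R⟩ : Nonempty (Sylow r G) := inferInstance
      exact ⟨R, le_trans le_sup_right
        (mem_normalizer_sylow_of_isNilpotent (hG.2 _ (hc r hr hrp R)) P le_sup_left)⟩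
  have := Fact.mk hq
  refine ⟨p, q, hp, hq, hne.symm, P, Q, ?_, hPn, hnormal q hne Q, hsup⟩
  have hQn := hnormal q hne Q
  by_contra hcyc
  refine hPn (normalizer_eq_top_iff.mp (top_le_iff.mp (hsup.ge.trans (sup_le le_normalizer ?_))))
  refine (fun y hy => (centralizer_le_normalizer _) (mem_centralizer_iff.mpr fun x hx => ?_))
  have hxne : (zpowers x ⊔ (Q : Subgroup G)) ≠ ⊤ := by
    intro e
    have hdisj : Disjoint (P : Subgroup G) Q :=
      IsPGroup.disjoint_of_ne p q hne.symm _ _ P.isPGroup' Q.isPGroup'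
    have hle : zpowers x ≤ (P : Subgroup G) := zpowers_le.mpr hx
    have h1 := card_sup_of_inf_eq_bot (H := (P : Subgroup G)) (N := (Q : Subgroup G)) hdisj.eq_bot
    have h2 := card_sup_of_inf_eq_bot (H := zpowers x) (N := (Q : Subgroup G))
      (le_bot_iff.mp ((inf_le_inf_right _ hle).trans hdisj.le_bot))
    rw [hsup, card_top] at h1
    rw [e, card_top, h1] at h2
    have h3 : zpowers x = (P : Subgroup G) :=
      eq_of_le_of_card_ge hle (Nat.eq_of_mul_eq_mul_right Nat.card_pos h2).le
    exact hcyc (isCyclic_of_injective (MulEquiv.subgroupCongr h3).symm.toMonoidHom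
      (MulEquiv.subgroupCongr h3).symm.injective)
  have hnil := hG.2 _ hxne
  let x' : (zpowers x ⊔ (Q : Subgroup G) : Subgroup G) := ⟨x, mem_sup_left (mem_zpowers x)⟩
  let y' : (zpowers x ⊔ (Q : Subgroup G) : Subgroup G) := ⟨y, mem_sup_right hy⟩
  obtain ⟨S, hS⟩ := (P.isPGroup'.to_le (zpowers_le.mpr hx)).comap_of_injective
    (zpowers x ⊔ (Q : Subgroup G)).subtype (subtype_injective _) |>.exists_le_sylow
  have := hnil
  let R := Q.subtype (le_sup_right : (Q : Subgroup G) ≤ zpowers x ⊔ (Q : Subgroup G))
  have hSn : (S : Subgroup (zpowers x ⊔ (Q : Subgroup G) : Subgroup G)).Normal := inferInstance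
  have hRn : (R : Subgroup (zpowers x ⊔ (Q : Subgroup G) : Subgroup G)).Normal := inferInstance
  have hc := commute_of_normal_of_disjoint _ _ hSn hRn
    (IsPGroup.disjoint_of_ne p q hne.symm _ _ S.isPGroup' R.isPGroup') x' y'
    (hS (mem_zpowers x)) hy
  exact congrArg Subtype.val hc.eq

theorem minimalNonNilpotent_prime_cases [Finite G] {p q r : ℕ} [hp : Fact p.Prime] [hq : Fact q.Prime]
    (hr : r.Prime) (hne : p ≠ q) (P : Sylow p G) (Q : Sylow q G) [(Q : Subgroup G).Normal]
    (hsup : (P : Subgroup G) ⊔ Q = ⊤) (hd : r ∣ Nat.card G) : r = p ∨ r = q := by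
  have h1 := card_sup_of_inf_eq_bot (H := (P : Subgroup G)) (N := (Q : Subgroup G))
    (IsPGroup.disjoint_of_ne p q hne _ _ P.isPGroup' Q.isPGroup').eq_bot
  rw [hsup, card_top, Sylow.card_eq_multiplicity, Sylow.card_eq_multiplicity] at h1
  rw [h1] at hd
  rcases hr.dvd_mul.mp hd with h | h
  · exact Or.inl ((Nat.prime_dvd_prime_iff_eq hr hp.out).mp (hr.dvd_of_dvd_pow h))
  · exact Or.inr ((Nat.prime_dvd_prime_iff_eq hr hq.out).mp (hr.dvd_of_dvd_pow h))

end Cfsg.Agent.Core
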