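import Cfsg.Agent.Core.WielandtHall
import Cfsg.Agent.Core.Permutable
import Cfsg.Agent.Core.Solvable
import Cfsg.Agent.Core.Fitting
import Cfsg.Agent.CentLarge.Basic
import Cfsg.Agent.Char.Integral
import Cfsg.Agent.S0558
import Cfsg.Agent.Core.Ito

/-!
Wielandt's solvability theorem for a product of two nilpotent subgroups of coprime orders, proved
without representation theory beyond Burnside's class size lemma.
-/

set_option autoImplicit false

namespace Cfsg.Agent.Core

open Subgroup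
open scoped Pointwise

universe u

variable {G : Type u} [Group G]

section helpers

variable [Finite G]

theorem commute_in_nilpotent {L : Subgroup G} (hL : Group.IsNilpotent L) {x y : G} (hx : x ∈ L)
    (hy : y ∈ L) (h : (orderOf x).Coprime (orderOf y)) : x * y = y * x := by
  have := hL
  exact congrArg Subtype.val (Char.commute_of_nilpotent_coprime (a := (⟨x, hx⟩ : L)) (b := ⟨y, hy⟩)
    (by rw [orderOf_mk, orderOf_mk]; exact h)).eq

theorem exists_orderOf_eq_pow {p : ℕ} [Fact p.Prime] {P : Subgroup G} (hP : IsPGroup p P) {x : G}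
    (hx : x ∈ P) : ∃ k, orderOf x = p ^ k := by
  obtain ⟨k, hk⟩ := IsPGroup.iff_orderOf.mp hP ⟨x, hx⟩
  exact ⟨k, by rwa [orderOf_mk] at hk⟩

theorem orderOf_coprime_of_pow {p : ℕ} (hp : p.Prime) {x : G} (hx : ∃ k, orderOf x = p ^ k) {n : ℕ}
    (hn : ¬ p ∣ n) : (orderOf x).Coprime n := by
  obtain ⟨k, hk⟩ := hx
  rw [hk]; exact (hp.coprime_iff_not_dvd.mpr hn).pow_left k

theorem not_dvd_pow_orderOf {p q : ℕ} (hp : p.Prime) (hq : q.Prime) (hne : p ≠ q) {y : G}
    (hy : ∃ k, orderOf y = q ^ k) : ¬ p ∣ orderOf y := by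
  obtain ⟨k, hk⟩ := hy
  rw [hk]; exact fun h => hne ((Nat.prime_dvd_prime_iff_eq hp hq).mp (hp.dvd_of_dvd_pow h))

theorem mem_sylow_of_nilpotent {p : ℕ} [Fact p.Prime] {L : Subgroup G} (hL : Group.IsNilpotent L)
    (P : Sylow p G) (hP : (P : Subgroup G) ≤ L) {x : G} (hx : x ∈ L) (hxp : ∃ k, orderOf x = p ^ k) :
    x ∈ (P : Subgroup G) := by
  obtain ⟨k, hk⟩ := hxp
  have h1 : IsPGroup p (zpowers x) := IsPGroup.of_card (by rw [Nat.card_zpowers, hk])
  have h2 := h1.to_sup_of_normal_right' P.isPGroup'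
    ((zpowers_le (g := x)).mpr (mem_normalizer_sylow_of_isNilpotent hL P hP hx))
  rw [← P.is_maximal' h2 le_sup_right]
  exact mem_sup_left (mem_zpowers x)

theorem exists_sylow_le_hall {A : Subgroup G} (hA : (Nat.card A).Coprime A.index) (p : ℕ)
    [Fact p.Prime] (hp : p ∣ Nat.card A) : ∃ P : Sylow p G, (P : Subgroup G) ≤ A ∧ (P : Subgroup G) ≠ ⊥ := by
  have hni : ¬ p ∣ A.index := fun h => (Fact.out : p.Prime).ne_one (Nat.eq_one_of_dvd_coprimes hA hp h)
  obtain ⟨P₀⟩ : Nonempty (Sylow p A) := inferInstance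
  have h1 : ¬ p ∣ ((P₀ : Subgroup A).map A.subtype).index := by
    rw [index_map_subtype]; exact (Fact.out : p.Prime).not_dvd_mul P₀.not_dvd_index hni
  refine ⟨(P₀.isPGroup'.map A.subtype).toSylow h1, map_subtype_le _, ?_⟩
  exact Sylow.ne_bot_of_dvd_card _ (hp.trans (card_subgroup_dvd_card A))

theorem exists_central_prime {A : Subgroup G} (hA : Group.IsNilpotent A) (p : ℕ) [Fact p.Prime]
    (hp : p ∣ Nat.card A) : ∃ z ∈ A, orderOf z = p ∧ ∀ a ∈ A, a * z = z * a := by
  have := hA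
  obtain ⟨P⟩ : Nonempty (Sylow p A) := inferInstance
  have hPn : (P : Subgroup A).Normal := inferInstance
  have h1 : (P : Subgroup A) ⊓ center A ≠ ⊥ := inf_center_ne_bot (P.ne_bot_of_dvd_card hp)
  have h2 : IsPGroup p ((P : Subgroup A) ⊓ center A : Subgroup A) := P.isPGroup'.to_le inf_le_left
  obtain ⟨z, hz⟩ := exists_prime_orderOf_dvd_card' p
    (h2.card_eq_or_dvd.resolve_left fun e => h1 (card_eq_one.mp e))
  refine ⟨((z : A) : G), (z : A).2, by rw [orderOf_coe, orderOf_coe, hz], fun a ha => ?_⟩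
  exact congrArg Subtype.val (mem_center_iff.mp z.2.2 ⟨a, ha⟩)

theorem exists_pow_prime {x : G} (hx : x ≠ 1) : ∃ (n p : ℕ), p.Prime ∧ p ∣ orderOf x ∧ orderOf (x ^ n) = p := by
  obtain ⟨p, hp, hpd⟩ := Nat.exists_prime_and_dvd (fun h => hx (orderOf_eq_one_iff.mp h))
  exact ⟨orderOf x / p, p, hp, hpd, orderOf_pow_orderOf_div (orderOf_pos x).ne' hpd⟩

theorem exists_mul_ppow {p : ℕ} (hp : p.Prime) (x : G) : ∃ s c : G, s ∈ zpowers x ∧ c ∈ zpowers x ∧
    x = s * c ∧ (∃ k, orderOf s = p ^ k) ∧ ¬ p ∣ orderOf c := by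
  obtain ⟨e, m, hm, he⟩ := Nat.exists_eq_pow_mul_and_not_dvd (orderOf_pos x).ne' p hp.ne_one
  have hco : Int.gcd (m : ℤ) ((p ^ e : ℕ) : ℤ) = 1 := by
    rw [Int.gcd_natCast_natCast]; exact ((hp.coprime_iff_not_dvd.mpr hm).pow_left e).symm
  have hb := Int.gcd_eq_gcd_ab (m : ℤ) ((p ^ e : ℕ) : ℤ)
  rw [hco] at hb
  set i := Int.gcdA (m : ℤ) ((p ^ e : ℕ) : ℤ)
  set j := Int.gcdB (m : ℤ) ((p ^ e : ℕ) : ℤ)
  refine ⟨x ^ ((m : ℤ) * i), x ^ (((p ^ e : ℕ) : ℤ) * j), zpow_mem_zpowers _ _, zpow_mem_zpowers _ _,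
    by rw [← zpow_add, ← hb]; simp, ?_, ?_⟩
  · obtain ⟨k, -, hk⟩ := (Nat.dvd_prime_pow hp).mp (orderOf_dvd_of_pow_eq_one (x := x ^ ((m : ℤ) * i)) (n := p ^ e) (by
      rw [← zpow_natCast, ← zpow_mul, show (m : ℤ) * i * ((p ^ e : ℕ) : ℤ) = ((p ^ e * m : ℕ) : ℤ) * i by
        push_cast; ring, zpow_mul, zpow_natCast, ← he, pow_orderOf_eq_one, one_zpow]))
    exact ⟨k, hk⟩
  · intro hd
    refine hm (hd.trans (orderOf_dvd_of_pow_eq_one ?_))
    rw [← zpow_natCast, ← zpow_mul, show ((p ^ e : ℕ) : ℤ) * j * (m : ℤ) = ((p ^ e * m : ℕ) : ℤ) * j by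
      push_cast; ring, zpow_mul, zpow_natCast, ← he, pow_orderOf_eq_one, one_zpow]

theorem mem_pCore_of_mem_fitting {p : ℕ} [Fact p.Prime] {x : G} (hx : x ∈ fittingSubgroup G)
    (hxp : ∃ k, orderOf x = p ^ k) : x ∈ pCore p G := by
  obtain ⟨k, hk⟩ := hxp
  have h1 : IsPGroup p (zpowers (⟨x, hx⟩ : fittingSubgroup G)) :=
    IsPGroup.of_card (by rw [Nat.card_zpowers, orderOf_mk, hk])
  obtain ⟨P, hP⟩ := h1.exists_le_sylow
  have hPn : (P : Subgroup (fittingSubgroup G)).Normal := inferInstance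
  have h2 := map_mono (f := (fittingSubgroup G).subtype) (le_pCore P.isPGroup')
  rw [map_pCore_normal] at h2
  exact (h2 (mem_map_of_mem _ (hP (mem_zpowers _)))).1

/-- A subgroup normalised by `C` has order multiplying nicely. -/
theorem card_sup_dvd_of_le_normalizer {X C : Subgroup G} (h : C ≤ normalizer (X : Set G)) :
    Nat.card (X ⊔ C : Subgroup G) ∣ Nat.card X * Nat.card C := by
  rw [← CentLarge.card_mul_card_inf X C, ← Subgroup.coe_mul_of_right_le_normalizer_left X C h]
  exact dvd_mul_right _ _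

end helpers

/-- The state of a minimal counterexample to Wielandt's theorem. -/
structure KW (A B : Subgroup G) : Prop where
  nilA : Group.IsNilpotent A
  nilB : Group.IsNilpotent B
  cop : (Nat.card A).Coprime (Nat.card B)
  mul : ∀ g : G, ∃ a ∈ A, ∃ b ∈ B, g = a * b
  ih : ∀ H : Subgroup G, H ≠ ⊤ →
    (∀ h ∈ H, ∃ a ∈ A, ∃ b ∈ B, a ∈ H ∧ b ∈ H ∧ h = a * b) → Group.IsSolvable H
  simple : ∀ N : Subgroup G, N.Normal → N = ⊥ ∨ N = ⊤
  nsolv : ¬ Group.IsSolvable G

namespace KW

variable [Finite G] {A B : Subgroup G}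

theorem symm (h : KW A B) : KW B A where
  nilA := h.nilB
  nilB := h.nilA
  cop := h.cop.symm
  mul := exists_mul_eq_swap h.mul
  ih H hH hf := h.ih H hH fun x hx => by
    obtain ⟨b, hb, a, ha, hbH, haH, e⟩ := hf x⁻¹ (inv_mem hx)
    exact ⟨a⁻¹, inv_mem ha, b⁻¹, inv_mem hb, inv_mem haH, inv_mem hbH,
      by rw [← mul_inv_rev, ← e, inv_inv]⟩
  simple := h.simple
  nsolv := h.nsolv

theorem inf_eq (h : KW A B) : A ⊓ B = ⊥ := Coprime.inf_eq_bot_of_coprime h.cop

theorem eq_one_of_mem (h : KW A B) {x : G} (hA : x ∈ A) (hB : x ∈ B) : x = 1 :=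
  mem_bot.mp (h.inf_eq ▸ (⟨hA, hB⟩ : x ∈ A ⊓ B))

theorem card_eq (h : KW A B) : Nat.card G = Nat.card A * Nat.card B := by
  have h1 := CentLarge.card_mul_card_inf A B
  have e0 : (A : Set G) * (B : Set G) = Set.univ := Set.eq_univ_of_forall fun g => by
    obtain ⟨a, ha, b, hb, rfl⟩ := h.mul g
    exact Set.mul_mem_mul ha hb
  rw [e0, h.inf_eq, card_bot, mul_one, Nat.card_congr (Equiv.Set.univ G)] at h1
  exact h1

theorem index_left (h : KW A B) : A.index = Nat.card B :=
  Nat.eq_of_mul_eq_mul_left (Nat.card_pos (α := A)) (by rw [A.card_mul_index, h.card_eq])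

theorem hall_left (h : KW A B) : (Nat.card A).Coprime A.index := h.index_left ▸ h.cop

theorem left_ne_top (h : KW A B) : A ≠ ⊤ := fun e => h.nsolv (by
  have := h.nilA
  have : Group.IsNilpotent G := Group.isNilpotent_top.mp (e ▸ this)
  infer_instance)

theorem left_ne_bot (h : KW A B) : A ≠ ⊥ := fun e => h.symm.left_ne_top (by
  refine top_le_iff.mp fun g _ => ?_
  obtain ⟨a, ha, b, hb, rfl⟩ := h.mul g
  rw [e, mem_bot] at ha
  rwa [ha, one_mul])

theorem normalizer_ne_top (h : KW A B) {R : Subgroup G} (hb : R ≠ ⊥) (ht : R ≠ ⊤) :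
    normalizer (R : Set G) ≠ ⊤ := fun e => (h.simple R (normalizer_eq_top_iff.mp e)).elim hb ht

theorem center_eq_bot (h : KW A B) : center G = ⊥ := by
  rcases h.simple (center G) inferInstance with e | e
  · exact e
  · refine absurd ?_ h.nsolv
    exact isSolvable_of_comm fun a b => mem_center_iff.mp (e ▸ mem_top b) a

theorem centralizer_ne_top (h : KW A B) {x : G} (hx : x ≠ 1) : centralizer ({x} : Set G) ≠ ⊤ :=
  fun e => hx (mem_bot.mp (h.center_eq_bot ▸ mem_center_iff.mpr fun y =>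
    mem_centralizer_singleton_iff.mp (e ▸ mem_top y)))

theorem exists_other_prime (h : KW A B) (p : ℕ) (hp : p.Prime) :
    ∃ s : ℕ, s.Prime ∧ s ∣ Nat.card A ∧ s ≠ p := by
  by_contra hc
  push Not at hc
  have hpow := Nat.eq_prime_pow_of_unique_prime_dvd (p := p) (n := Nat.card A) Nat.card_pos.ne'
    (fun {d} hd hdd => hc d hd hdd)
  obtain ⟨q, hq, hqd⟩ := Nat.exists_prime_and_dvd (n := Nat.card B) fun e =>
    h.symm.left_ne_bot (card_eq_one.mp e)
  have := Fact.mk hq
  obtain ⟨y, hyB, hy, hyc⟩ := exists_central_prime h.nilB q hqd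
  have hy1 : y ≠ 1 := fun e => hq.ne_one (by rw [← hy, e, orderOf_one])
  have : IsSimpleGroup G :=
    have : Nontrivial G := ⟨⟨y, 1, hy1⟩⟩
    ⟨fun N hN => h.simple N hN⟩
  obtain ⟨j, -, hj⟩ := (Nat.dvd_prime_pow hp).mp (hpow ▸ h.symm.index_left ▸ index_dvd_of_le
    (H := B) (K := centralizer ({y} : Set G)) fun b hb => mem_centralizer_singleton_iff.mpr (hyc b hb))
  exact h.nsolv (isSolvable_of_prime_card' (Char.prime_card_of_class_prime_pow p j hp y hy1 hj))
where
  isSolvable_of_prime_card' {H : Type u} [Group H] [Finite H] (hH : (Nat.card H).Prime) :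
      Group.IsSolvable H := by
    have := Fact.mk hH
    have := (IsPGroup.of_card (n := 1) (by rw [pow_one] : Nat.card H = (Nat.card H) ^ 1)).isNilpotent
    infer_instance

theorem exists_le_conj (h : KW A B) {K : Subgroup G} (hK : (Nat.card K).Coprime (Nat.card B)) :
    ∃ x : G, K ≤ MulAut.conj x • A :=
  exists_le_conj_nilpotent_hall h.nilA h.hall_left (h.index_left ▸ hK)

theorem pair (h : KW A B) {X Y : Subgroup G} (hX : A ≤ normalizer (X : Set G))
    (hY : B ≤ normalizer (Y : Set G)) (g k : G) :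
    ∃ t : G, MulAut.conj t • X = MulAut.conj g • X ∧ MulAut.conj t • Y = MulAut.conj k • Y := by
  obtain ⟨a, ha, b, hb, e⟩ := h.mul (g⁻¹ * k)
  refine ⟨g * a, ?_, ?_⟩
  · rw [Coprime.conj_mul_smul, Coprime.conj_smul_eq_self_of_mem_normalizer (hX ha)]
  · have h1 : g * a = k * b⁻¹ := by
      rw [show k = g * (a * b) by rw [← e, mul_inv_cancel_left]]; group
    rw [h1, Coprime.conj_mul_smul, Coprime.conj_smul_eq_self_of_mem_normalizer (hY (inv_mem hb))]

theorem conj_top (t : G) : MulAut.conj t • (⊤ : Subgroup G) = ⊤ :=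
  Coprime.conj_smul_eq_self_of_mem_normalizer (by rw [normalizer_eq_top]; trivial)

theorem conj_permutes {X Y : Subgroup G} (hp : Permutes X Y) (t : G) :
    Permutes (MulAut.conj t • X) (MulAut.conj t • Y) := by
  have h1 := congrArg (fun s : Set G => MulAut.conj t • s) hp
  simp only [smul_mul', ← coe_pointwise_smul] at h1
  exact h1

theorem kegel (h : KW A B) {X Y : Subgroup G} (hX : A ≤ normalizer (X : Set G))
    (hY : B ≤ normalizer (Y : Set G)) (hXb : X ≠ ⊥) (hYb : Y ≠ ⊥) (hp : Permutes X Y)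
    (ht : X ⊔ Y ≠ ⊤) : False := by
  obtain ⟨N, hN, hNt, hN'⟩ := kegel_nonsimple X Y (Or.inl hXb) fun x => by
    obtain ⟨t, h1, h2⟩ := h.pair hX hY 1 x
    rw [map_one, one_smul] at h1
    refine ⟨?_, fun e => ht ?_⟩
    · have := conj_permutes hp t
      rwa [h1, h2] at this
    · rw [← h2] at e
      nth_rw 1 [← h1] at e
      rw [← smul_sup] at e
      have := congrArg (fun S : Subgroup G => MulAut.conj t⁻¹ • S) e
      simp only [conj_top] at this
      rwa [map_inv, inv_smul_smul] at this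
  rcases h.simple N hN with e | e
  · exact hN'.elim (fun h' => hXb (le_bot_iff.mp (e ▸ h'))) (fun h' => hYb (le_bot_iff.mp (e ▸ h')))
  · exact hNt e

theorem solvable_normalizer_sup (h : KW A B) {X Y : Subgroup G} (hX : A ≤ normalizer (X : Set G))
    (hY : B ≤ normalizer (Y : Set G)) (hXb : X ≠ ⊥) (ht : X ⊔ Y ≠ ⊤) :
    Group.IsSolvable (normalizer ((X ⊔ Y : Subgroup G) : Set G)) := by
  refine h.ih _ (h.normalizer_ne_top (fun e => hXb (le_bot_iff.mp (e ▸ le_sup_left))) ht) fun n hn => ?_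
  obtain ⟨a, ha, b, hb, rfl⟩ := h.mul n
  have h1 := Coprime.conj_smul_eq_self_of_mem_normalizer hn
  rw [Coprime.conj_mul_smul] at h1
  have h2 : MulAut.conj b • (X ⊔ Y) = MulAut.conj a⁻¹ • (X ⊔ Y) := by
    have := congrArg (fun S : Subgroup G => MulAut.conj a⁻¹ • S) h1
    simpa only [map_inv, inv_smul_smul] using this
  have hb' : b ∈ normalizer ((X ⊔ Y : Subgroup G) : Set G) := by
    refine Coprime.mem_normalizer_of_conj_smul_eq
      (eq_of_le_of_card_ge (sup_le ?_ ?_) (Coprime.card_conj_smul b _).le).symm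
    · rw [h2, smul_sup, Coprime.conj_smul_eq_self_of_mem_normalizer (hX (inv_mem ha))]
      exact le_sup_left
    · rw [smul_sup, Coprime.conj_smul_eq_self_of_mem_normalizer (hY hb)]
      exact le_sup_right
  exact ⟨a, ha, b, hb, (mul_mem_cancel_right hb').mp hn, hb', rfl⟩

/-- No proper subgroup contains conjugates of Sylow subgroups of both factors. -/
theorem not_both (h : KW A B) {H : Subgroup G} (hH : H ≠ ⊤) {p q : ℕ} [hp : Fact p.Prime]
    [hq : Fact q.Prime] (P : Sylow p G) (hPA : (P : Subgroup G) ≤ A) (hPb : (P : Subgroup G) ≠ ⊥)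
    (Q : Sylow q G) (hQB : (Q : Subgroup G) ≤ B) (hQb : (Q : Subgroup G) ≠ ⊥) (g k : G)
    (hPH : MulAut.conj g • (P : Subgroup G) ≤ H) (hQH : MulAut.conj k • (Q : Subgroup G) ≤ H) :
    False := by
  have hX := mem_normalizer_sylow_of_isNilpotent h.nilA P hPA
  have hY := mem_normalizer_sylow_of_isNilpotent h.nilB Q hQB
  obtain ⟨t, ht1, ht2⟩ := h.pair hX hY g k
  have hDt : (P : Subgroup G) ⊔ Q ≠ ⊤ := fun e => hH (top_le_iff.mp (by
    rw [← conj_top t, ← e, smul_sup, ht1, ht2]; exact sup_le hPH hQH))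
  set N := normalizer (((P : Subgroup G) ⊔ Q : Subgroup G) : Set G) with hN
  have : Group.IsSolvable N := h.solvable_normalizer_sup hX hY hPb hDt
  have hPN : (P : Subgroup G) ≤ N := le_sup_left.trans le_normalizer
  have hQN : (Q : Subgroup G) ≤ N := le_sup_right.trans le_normalizer
  have hPQ : (Nat.card (P : Subgroup G)).Coprime (Nat.card (Q : Subgroup G)) :=
    (h.cop.coprime_dvd_left (card_dvd_of_le hPA)).coprime_dvd_right (card_dvd_of_le hQB)
  obtain ⟨n, hn⟩ := hPQ.mul_dvd_of_dvd_of_dvd (card_dvd_of_le hPN) (card_dvd_of_le hQN)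
  have hdvd : Nat.card (P : Subgroup G) * Nat.card (Q : Subgroup G) * n ∣ Nat.card G :=
    hn ▸ card_subgroup_dvd_card N
  have hn1 : (Nat.card (P : Subgroup G)).Coprime n := by
    refine P.card_coprime_index.coprime_dvd_right (Dvd.intro_left (Nat.card (Q : Subgroup G)) rfl |>.trans
      ((Nat.mul_dvd_mul_iff_left (Nat.card_pos (α := (P : Subgroup G)))).mp ?_) :
      n ∣ (P : Subgroup G).index)
    rw [card_mul_index, ← mul_assoc]; exact hdvd
  have hn2 : (Nat.card (Q : Subgroup G)).Coprime n := by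
    refine Q.card_coprime_index.coprime_dvd_right (Dvd.intro_left (Nat.card (P : Subgroup G)) rfl |>.trans
      ((Nat.mul_dvd_mul_iff_left (Nat.card_pos (α := (Q : Subgroup G)))).mp ?_) :
      n ∣ (Q : Subgroup G).index)
    rw [card_mul_index, ← mul_assoc, mul_comm (Nat.card (Q : Subgroup G))]; exact hdvd
  obtain ⟨T, hT⟩ := exists_hall hn (hn1.mul_left hn2)
  obtain ⟨x, hx⟩ := exists_le_conj_hall hn (hn1.mul_left hn2) hT (K := (P : Subgroup G).subgroupOf N)
    (by rw [Coprime.card_subgroupOf hPN]; exact hn1)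
  obtain ⟨y, hy⟩ := exists_le_conj_hall hn (hn1.mul_left hn2) hT (K := (Q : Subgroup G).subgroupOf N)
    (by rw [Coprime.card_subgroupOf hQN]; exact hn2)
  have hx' := map_mono (f := N.subtype) hx
  have hy' := map_mono (f := N.subtype) hy
  rw [map_subgroupOf_eq_of_le hPN, Coprime.conj_smul_map_subtype,
    subset_pointwise_smul_iff, ← map_inv] at hx'
  rw [map_subgroupOf_eq_of_le hQN, Coprime.conj_smul_map_subtype,
    subset_pointwise_smul_iff, ← map_inv] at hy'
  set P' := MulAut.conj (x : G)⁻¹ • (P : Subgroup G) with hP'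
  set Q' := MulAut.conj (y : G)⁻¹ • (Q : Subgroup G) with hQ'
  have hperm : Permutes P' Q' := by
    refine permutes_of_subgroup (S := T.map N.subtype)
      (Set.eq_of_subset_of_ncard_le ?_ ?_ (Set.toFinite _)).symm
    · rintro _ ⟨a, ha, b, hb, rfl⟩
      exact mul_mem (hx' ha) (hy' hb)
    · have h1 := CentLarge.card_mul_card_inf P' Q'
      have hc : (Nat.card P').Coprime (Nat.card Q') := by
        rw [hP', hQ', Coprime.card_conj_smul, Coprime.card_conj_smul]; exact hPQ
      rw [Coprime.inf_eq_bot_of_coprime hc, card_bot, mul_one] at h1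
      rw [← Nat.card_coe_set_eq, ← Nat.card_coe_set_eq, h1, hP', hQ', Coprime.card_conj_smul,
        Coprime.card_conj_smul]
      exact ((card_map_of_injective N.subtype_injective).trans hT).le
  obtain ⟨t', ht1', ht2'⟩ := h.pair hX hY (x : G)⁻¹ (y : G)⁻¹
  have := conj_permutes hperm t'⁻¹
  rw [hP', hQ', ← ht1', ← ht2', map_inv, inv_smul_smul, inv_smul_smul] at this
  exact h.kegel hX hY hPb hQb this hDt

/-- A nontrivial `π'`-subgroup has a nontrivial subgroup with the same symmetries centralised by a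
Sylow subgroup of `B`. -/
theorem exists_centralized (h : KW A B) {R : Subgroup G} (hR : (Nat.card R).Coprime (Nat.card A))
    (hRb : R ≠ ⊥) : ∃ R' : Subgroup G, R' ≠ ⊥ ∧ R' ≠ ⊤ ∧
      normalizer (R : Set G) ≤ normalizer (R' : Set G) ∧
      ∃ (s : ℕ) (_ : Fact s.Prime) (Q : Sylow s G) (x : G), (Q : Subgroup G) ≤ B ∧
        (Q : Subgroup G) ≠ ⊥ ∧ MulAut.conj x • (Q : Subgroup G) ≤ normalizer (R' : Set G) := by
  obtain ⟨x, hx⟩ := h.symm.exists_le_conj hR
  have hB' : Group.IsNilpotent (MulAut.conj x • B : Subgroup G) := by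
    rw [Coprime.conj_smul_eq_map]; exact isNilpotent_map h.nilB _
  obtain ⟨q, hq, hqd⟩ := Nat.exists_prime_and_dvd (n := Nat.card R) fun e => hRb (card_eq_one.mp e)
  have := Fact.mk hq
  have hqB : q ∣ Nat.card B :=
    Coprime.card_conj_smul x B ▸ hqd.trans (card_dvd_of_le hx)
  obtain ⟨Q₀, hQ₀, -⟩ := exists_sylow_le_hall h.symm.hall_left q hqB
  have hQ₁ : ((x • Q₀ : Sylow q G) : Subgroup G) ≤ MulAut.conj x • B :=
    pointwise_smul_le_pointwise_smul_iff.mpr hQ₀
  refine ⟨R ⊓ ((x • Q₀ : Sylow q G) : Subgroup G), ?_, ?_, ?_, ?_⟩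
  · obtain ⟨r, hr⟩ := exists_prime_orderOf_dvd_card' q hqd
    intro e
    have h1 : (r : G) ∈ R ⊓ ((x • Q₀ : Sylow q G) : Subgroup G) :=
      ⟨r.2, mem_sylow_of_nilpotent hB' _ hQ₁ (hx r.2) ⟨1, by rw [pow_one, orderOf_coe, hr]⟩⟩
    rw [e, mem_bot] at h1
    rw [← orderOf_coe, h1, orderOf_one] at hr
    exact hq.ne_one hr.symm
  · intro e
    have h1 : MulAut.conj x • B = ⊤ := top_le_iff.mp (e.ge.trans (inf_le_left.trans hx))
    have h2 := congrArg (fun S : Subgroup G => MulAut.conj x⁻¹ • S) h1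
    simp only [conj_top] at h2
    rw [map_inv, inv_smul_smul] at h2
    exact h.symm.left_ne_top h2
  · intro g hg
    refine Coprime.mem_normalizer_of_conj_smul_eq (eq_of_le_of_card_ge ?_ (Coprime.card_conj_smul g _).ge)
    intro y hy
    rw [Coprime.mem_conj_smul] at hy
    have hyR : y ∈ R := by
      have := Coprime.conj_mem_conj_smul (g := g) hy.1
      rw [Coprime.conj_smul_eq_self_of_mem_normalizer hg] at this
      simpa [mul_assoc] using this
    obtain ⟨k, hk⟩ := exists_orderOf_eq_pow (x • Q₀).isPGroup' hy.2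
    refine ⟨hyR, mem_sylow_of_nilpotent hB' _ hQ₁ (hx hyR) ⟨k, ?_⟩⟩
    rw [← hk, show g⁻¹ * y * g = MulAut.conj g⁻¹ y by simp, MulEquiv.orderOf_eq]
  · obtain ⟨s, hs, hsd, hsq⟩ := h.symm.exists_other_prime q hq
    have := Fact.mk hs
    obtain ⟨Q, hQ, hQb⟩ := exists_sylow_le_hall h.symm.hall_left s hsd
    refine ⟨s, this, Q, x, hQ, hQb, fun y hy => centralizer_le_normalizer _
      (mem_centralizer_iff.mpr fun r hr => ?_)⟩
    have hy' : y ∈ ((x • Q : Sylow s G) : Subgroup G) := hy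
    exact commute_in_nilpotent hB' (hQ₁ hr.2) (pointwise_smul_le_pointwise_smul_iff.mpr hQ hy)
      (orderOf_coprime_of_pow hq (exists_orderOf_eq_pow (x • Q₀).isPGroup' hr.2)
        (not_dvd_pow_orderOf hq hs hsq.symm (exists_orderOf_eq_pow (x • Q).isPGroup' hy')))

/-- A full Sylow subgroup for a prime of `A` normalises no nontrivial `π'`-subgroup. -/
theorem piPrime_eq_bot (h : KW A B) {R : Subgroup G} (hR : (Nat.card R).Coprime (Nat.card A))
    {p : ℕ} [Fact p.Prime] (hp : p ∣ Nat.card A) (P : Sylow p G)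
    (hP : (P : Subgroup G) ≤ normalizer (R : Set G)) : R = ⊥ := by
  by_contra hRb
  obtain ⟨R', h1, h2, h3, s, _, Q, x, hQ, hQb, hQx⟩ := h.exists_centralized hR hRb
  obtain ⟨P₀, hP₀, hP₀b⟩ := exists_sylow_le_hall h.hall_left p hp
  obtain ⟨g, rfl⟩ := MulAction.exists_smul_eq G P₀ P
  exact h.not_both (h.normalizer_ne_top h1 h2) P₀ hP₀ hP₀b Q hQ hQb g x (hP.trans h3) hQx

theorem le_left (h : KW A B) {X C : Subgroup G} (hC : C ≤ A) (hN : C ≤ normalizer (X : Set G))
    (hX : (Nat.card X).Coprime (Nat.card B))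
    (hf : ∀ x ∈ X, ∃ a ∈ C, ∃ b ∈ B, x = a * b) : X ≤ A := by
  intro x hx
  obtain ⟨a, ha, b, hb, rfl⟩ := hf x hx
  have h1 : b ∈ X ⊔ C := by
    have := mul_mem (inv_mem (mem_sup_right (S := X) ha)) (mem_sup_left (T := C) hx)
    rwa [inv_mul_cancel_left] at this
  have h2 : (Nat.card (X ⊔ C : Subgroup G)).Coprime (Nat.card B) :=
    (hX.mul_left (h.cop.coprime_dvd_left (card_dvd_of_le hC))).coprime_dvd_left
      (card_sup_dvd_of_le_normalizer hN)
  have : b = 1 := mem_bot.mp (Coprime.inf_eq_bot_of_coprime h2 ▸ (⟨h1, hb⟩ : b ∈ (X ⊔ C) ⊓ B))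
  rw [this, mul_one]; exact hC ha

/-- A proper subgroup containing `A` normalises it. -/
theorem le_normalizer_left (h : KW A B) {H : Subgroup G} (hH : H ≠ ⊤) (hAH : A ≤ H) :
    H ≤ normalizer (A : Set G) := by
  have hf : ∀ x ∈ H, ∃ a ∈ A, ∃ b ∈ B, a ∈ H ∧ b ∈ H ∧ x = a * b := fun x hx => by
    obtain ⟨a, ha, b, hb, rfl⟩ := h.mul x
    exact ⟨a, ha, b, hb, hAH ha, (mul_mem_cancel_left (hAH ha)).mp hx, rfl⟩
  have : Group.IsSolvable H := h.ih H hH hf
  have hnorm : ∀ X : Subgroup H, X.Normal → A ≤ normalizer (X.map H.subtype : Set G) := fun X hX => by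
    have h1 := le_normalizer_map (H := X) H.subtype
    rw [normalizer_eq_top, ← MonoidHom.range_eq_map, H.range_subtype] at h1
    exact hAH.trans h1
  have hsmall : ∀ X : Subgroup H, X.Normal → (Nat.card X).Coprime (Nat.card B) → X.map H.subtype ≤ A :=
    fun X hX hc => h.le_left le_rfl (hnorm X hX) (by rwa [card_map_of_injective H.subtype_injective])
      fun x _ => h.mul x
  obtain ⟨p₀, hp₀, hp₀d⟩ := Nat.exists_prime_and_dvd (n := Nat.card A) fun e =>
    h.left_ne_bot (card_eq_one.mp e)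
  have := Fact.mk hp₀
  obtain ⟨P₀, hP₀, -⟩ := exists_sylow_le_hall h.hall_left p₀ hp₀d
  have hcore : ∀ u : Nat.Primes, (pCore (u : ℕ) H).map H.subtype ≤ A := fun u => by
    have := Fact.mk u.2
    obtain ⟨k, hk⟩ := IsPGroup.iff_card.mp (pCore_isPGroup (p := (u : ℕ)) (G := H))
    by_cases hu : (u : ℕ) ∣ Nat.card B
    · rw [h.piPrime_eq_bot (R := (pCore (u : ℕ) H).map H.subtype)
        (by rw [card_map_of_injective H.subtype_injective, hk]
            exact (u.2.coprime_iff_not_dvd.mpr fun hd => u.2.ne_one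
              (Nat.eq_one_of_dvd_coprimes h.cop hd hu)).pow_left k)
        hp₀d P₀ (hP₀.trans (hnorm _ inferInstance))]
      exact bot_le
    · exact hsmall _ inferInstance (hk ▸ (u.2.coprime_iff_not_dvd.mpr hu).pow_left k)
  have hF : (fittingSubgroup H).map H.subtype ≤ A := by
    rw [fittingSubgroup_eq_iSup_pCore, Subgroup.map_iSup]; exact iSup_le hcore
  -- the centraliser of all cores but one
  let E : ℕ → Subgroup H := fun s =>
    ⨅ t : {t : Nat.Primes // (t : ℕ) ≠ s}, centralizer (pCore ((t : Nat.Primes) : ℕ) H : Set H)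
  have hEn : ∀ s, (E s).Normal := fun s => normal_iInf_normal fun t => inferInstance
  have hAE : ∀ (s : ℕ) (x : H), (x : G) ∈ A → s.Prime → (∃ k, orderOf (x : G) = s ^ k) → x ∈ E s := by
    intro s x hx hs hxs
    refine mem_iInf.mpr fun t => mem_centralizer_iff.mpr fun y hy => Subtype.ext ?_
    have := Fact.mk t.1.2
    obtain ⟨k, hk⟩ := IsPGroup.iff_orderOf.mp (pCore_isPGroup (p := ((t : Nat.Primes) : ℕ)) (G := H)) ⟨y, hy⟩
    refine commute_in_nilpotent h.nilA (hcore t.1 (mem_map_of_mem _ hy)) hx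
      (orderOf_coprime_of_pow t.1.2 ⟨k, ?_⟩ (not_dvd_pow_orderOf t.1.2 hs t.2 hxs))
    rw [← hk, orderOf_mk, Subgroup.orderOf_coe]
  have hEA : ∀ s : ℕ, s.Prime → (E s).map H.subtype ≤ A := by
    intro s hs
    refine hsmall _ (hEn s) (Nat.coprime_of_dvd' fun q hq hqE hqB => absurd hqB fun hqB => ?_)
    have := Fact.mk hq
    obtain ⟨⟨b, hbE⟩, hb⟩ := exists_prime_orderOf_dvd_card' q hqE
    rw [orderOf_mk] at hb
    obtain ⟨t, ht, htd, hts⟩ := h.exists_other_prime s hs
    have := Fact.mk ht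
    obtain ⟨P, hP, hPb⟩ := exists_sylow_le_hall h.hall_left t htd
    have htq : t ≠ q := fun e => hq.ne_one (Nat.eq_one_of_dvd_coprimes h.cop (e ▸ htd) hqB)
    -- `b` centralises the Sylow subgroup for `t`
    have hcomm : ∀ a ∈ (P : Subgroup G), (b : G) * a = a * (b : G) := by
      intro a ha
      set a' : H := ⟨a, hAH (hP ha)⟩ with ha'
      have hat : ∃ k, orderOf (a' : G) = t ^ k := exists_orderOf_eq_pow P.isPGroup' ha
      set c : H := b * a' * b⁻¹ * a'⁻¹ with hc
      have hc1 : c ∈ E s := by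
        rw [hc, mul_assoc b, mul_assoc b]
        exact mul_mem hbE ((hEn s).conj_mem _ (inv_mem hbE) a')
      have hc2 : c ∈ E t :=
        mul_mem ((hEn t).conj_mem _ (hAE t a' (hP ha) ht hat) b) (inv_mem (hAE t a' (hP ha) ht hat))
      have hcF : c ∈ fittingSubgroup H := by
        refine centralizer_fittingSubgroup_le (mem_centralizer_iff.mpr fun y hy => ?_)
        have hle : fittingSubgroup H ≤ centralizer ({c} : Set H) := by
          rw [fittingSubgroup_eq_iSup_pCore]
          refine iSup_le fun u y hy => mem_centralizer_singleton_iff.mpr ?_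
          rcases ne_or_eq (u : ℕ) s with hu | hu
          · exact mem_centralizer_iff.mp (mem_iInf.mp hc1 ⟨u, hu⟩) y hy
          · exact mem_centralizer_iff.mp (mem_iInf.mp hc2 ⟨u, hu ▸ hts.symm⟩) y hy
        exact mem_centralizer_singleton_iff.mp (hle hy)
      have hcA : (c : G) ∈ A := hF (mem_map_of_mem _ hcF)
      have hba : (c : G) * a = (b : G) * a * (b : G)⁻¹ := by simp [hc, ha', mul_assoc]
      have hP1 : (c : G) * a ∈ (P : Subgroup G) := by
        refine mem_sylow_of_nilpotent h.nilA P hP (mul_mem hcA (hP ha)) ?_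
        obtain ⟨k, hk⟩ := hat
        refine ⟨k, ?_⟩
        rw [hba, show (b : G) * a * (b : G)⁻¹ = MulAut.conj (b : G) a by simp, MulEquiv.orderOf_eq]
        exact hk
      have hcP : (c : G) ∈ (P : Subgroup G) := by simpa using mul_mem hP1 (inv_mem ha)
      obtain ⟨k, hk⟩ := exists_orderOf_eq_pow P.isPGroup' hcP
      have hct : c ∈ pCore t H := mem_pCore_of_mem_fitting hcF ⟨k, by rw [← Subgroup.orderOf_coe, hk]⟩
      have hbc : (b : G) * c = (c : G) * b :=
        (congrArg Subtype.val (mem_centralizer_iff.mp (mem_iInf.mp hbE ⟨⟨t, ht⟩, hts⟩) c hct)).symm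
      have hiter : ∀ n : ℕ, (b : G) ^ n * a * ((b : G) ^ n)⁻¹ = (c : G) ^ n * a := by
        intro n
        induction n with
        | zero => simp
        | succ n ih =>
          have hbcn : (b : G) * (c : G) ^ n = (c : G) ^ n * b := (Commute.pow_right hbc n).eq
          rw [pow_succ' (b : G), mul_inv_rev]
          calc (b : G) * (b : G) ^ n * a * (((b : G) ^ n)⁻¹ * (b : G)⁻¹)
              = (b : G) * ((b : G) ^ n * a * ((b : G) ^ n)⁻¹) * (b : G)⁻¹ := by group
            _ = (b : G) * (c : G) ^ n * (a * (b : G)⁻¹) := by rw [ih]; group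
            _ = (c : G) ^ n * ((b : G) * a * (b : G)⁻¹) := by rw [hbcn]; group
            _ = (c : G) ^ n * ((c : G) * a) := by rw [hba]
            _ = _ := by rw [pow_succ, mul_assoc]
      have h1 := hiter q
      have hbq : (b : G) ^ q = 1 := by
        rw [← hb, ← Subgroup.orderOf_coe, pow_orderOf_eq_one]
      rw [hbq, one_mul, inv_one, mul_one] at h1
      have hcq : (c : G) ^ q = 1 := by
        exact mul_right_cancel (h1.symm.trans (one_mul a).symm)
      have : (c : G) = 1 := orderOf_eq_one_iff.mp (Nat.eq_one_of_dvd_coprimes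
        (orderOf_coprime_of_pow ht ⟨k, hk⟩ fun hd => htq ((Nat.prime_dvd_prime_iff_eq ht hq).mp hd))
        dvd_rfl (orderOf_dvd_of_pow_eq_one hcq))
      rw [this, one_mul] at hba
      calc (b : G) * a = (b : G) * a * (b : G)⁻¹ * b := by group
        _ = a * (b : G) := by rw [← hba]
    have h1 := h.piPrime_eq_bot (R := zpowers (b : G))
      (by rw [Nat.card_zpowers, Subgroup.orderOf_coe, hb]
          exact hq.coprime_iff_not_dvd.mpr fun hd => hq.ne_one
            (Nat.eq_one_of_dvd_coprimes h.cop hd hqB))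
      htd P fun a ha => centralizer_le_normalizer _ (mem_centralizer_iff.mpr fun y hy => by
        obtain ⟨i, rfl⟩ := hy
        exact (Commute.zpow_left (hcomm a ha) i).eq)
    rw [zpowers_eq_bot] at h1
    rw [← Subgroup.orderOf_coe, h1, orderOf_one] at hb
    exact hq.ne_one hb.symm
  have hAF : A = (fittingSubgroup H).map H.subtype := by
    refine le_antisymm ?_ hF
    rw [← subgroupOf_eq_top]
    refine eq_top_of_forall_sylow fun s hs hsd => ?_
    have := Fact.mk hs
    obtain ⟨S, hS, -⟩ := exists_sylow_le_hall h.hall_left s hsd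
    refine ⟨S.subtype hS, fun x hx => ?_⟩
    rw [Sylow.coe_subtype, mem_subgroupOf] at hx
    have h1 : E s ≤ fittingSubgroup H := by
      have := hEn s
      refine le_fittingSubgroup ((Group.isNilpotent_congr
        ((E s).equivMapOfInjective H.subtype H.subtype_injective)).mpr (isNilpotent_mono h.nilA (hEA s hs)))
    exact mem_subgroupOf.mpr (mem_map_of_mem H.subtype (h1 (hAE s ⟨x, hAH x.2⟩ x.2 hs
      (exists_orderOf_eq_pow S.isPGroup' hx))))
  rw [hAF]
  have h1 := le_normalizer_map (H := fittingSubgroup H) H.subtype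
  rwa [normalizer_eq_top, ← MonoidHom.range_eq_map, H.range_subtype] at h1

/-- No proper subgroup contains a central element of prime order of `A` and a Sylow subgroup for a
prime of `B`. -/
theorem not_center_sylow (h : KW A B) {H : Subgroup G} (hH : H ≠ ⊤) {z : G} (hzA : z ∈ A)
    (hzc : ∀ a ∈ A, a * z = z * a) (hz1 : z ≠ 1) (hzH : z ∈ H) {s : ℕ} [hs : Fact s.Prime]
    (Q : Sylow s G) (hQB : (Q : Subgroup G) ≤ B) (hQb : (Q : Subgroup G) ≠ ⊥) (g : G)
    (hQH : MulAut.conj g • (Q : Subgroup G) ≤ H) : False := by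
  set X := zpowers z with hXdef
  have hX : A ≤ normalizer (X : Set G) := fun a ha => centralizer_le_normalizer _
    (mem_centralizer_iff.mpr fun y hy => by
      obtain ⟨i, rfl⟩ := hy
      exact (Commute.zpow_left (show Commute z a from (hzc a ha).symm) i).eq)
  have hXb : X ≠ ⊥ := fun e => hz1 (zpowers_eq_bot.mp e)
  have hY := mem_normalizer_sylow_of_isNilpotent h.nilB Q hQB
  obtain ⟨t, ht1, ht2⟩ := h.pair hX hY 1 g
  rw [map_one, one_smul] at ht1
  have hDt : X ⊔ (Q : Subgroup G) ≠ ⊤ := fun e => hH (top_le_iff.mp (by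
    rw [← conj_top t, ← e, smul_sup, ht1, ht2]; exact sup_le (zpowers_le.mpr hzH) hQH))
  set N := normalizer ((X ⊔ (Q : Subgroup G) : Subgroup G) : Set G) with hN
  have hNt : N ≠ ⊤ := h.normalizer_ne_top (fun e => hXb (le_bot_iff.mp (e ▸ le_sup_left))) hDt
  have : Group.IsSolvable N := h.solvable_normalizer_sup hX hY hXb hDt
  have hfN : ∀ x ∈ N, ∃ a ∈ A, ∃ b ∈ B, a ∈ N ∧ b ∈ N ∧ x = a * b := by
    intro x hx
    obtain ⟨a, ha, b, hb, rfl⟩ := h.mul x
    have h1 := Coprime.conj_smul_eq_self_of_mem_normalizer hx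
    rw [Coprime.conj_mul_smul] at h1
    have h2 : MulAut.conj b • (X ⊔ (Q : Subgroup G)) = MulAut.conj a⁻¹ • (X ⊔ (Q : Subgroup G)) := by
      have := congrArg (fun S : Subgroup G => MulAut.conj a⁻¹ • S) h1
      simpa only [map_inv, inv_smul_smul] using this
    have hb' : b ∈ N := by
      refine Coprime.mem_normalizer_of_conj_smul_eq
        (eq_of_le_of_card_ge (sup_le ?_ ?_) (Coprime.card_conj_smul b _).le).symm
      · rw [h2, smul_sup, Coprime.conj_smul_eq_self_of_mem_normalizer (hX (inv_mem ha))]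
        exact le_sup_left
      · rw [smul_sup, Coprime.conj_smul_eq_self_of_mem_normalizer (hY hb)]
        exact le_sup_right
    exact ⟨a, ha, b, hb, (mul_mem_cancel_right hb').mp hx, hb', rfl⟩
  have hQN : (Q : Subgroup G) ≤ N := le_sup_right.trans le_normalizer
  have hnorm : ∀ Y : Subgroup N, Y.Normal → N ≤ normalizer (Y.map N.subtype : Set G) := fun Y hY => by
    have h1 := le_normalizer_map (H := Y) N.subtype
    rwa [normalizer_eq_top, ← MonoidHom.range_eq_map, N.range_subtype] at h1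
  have hsB : s ∣ Nat.card B :=
    (Q.isPGroup'.card_eq_or_dvd.resolve_left fun e => hQb (card_eq_one.mp e)).trans (card_dvd_of_le hQB)
  have hcore : ∀ u : Nat.Primes, (pCore (u : ℕ) N).map N.subtype ≤ B := fun u => by
    have := Fact.mk u.2
    obtain ⟨k, hk⟩ := IsPGroup.iff_card.mp (pCore_isPGroup (p := (u : ℕ)) (G := N))
    by_cases hu : (u : ℕ) ∣ Nat.card A
    · rw [h.symm.piPrime_eq_bot (R := (pCore (u : ℕ) N).map N.subtype)
        (by rw [card_map_of_injective N.subtype_injective, hk]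
            exact (u.2.coprime_iff_not_dvd.mpr fun hd => u.2.ne_one
              (Nat.eq_one_of_dvd_coprimes h.cop hu hd)).pow_left k)
        hsB Q (hQN.trans (hnorm _ inferInstance))]
      exact bot_le
    · refine h.symm.le_left (C := B ⊓ N) inf_le_left (inf_le_right.trans (hnorm _ inferInstance)) ?_ ?_
      · rw [card_map_of_injective N.subtype_injective, hk]
        exact (u.2.coprime_iff_not_dvd.mpr hu).pow_left k
      · intro x hx
        obtain ⟨a, ha, b, hb, haN, hbN, e⟩ := hfN x⁻¹ (inv_mem (map_subtype_le _ hx))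
        exact ⟨b⁻¹, ⟨B.inv_mem hb, N.inv_mem hbN⟩, a⁻¹, inv_mem ha, by rw [← mul_inv_rev, ← e, inv_inv]⟩
  set R := (pCore s N).map N.subtype with hR
  have hRb : R ≠ ⊥ := fun e => by
    have hs0 : pCore s N = ⊥ := (map_eq_bot_iff_of_injective _ N.subtype_injective).mp e
    have h1 : (Q : Subgroup G).subgroupOf N ≤ fittingSubgroup N := by
      refine le_trans (fun x hx => ?_) centralizer_fittingSubgroup_le
      refine mem_centralizer_iff.mpr fun y hy => ?_
      have hle : fittingSubgroup N ≤ centralizer ({x} : Set N) := by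
        rw [fittingSubgroup_eq_iSup_pCore]
        refine iSup_le fun u y hy => mem_centralizer_singleton_iff.mpr ?_
        have := Fact.mk u.2
        rcases ne_or_eq (u : ℕ) s with hu | hu
        · obtain ⟨k, hk⟩ := IsPGroup.iff_orderOf.mp (pCore_isPGroup (p := (u : ℕ)) (G := N)) ⟨y, hy⟩
          refine Subtype.ext (commute_in_nilpotent h.nilB (hcore u (mem_map_of_mem _ hy))
            (hQB (mem_subgroupOf.mp hx)) ?_)
          refine orderOf_coprime_of_pow u.2 ⟨k, ?_⟩
            (not_dvd_pow_orderOf u.2 hs.out hu (exists_orderOf_eq_pow Q.isPGroup' (mem_subgroupOf.mp hx)))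
          rw [← hk, orderOf_mk, Subgroup.orderOf_coe]
        · rw [hu, hs0, mem_bot] at hy
          rw [hy, one_mul, mul_one]
      exact mem_centralizer_singleton_iff.mp (hle hy)
    refine hQb ((eq_bot_iff_forall _).mpr fun x hx => ?_)
    have h2 : (⟨x, hQN hx⟩ : N) ∈ pCore s N := by
      refine mem_pCore_of_mem_fitting (h1 (mem_subgroupOf.mpr hx)) ?_
      obtain ⟨k, hk⟩ := exists_orderOf_eq_pow Q.isPGroup' hx
      exact ⟨k, by rw [orderOf_mk, hk]⟩
    rw [hs0, mem_bot] at h2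
    exact congrArg Subtype.val h2
  have hRQ : R ≤ (Q : Subgroup G) := by
    have h1 := map_mono (f := N.subtype) (pCore_le_sylow (Q.subtype hQN))
    rwa [Sylow.coe_subtype, map_subgroupOf_eq_of_le hQN] at h1
  have hBR : B ≤ normalizer (R : Set G) := by
    rw [← subgroupOf_eq_top]
    refine eq_top_of_forall_sylow fun p hp hpd => ?_
    have := Fact.mk hp
    obtain ⟨S, hS, -⟩ := exists_sylow_le_hall h.symm.hall_left p hpd
    refine ⟨S.subtype hS, fun x hx => ?_⟩
    rw [Sylow.coe_subtype, mem_subgroupOf] at hx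
    refine mem_subgroupOf.mpr ?_
    rcases ne_or_eq p s with hps | hps
    · exact centralizer_le_normalizer _ (mem_centralizer_iff.mpr fun r hr =>
        commute_in_nilpotent h.nilB (hQB (hRQ hr)) x.2
          (orderOf_coprime_of_pow hs.out (exists_orderOf_eq_pow Q.isPGroup' (hRQ hr))
            (not_dvd_pow_orderOf hs.out hp hps.symm (exists_orderOf_eq_pow S.isPGroup' hx))))
    · subst hps
      exact hnorm _ inferInstance (hQN (mem_sylow_of_nilpotent h.nilB Q hQB x.2
        (exists_orderOf_eq_pow S.isPGroup' hx)))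
  have hRt : R ≠ ⊤ := fun e => hNt (top_le_iff.mp (e ▸ hRQ.trans hQN))
  have hzB : z ∈ normalizer (B : Set G) :=
    h.symm.le_normalizer_left (h.normalizer_ne_top hRb hRt) hBR
      (hnorm _ inferInstance ((le_sup_left.trans le_normalizer : X ≤ N) (mem_zpowers z)))
  have hXB : X ≤ normalizer (B : Set G) := zpowers_le.mpr hzB
  refine h.kegel (X := X) (Y := B) hX le_normalizer hXb h.symm.left_ne_bot
    (permutes_of_subgroup (Subgroup.coe_mul_of_left_le_normalizer_right X B hXB)) fun e => ?_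
  exact h.normalizer_ne_top h.symm.left_ne_bot h.symm.left_ne_top
    (top_le_iff.mp (e ▸ sup_le hXB le_normalizer))

/-- A central element of `A` has centraliser `A`. -/
theorem centralizer_center (h : KW A B) {z : G} (hzA : z ∈ A) (hzc : ∀ a ∈ A, a * z = z * a)
    (hz1 : z ≠ 1) : centralizer ({z} : Set G) = A := by
  refine le_antisymm (fun x hx => ?_) fun a ha => mem_centralizer_singleton_iff.mpr (hzc a ha)
  obtain ⟨a, ha, b, hb, rfl⟩ := h.mul x
  rw [mem_centralizer_singleton_iff] at hx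
  have hbz : Commute b z := by
    refine mul_left_cancel (a := a) ?_
    rw [← mul_assoc, hx, ← mul_assoc, ← hzc a ha, mul_assoc]
  by_cases hb1 : b = 1
  · rw [hb1, mul_one]; exact ha
  obtain ⟨n, p, hp, -, hzn⟩ := exists_pow_prime hz1
  obtain ⟨m, q, hq, hqd, hbm⟩ := exists_pow_prime hb1
  have := Fact.mk hq
  obtain ⟨s, hs, hsd, hsq⟩ := h.symm.exists_other_prime q hq
  have := Fact.mk hs
  obtain ⟨Q, hQ, hQb⟩ := exists_sylow_le_hall h.symm.hall_left s hsd
  exfalso
  refine h.not_center_sylow (z := z ^ n) (H := centralizer ({b ^ m} : Set G))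
    (h.centralizer_ne_top fun e => hq.ne_one (by rw [← hbm, e, orderOf_one])) (pow_mem hzA n)
    (fun a ha => (Commute.pow_right (show Commute a z from hzc a ha) n).eq)
    (fun e => hp.ne_one (by rw [← hzn, e, orderOf_one]))
    (mem_centralizer_singleton_iff.mpr (hbz.symm.pow_pow n m).eq) Q hQ hQb 1 ?_
  rw [map_one, one_smul]
  intro y hy
  exact mem_centralizer_singleton_iff.mpr (commute_in_nilpotent h.nilB (hQ hy) (pow_mem hb m)
    (orderOf_coprime_of_pow hs (exists_orderOf_eq_pow Q.isPGroup' hy)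
      (not_dvd_pow_orderOf hs hq hsq ⟨1, by rw [pow_one, hbm]⟩)))

theorem mem_normalizer_of_conj (h : KW A B) {z k : G} (hzA : z ∈ A) (hzc : ∀ a ∈ A, a * z = z * a)
    (hz1 : z ≠ 1) (hk : k⁻¹ * z * k ∈ A) : k ∈ normalizer (A : Set G) := by
  obtain ⟨n, p, hp, -, hzn⟩ := exists_pow_prime hz1
  obtain ⟨t, ht, htd, htp⟩ := h.exists_other_prime p hp
  have := Fact.mk ht
  obtain ⟨P, hP, hPb⟩ := exists_sylow_le_hall h.hall_left t htd
  have hC : centralizer ({z ^ n} : Set G) = A := h.centralizer_center (pow_mem hzA n)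
    (fun a ha => (Commute.pow_right (show Commute a z from hzc a ha) n).eq)
    (fun e => hp.ne_one (by rw [← hzn, e, orderOf_one]))
  have hk' : k⁻¹ * z ^ n * k ∈ A := by
    have e : MulAut.conj k⁻¹ (z ^ n) = (MulAut.conj k⁻¹ z) ^ n := map_pow _ _ _
    simp only [MulAut.conj_apply, inv_inv] at e
    rw [e]; exact pow_mem hk n
  have hle : MulAut.conj k • (P : Subgroup G) ≤ A := by
    intro y hy
    rw [← hC, mem_centralizer_singleton_iff]
    rw [Coprime.mem_conj_smul] at hy
    have h1 := commute_in_nilpotent h.nilA (hP hy) hk'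
      (orderOf_coprime_of_pow ht (exists_orderOf_eq_pow P.isPGroup' hy)
        (not_dvd_pow_orderOf ht hp htp ⟨1, by
          rw [pow_one, show k⁻¹ * z ^ n * k = MulAut.conj k⁻¹ (z ^ n) by simp, MulEquiv.orderOf_eq, hzn]⟩))
    calc y * z ^ n = k * ((k⁻¹ * y * k) * (k⁻¹ * z ^ n * k)) * k⁻¹ := by group
      _ = k * ((k⁻¹ * z ^ n * k) * (k⁻¹ * y * k)) * k⁻¹ := by rw [h1]
      _ = z ^ n * y := by group
  have heq : MulAut.conj k • (P : Subgroup G) = P := by
    refine eq_of_le_of_card_ge (fun y hy => mem_sylow_of_nilpotent h.nilA P hP (hle hy) ?_)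
      (Coprime.card_conj_smul k _).ge
    rw [Coprime.mem_conj_smul] at hy
    obtain ⟨i, hi⟩ := exists_orderOf_eq_pow P.isPGroup' hy
    exact ⟨i, by rw [← hi, show k⁻¹ * y * k = MulAut.conj k⁻¹ y by simp, MulEquiv.orderOf_eq]⟩
  exact h.le_normalizer_left (h.normalizer_ne_top hPb fun e => h.left_ne_top (top_le_iff.mp (e ▸ hP)))
    (mem_normalizer_sylow_of_isNilpotent h.nilA P hP) (Coprime.mem_normalizer_of_conj_smul_eq heq)

theorem not_normalized_by_center (h : KW A B) {R : Subgroup G}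
    (hR : (Nat.card R).Coprime (Nat.card A)) {z : G} (hzA : z ∈ A) (hzc : ∀ a ∈ A, a * z = z * a)
    (hz1 : z ≠ 1) (hzR : z ∈ normalizer (R : Set G)) : R = ⊥ := by
  by_contra hRb
  obtain ⟨R', h1, h2, h3, s, _, Q, x, hQ, hQb, hQx⟩ := h.exists_centralized hR hRb
  exact h.not_center_sylow (h.normalizer_ne_top h1 h2) hzA hzc hz1 (h3 hzR) Q hQ hQb x hQx

/-- A proper solvable subgroup containing a central element of `A` normalises `A`. -/
theorem le_normalizer_of_center (h : KW A B) {S : Subgroup G} (hS : Group.IsSolvable S)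
    {z : G} (hzA : z ∈ A) (hzc : ∀ a ∈ A, a * z = z * a) (hz1 : z ≠ 1) (hzS : z ∈ S) :
    S ≤ normalizer (A : Set G) := by
  set F := (fittingSubgroup S).map S.subtype with hF
  have hnorm : ∀ Y : Subgroup S, Y.Normal → S ≤ normalizer (Y.map S.subtype : Set G) := fun Y hY => by
    have h1 := le_normalizer_map (H := Y) S.subtype
    rwa [normalizer_eq_top, ← MonoidHom.range_eq_map, S.range_subtype] at h1
  have hFc : (Nat.card F).Coprime (Nat.card B) := by
    rw [hF, card_map_of_injective S.subtype_injective]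
    refine Nat.coprime_of_dvd' fun q hq hqF hqB => absurd hqB fun hqB => ?_
    have := Fact.mk hq
    obtain ⟨⟨b, hbF⟩, hb⟩ := exists_prime_orderOf_dvd_card' q hqF
    rw [orderOf_mk] at hb
    have h1 := mem_pCore_of_mem_fitting hbF ⟨1, by rw [pow_one, hb]⟩
    obtain ⟨k, hk⟩ := IsPGroup.iff_card.mp (pCore_isPGroup (p := q) (G := S))
    have h2 := h.not_normalized_by_center (R := (pCore q S).map S.subtype)
      (by rw [card_map_of_injective S.subtype_injective, hk]
          exact (hq.coprime_iff_not_dvd.mpr fun hd => hq.ne_one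
            (Nat.eq_one_of_dvd_coprimes h.cop hd hqB)).pow_left k)
      hzA hzc hz1 (hnorm _ inferInstance hzS)
    have h3 : (b : G) = 1 := mem_bot.mp (h2 ▸ mem_map_of_mem S.subtype h1)
    rw [← Subgroup.orderOf_coe, h3, orderOf_one] at hb
    exact hq.ne_one hb.symm
  have hzFn : zpowers z ≤ normalizer (F : Set G) :=
    zpowers_le.mpr (hnorm _ inferInstance hzS)
  have hzc' : (Nat.card (zpowers z)).Coprime (Nat.card B) :=
    h.cop.coprime_dvd_left (card_dvd_of_le (zpowers_le.mpr hzA))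
  obtain ⟨x, hx⟩ := h.exists_le_conj
    ((hFc.mul_left hzc').coprime_dvd_left (card_sup_dvd_of_le_normalizer hzFn))
  have hxM : x ∈ normalizer (A : Set G) := h.mem_normalizer_of_conj hzA hzc hz1
    (Coprime.mem_conj_smul.mp (hx (mem_sup_right (mem_zpowers z))))
  rw [Coprime.conj_smul_eq_self_of_mem_normalizer hxM] at hx
  have hzF : (⟨z, hzS⟩ : S) ∈ fittingSubgroup S := by
    have := hS
    refine centralizer_fittingSubgroup_le (mem_centralizer_iff.mpr fun y hy => Subtype.ext ?_)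
    exact hzc _ (hx (mem_sup_left (mem_map_of_mem S.subtype hy)))
  intro s hs
  refine (inv_mem_iff (x := s)).mp (h.mem_normalizer_of_conj (k := s⁻¹) hzA hzc hz1 ?_)
  rw [inv_inv]
  exact hx (mem_sup_left (mem_map_of_mem S.subtype
    ((fittingSubgroup_normal (G := S)).conj_mem _ hzF ⟨s, hs⟩)))

theorem exists_center (h : KW A B) : ∃ z : G, z ∈ A ∧ (∀ a ∈ A, a * z = z * a) ∧ z ≠ 1 := by
  obtain ⟨p, hp, hpd⟩ := Nat.exists_prime_and_dvd (n := Nat.card A) fun e =>
    h.left_ne_bot (card_eq_one.mp e)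
  have := Fact.mk hp
  obtain ⟨z, hz, hzo, hzc⟩ := exists_central_prime h.nilA p hpd
  exact ⟨z, hz, hzc, fun e => hp.ne_one (by rw [← hzo, e, orderOf_one])⟩

theorem centralizer_right (h : KW A B) {b : G} (hb : b ∈ B) (hbA : b ∈ normalizer (A : Set G))
    (hb1 : b ≠ 1) : Group.IsSolvable (centralizer ({b} : Set G)) ∧
      centralizer ({b} : Set G) ≤ normalizer (B : Set G) := by
  have hsol : Group.IsSolvable (centralizer ({b} : Set G)) := by
    refine h.ih _ (h.centralizer_ne_top hb1) fun x hx => ?_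
    obtain ⟨v, hv, u, hu, e⟩ := exists_mul_eq_swap h.mul x⁻¹
    have hx' := mem_centralizer_singleton_iff.mp (inv_mem hx)
    rw [e] at hx'
    have h1 : u * b * u⁻¹ = v⁻¹ * b * v := by
      calc u * b * u⁻¹ = v⁻¹ * (v * u * b) * u⁻¹ := by group
        _ = v⁻¹ * (b * (v * u)) * u⁻¹ := by rw [hx']
        _ = v⁻¹ * b * v := by group
    have h2 : u * b * u⁻¹ * b⁻¹ = 1 := by
      refine h.eq_one_of_mem ?_ (h1 ▸ mul_mem (mul_mem (mul_mem (inv_mem hv) hb) hv) (inv_mem hb))
      have h3 : b * u⁻¹ * b⁻¹ ∈ A := (mem_normalizer_iff.mp hbA u⁻¹).mp (inv_mem hu)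
      have h4 := mul_mem hu h3
      simpa [mul_assoc] using h4
    have huC : u ∈ centralizer ({b} : Set G) := mem_centralizer_singleton_iff.mpr (by
      rw [← mul_inv_eq_one (a := u * b), mul_inv_rev, ← h2]; group)
    have hvC : v ∈ centralizer ({b} : Set G) := by
      have := mul_mem (inv_mem hx) (inv_mem huC)
      rwa [e, mul_inv_cancel_right] at this
    exact ⟨u⁻¹, inv_mem hu, v⁻¹, inv_mem hv, inv_mem huC, inv_mem hvC,
      by rw [← mul_inv_rev, ← e, inv_inv]⟩
  obtain ⟨z, hz, hzc, hz1⟩ := h.symm.exists_center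
  exact ⟨hsol, h.symm.le_normalizer_of_center hsol hz hzc hz1
    (mem_centralizer_singleton_iff.mpr (hzc b hb).symm)⟩

theorem exists_conj_in (h : KW A B) {H K : Subgroup G}
    (hf : ∀ x ∈ H, ∃ a ∈ A, ∃ b ∈ B, a ∈ H ∧ b ∈ H ∧ x = a * b) (hKH : K ≤ H)
    (hK : (Nat.card K).Coprime (Nat.card B)) :
    ∃ y ∈ H, K ≤ MulAut.conj y • (A ⊓ H) := by
  have hc : Nat.card H = Nat.card (A ⊓ H : Subgroup G) * Nat.card (B ⊓ H : Subgroup G) := by
    have h1 := CentLarge.card_mul_card_inf (A ⊓ H) (B ⊓ H)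
    have e0 : ((A ⊓ H : Subgroup G) : Set G) * ((B ⊓ H : Subgroup G) : Set G) = (H : Set G) := by
      refine Set.Subset.antisymm ?_ fun x hx => ?_
      · rintro _ ⟨a, ha, b, hb, rfl⟩
        exact mul_mem ha.2 hb.2
      · obtain ⟨a, ha, b, hb, haH, hbH, rfl⟩ := hf x hx
        exact Set.mul_mem_mul ⟨ha, haH⟩ ⟨hb, hbH⟩
    have e1 : (A ⊓ H) ⊓ (B ⊓ H) = ⊥ :=
      le_bot_iff.mp ((inf_le_inf inf_le_left inf_le_left).trans h.inf_eq.le)
    rw [e0, e1, card_bot, mul_one] at h1
    exact h1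
  have hidx : ((A ⊓ H).subgroupOf H).index = Nat.card (B ⊓ H : Subgroup G) := by
    refine Nat.eq_of_mul_eq_mul_left (Nat.card_pos (α := (A ⊓ H).subgroupOf H)) ?_
    rw [card_mul_index, Coprime.card_subgroupOf inf_le_right, hc]
  obtain ⟨y, hy⟩ := exists_le_conj_nilpotent_hall (G := H) (H := (A ⊓ H).subgroupOf H)
    (K := K.subgroupOf H)
    ((Group.isNilpotent_congr (subgroupOfEquivOfLe inf_le_right)).mpr (isNilpotent_mono h.nilA inf_le_left))
    (by rw [hidx, Coprime.card_subgroupOf inf_le_right]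
        exact (h.cop.coprime_dvd_left (card_dvd_of_le inf_le_left)).coprime_dvd_right (card_dvd_of_le inf_le_left))
    (by rw [hidx, Coprime.card_subgroupOf hKH]; exact hK.coprime_dvd_right (card_dvd_of_le inf_le_left))
  refine ⟨y, y.2, ?_⟩
  have h1 := map_mono (f := H.subtype) hy
  rwa [Coprime.conj_smul_map_subtype, map_subgroupOf_eq_of_le hKH,
    map_subgroupOf_eq_of_le inf_le_right] at h1

theorem factor_normalizer (h : KW A B) : ∀ x ∈ normalizer (A : Set G),
    ∃ a ∈ A, ∃ b ∈ B, a ∈ normalizer (A : Set G) ∧ b ∈ normalizer (A : Set G) ∧ x = a * b := fun x hx => by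
  obtain ⟨a, ha, b, hb, rfl⟩ := h.mul x
  exact ⟨a, ha, b, hb, le_normalizer ha, (mul_mem_cancel_left (le_normalizer ha)).mp hx, rfl⟩

theorem pi_mem (h : KW A B) {a : G} (ha : a ∈ normalizer (A : Set G))
    (hao : (orderOf a).Coprime (Nat.card B)) : a ∈ A := by
  obtain ⟨y, hy, hle⟩ := h.exists_conj_in h.factor_normalizer (zpowers_le.mpr ha)
    (by rw [Nat.card_zpowers]; exact hao)
  rw [← Coprime.conj_smul_eq_self_of_mem_normalizer hy]
  exact pointwise_smul_le_pointwise_smul_iff.mpr inf_le_left (hle (mem_zpowers a))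

theorem centralizer_of_commute (h : KW A B) {a b : G} (hao : (orderOf a).Coprime (Nat.card B))
    (ha1 : a ≠ 1) (hb : b ∈ B) (hbA : b ∈ normalizer (A : Set G)) (hb1 : b ≠ 1)
    (hab : a * b = b * a) : Group.IsSolvable (centralizer ({a} : Set G)) := by
  have hfL : ∀ x ∈ normalizer (B : Set G),
      ∃ a ∈ A, ∃ b ∈ B, a ∈ normalizer (B : Set G) ∧ b ∈ normalizer (B : Set G) ∧ x = a * b :=
    fun x hx => by
      obtain ⟨a, ha, b, hb, rfl⟩ := h.mul x
      exact ⟨a, ha, b, hb, (mul_mem_cancel_right (le_normalizer hb)).mp hx, le_normalizer hb, rfl⟩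
  have haL : a ∈ normalizer (B : Set G) :=
    (h.centralizer_right hb hbA hb1).2 (mem_centralizer_singleton_iff.mpr hab)
  obtain ⟨y, hy, hle⟩ := h.exists_conj_in hfL (zpowers_le.mpr haL)
    (by rw [Nat.card_zpowers]; exact hao)
  have h1 := Coprime.mem_conj_smul.mp (hle (mem_zpowers a))
  have h2 : y⁻¹ * a * y ≠ 1 := fun e => ha1 (by
    calc a = y * (y⁻¹ * a * y) * y⁻¹ := by group
      _ = 1 := by rw [e]; group)
  have h3 := (h.symm.centralizer_right h1.1 h1.2 h2).1
  refine isSolvable_mono (isSolvable_map h3 (MulAut.conj y).toMonoidHom) fun c hc => ?_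
  rw [mem_centralizer_singleton_iff] at hc
  refine ⟨y⁻¹ * c * y, mem_centralizer_singleton_iff.mpr ?_, by simp [mul_assoc]⟩
  calc y⁻¹ * c * y * (y⁻¹ * a * y) = y⁻¹ * (c * a) * y := by group
    _ = y⁻¹ * (a * c) * y := by rw [hc]
    _ = _ := by group

theorem final (h : KW A B) (hlt : Nat.card B < Nat.card A) : False := by
  set M := normalizer (A : Set G) with hM
  have hMt : M ≠ ⊤ := h.normalizer_ne_top h.left_ne_bot h.left_ne_top
  obtain ⟨g, -, hg⟩ := SetLike.exists_of_lt (lt_top_iff_ne_top.mpr hMt)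
  obtain ⟨z, hzA, hzc, hz1⟩ := h.exists_center
  have hzo : (orderOf z).Coprime (Nat.card B) :=
    h.cop.coprime_dvd_left (Nat.card_zpowers z ▸ card_dvd_of_le (zpowers_le.mpr hzA))
  have hint : A ⊓ MulAut.conj g • A ≠ ⊥ := fun e => by
    have h1 := CentLarge.card_mul_le_of_le (H := A) (K := MulAut.conj g • A) (L := ⊤) le_top le_top
    rw [e, card_bot, mul_one, card_top, Coprime.card_conj_smul, h.card_eq] at h1
    exact absurd (Nat.le_of_mul_le_mul_left h1 Nat.card_pos) hlt.not_ge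
  obtain ⟨⟨a, haA, hag⟩, ha1⟩ : ∃ a : (A ⊓ MulAut.conj g • A : Subgroup G), (a : G) ≠ 1 := by
    by_contra hc
    push Not at hc
    exact hint ((eq_bot_iff_forall _).mpr fun x hx => hc ⟨x, hx⟩)
  have hns : ¬ Group.IsSolvable (centralizer (zpowers a : Set G)) := by
    intro hs
    have hsub : ∀ c : G, c * a = a * c → c ∈ centralizer (zpowers a : Set G) := fun c hc =>
      mem_centralizer_iff.mpr fun y hy => by
        obtain ⟨i, rfl⟩ := hy
        exact (Commute.zpow_left (show Commute a c from hc.symm) i).eq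
    have hle := h.le_normalizer_of_center hs hzA hzc hz1 (hsub z (hzc a haA).symm)
    have h2 : g * z * g⁻¹ ∈ centralizer (zpowers a : Set G) := by
      refine hsub _ ?_
      have h3 := hzc _ (Coprime.mem_conj_smul.mp hag)
      calc g * z * g⁻¹ * a = g * (z * (g⁻¹ * a * g)) * g⁻¹ := by group
        _ = g * ((g⁻¹ * a * g) * z) * g⁻¹ := by rw [h3]
        _ = a * (g * z * g⁻¹) := by group
    have h4 : g * z * g⁻¹ ∈ A := h.pi_mem (hle h2) (by
      rw [show g * z * g⁻¹ = MulAut.conj g z by simp, MulEquiv.orderOf_eq]; exact hzo)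
    exact hg (inv_mem_iff.mp (h.mem_normalizer_of_conj (k := g⁻¹) hzA hzc hz1 (by rwa [inv_inv])))
  let S : Set (Subgroup G) :=
    {D | D ≤ A ∧ D ≠ ⊥ ∧ ¬ Group.IsSolvable (centralizer (D : Set G))}
  obtain ⟨D, ⟨hDA, hDb, hDns⟩, hmax⟩ := (Set.toFinite S).exists_maximal
    ⟨zpowers a, zpowers_le.mpr haA, fun e => ha1 (zpowers_eq_bot.mp e), hns⟩
  set E := centralizer (D : Set G) with hE
  obtain ⟨d, hdD, hd1⟩ : ∃ d ∈ D, d ≠ 1 := by
    by_contra hc
    push Not at hc
    exact hDb ((eq_bot_iff_forall _).mpr hc)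
  -- `E` meets `M` in a `π`-group
  have hME : ∀ x ∈ M, x ∈ E → x ∈ A := by
    intro x hxM hxE
    refine h.pi_mem hxM (Nat.coprime_of_dvd' fun q hq hqx hqB => absurd hqB fun hqB => hDns ?_)
    set b₀ := x ^ (orderOf x / q) with hb₀
    have hb₀o : orderOf b₀ = q := orderOf_pow_orderOf_div (orderOf_pos x).ne' hqx
    obtain ⟨y, hy, hle⟩ := h.symm.exists_conj_in (H := M) (K := zpowers b₀)
      (fun w hw => by
        obtain ⟨a, ha, b, hb, haM, hbM, e⟩ := h.factor_normalizer w⁻¹ (inv_mem hw)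
        exact ⟨b⁻¹, inv_mem hb, a⁻¹, inv_mem ha, inv_mem hbM, inv_mem haM,
          by rw [← mul_inv_rev, ← e, inv_inv]⟩)
      (zpowers_le.mpr (pow_mem hxM _))
      (by rw [Nat.card_zpowers, hb₀o]
          exact hq.coprime_iff_not_dvd.mpr fun hd => hq.ne_one (Nat.eq_one_of_dvd_coprimes h.cop hd hqB))
    have hb := Coprime.mem_conj_smul.mp (hle (mem_zpowers b₀))
    have hdo : (orderOf d).Coprime (Nat.card B) :=
      h.cop.coprime_dvd_left (Nat.card_zpowers d ▸ card_dvd_of_le (zpowers_le.mpr (hDA hdD)))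
    have hd' : (MulAut.conj y⁻¹ d) * (MulAut.conj y⁻¹ b₀) = (MulAut.conj y⁻¹ b₀) * (MulAut.conj y⁻¹ d) := by
      rw [← map_mul, ← map_mul, mem_centralizer_iff.mp (pow_mem hxE _) d hdD]
    have hb' : MulAut.conj y⁻¹ b₀ = y⁻¹ * b₀ * y := by simp
    rw [hb'] at hd'
    have hsol := h.centralizer_of_commute (a := MulAut.conj y⁻¹ d)
      (by rw [MulEquiv.orderOf_eq]; exact hdo) (fun e => hd1 ((MulAut.conj y⁻¹).map_eq_one_iff.mp e)) hb.1 hb.2 (fun e => hq.ne_one (by
        rw [← hb₀o, ← MulEquiv.orderOf_eq (MulAut.conj y⁻¹) b₀, hb', e, orderOf_one])) hd'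
    refine isSolvable_mono (isSolvable_map hsol (MulAut.conj y).toMonoidHom) fun c hc => ?_
    have hcd : d * c = c * d := mem_centralizer_iff.mp hc d hdD
    refine ⟨y⁻¹ * c * y, mem_centralizer_singleton_iff.mpr ?_, by simp [mul_assoc]⟩
    simp only [MulAut.conj_apply, inv_inv]
    calc y⁻¹ * c * y * (y⁻¹ * d * y) = y⁻¹ * (c * d) * y := by group
      _ = y⁻¹ * (d * c) * y := by rw [hcd]
      _ = _ := by group
  have hzE : ∀ w : G, w ∈ A → (∀ a ∈ A, a * w = w * a) → w ∈ E := fun w _ hwc =>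
    mem_centralizer_iff.mpr fun y hy => hwc y (hDA hy)
  have hwD : ∀ w : G, w ∈ A → (∀ a ∈ A, a * w = w * a) → w ≠ 1 → w ∉ D := fun w hw hwc hw1 hwD => by
    refine hDns (isSolvable_mono (K := A) (by have := h.nilA; infer_instance) ?_)
    rw [← h.centralizer_center hw hwc hw1]
    exact fun c hc => mem_centralizer_singleton_iff.mpr (mem_centralizer_iff.mp hc w hwD).symm
  -- `A ⊓ E` is malnormal outside `D`
  have hmal : ∀ u ∈ A, u ∈ E → u ∉ D → ∀ x ∈ E, x * u * x⁻¹ ∈ A → x ∈ A := by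
    intro u huA huE huD x hxE hxu
    have hD' : D ⊔ zpowers u ∉ S := fun hm =>
      huD (hmax hm le_sup_left (mem_sup_right (mem_zpowers u)))
    have hsol : Group.IsSolvable (centralizer ((D ⊔ zpowers u : Subgroup G) : Set G)) := by
      by_contra hc
      exact hD' ⟨sup_le hDA (zpowers_le.mpr huA), fun e => hDb (le_bot_iff.mp (e ▸ le_sup_left)), hc⟩
    have hmem : ∀ c ∈ E, c * u = u * c → c ∈ centralizer ((D ⊔ zpowers u : Subgroup G) : Set G) := by
      intro c hc hcu
      rw [CentLarge.centralizer_sup]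
      refine ⟨hc, mem_centralizer_iff.mpr fun y hy => ?_⟩
      obtain ⟨i, rfl⟩ := hy
      exact (Commute.zpow_left (show Commute u c from hcu.symm) i).eq
    have hle := h.le_normalizer_of_center hsol hzA hzc hz1
      (hmem z (hzE z hzA hzc) (hzc u huA).symm)
    have h1 : x⁻¹ * z * x ∈ centralizer ((D ⊔ zpowers u : Subgroup G) : Set G) := by
      refine hmem _ (mul_mem (mul_mem (inv_mem hxE) (hzE z hzA hzc)) hxE) ?_
      calc x⁻¹ * z * x * u = x⁻¹ * (z * (x * u * x⁻¹)) * x := by group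
        _ = x⁻¹ * ((x * u * x⁻¹) * z) * x := by rw [hzc _ hxu]
        _ = u * (x⁻¹ * z * x) := by group
    have h2 : x⁻¹ * z * x ∈ A := h.pi_mem (hle h1) (by
      rw [show x⁻¹ * z * x = MulAut.conj x⁻¹ z by simp, MulEquiv.orderOf_eq]; exact hzo)
    exact hME x (h.mem_normalizer_of_conj hzA hzc hz1 h2) hxE
  set T := (A ⊓ E).subgroupOf E with hT
  -- Sylow subgroups of `E` for the primes of `A`
  have hsyl : ∀ (p : ℕ) [Fact p.Prime], p ∣ Nat.card A →
      ∃ R : Sylow p E, (R : Subgroup E) ≤ T ∧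
        ∀ x : E, (x : G) ∈ A → (∃ k, orderOf (x : G) = p ^ k) → x ∈ (R : Subgroup E) := by
    intro p _ hpd
    obtain ⟨P, hP, -⟩ := exists_sylow_le_hall h.hall_left p hpd
    obtain ⟨w, hwA, hwo, hwc⟩ := exists_central_prime h.nilA p hpd
    have hw1 : w ≠ 1 := fun e => (Fact.out : p.Prime).ne_one (by rw [← hwo, e, orderOf_one])
    set Tp := ((P : Subgroup G) ⊓ E).subgroupOf E with hTp
    have hTpp : IsPGroup p Tp := (P.isPGroup'.to_le inf_le_left).comap_subtype
    obtain ⟨R, hR⟩ := hTpp.exists_le_sylow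
    have hmemTp : ∀ x : E, (x : G) ∈ A → (∃ k, orderOf (x : G) = p ^ k) → x ∈ Tp := fun x hx hxo =>
      mem_subgroupOf.mpr ⟨mem_sylow_of_nilpotent h.nilA P hP hx hxo, x.2⟩
    refine ⟨R, ?_, fun x hx hxo => hR (hmemTp x hx hxo)⟩
    have hRT : (R : Subgroup E) ≤ Tp := by
      rw [← subgroupOf_eq_top]
      by_contra hne
      have := R.isPGroup'.isNilpotent
      have h1 := Group.normalizerCondition_of_isNilpotent (G := (R : Subgroup E)) _ (lt_top_iff_ne_top.mpr hne)
      rw [← Subgroup.subgroupOf_normalizer_eq hR] at h1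
      obtain ⟨r, hr, hrn⟩ := SetLike.exists_of_lt h1
      apply hrn
      have hw' : (⟨w, hzE w hwA hwc⟩ : E) ∈ Tp := hmemTp _ hwA ⟨1, by rw [pow_one]; exact hwo⟩
      have h2 := (mem_subgroupOf.mp ((mem_normalizer_iff.mp (mem_subgroupOf.mp hr) _).mp hw')).1
      have hrA : ((r : E) : G) ∈ A :=
        hmal w hwA (hzE w hwA hwc) (hwD w hwA hwc hw1) _ (r : E).2 (hP h2)
      obtain ⟨k, hk⟩ := exists_orderOf_eq_pow R.isPGroup' r.2
      exact mem_subgroupOf.mpr (hmemTp _ hrA ⟨k, by rw [Subgroup.orderOf_coe, hk]⟩)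
    exact hRT.trans (fun x hx => mem_subgroupOf.mpr ⟨hP (mem_subgroupOf.mp hx).1, x.2⟩)
  have hTA : Nat.card T ∣ Nat.card A := by
    rw [hT, Coprime.card_subgroupOf inf_le_right]; exact card_dvd_of_le inf_le_left
  have hidx : T.index.Coprime (Nat.card A) := Nat.coprime_of_dvd' fun p hp hpi hpA =>
    absurd hpi fun hpi => by
      have := Fact.mk hp
      obtain ⟨R, hR, -⟩ := hsyl p hpA
      exact R.not_dvd_index (hpi.trans (index_dvd_of_le hR))
  obtain ⟨N, hN, hNc⟩ := S0558.hall_complement T (hidx.symm.coprime_dvd_left hTA) fun p hp hpT => by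
    have := Fact.mk hp
    obtain ⟨R, hR, hR'⟩ := hsyl p (hpT.trans hTA)
    refine Fusion.hasNormalPComplement_of_conj_controls R fun x hx k hkx => ?_
    have hxA : (x : G) ∈ A := (mem_subgroupOf.mp (hR hx)).1
    have hkA : (k : G) * x * (k : G)⁻¹ ∈ A := (mem_subgroupOf.mp (hR hkx)).1
    by_cases hxD : (x : G) ∈ D
    · refine ⟨1, one_mem _, ?_⟩
      have : k * x = x * k := Subtype.ext (mem_centralizer_iff.mp k.2 _ hxD).symm
      rw [this, mul_inv_cancel_right]; simp
    · have hk : (k : G) ∈ A := hmal _ hxA x.2 hxD _ k.2 hkA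
      obtain ⟨s, c, hs, hc, e, hso, hco⟩ := exists_mul_ppow hp (k : G)
      have hsE : s ∈ E := (zpowers_le.mpr k.2 : zpowers (k : G) ≤ E) hs
      have hsA : s ∈ A := (zpowers_le.mpr hk : zpowers (k : G) ≤ A) hs
      have hcA : c ∈ A := (zpowers_le.mpr hk : zpowers (k : G) ≤ A) hc
      refine ⟨⟨s, hsE⟩, hR' _ hsA hso, Subtype.ext ?_⟩
      obtain ⟨j, hj⟩ := exists_orderOf_eq_pow R.isPGroup' hx
      have hxc := commute_in_nilpotent h.nilA hxA hcA
        (orderOf_coprime_of_pow hp ⟨j, by rw [Subgroup.orderOf_coe, hj]⟩ hco)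
      show s * x * s⁻¹ = (k : G) * x * (k : G)⁻¹
      rw [e, mul_inv_rev]
      calc s * x * s⁻¹ = s * (x * c) * c⁻¹ * s⁻¹ := by group
        _ = _ := by rw [hxc]; group
  have hNA : (Nat.card (N.map E.subtype)).Coprime (Nat.card A) := by
    rw [card_map_of_injective E.subtype_injective]
    refine hidx.coprime_dvd_left (dvd_of_eq ?_)
    exact Nat.eq_of_mul_eq_mul_right (Nat.card_pos (α := T))
      (by rw [hNc.card_mul, mul_comm, T.card_mul_index])
  have hNb := h.not_normalized_by_center hNA hzA hzc hz1 (by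
    have h1 := le_normalizer_map (H := N) E.subtype
    rw [normalizer_eq_top, ← MonoidHom.range_eq_map, E.range_subtype] at h1
    exact h1 (hzE z hzA hzc))
  rw [map_eq_bot_iff_of_injective _ E.subtype_injective] at hNb
  subst hNb
  refine hDns (isSolvable_mono (K := A) (by have := h.nilA; infer_instance) fun x hx => ?_)
  have h1 : (⟨x, hx⟩ : E) ∈ T := (isComplement'_bot_left.mp hNc) ▸ mem_top _
  exact (mem_subgroupOf.mp h1).1

end KW

theorem wielandt_product_aux : ∀ (n : ℕ) (G : Type u) [Group G] [Finite G], Nat.card G = n →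
    ∀ A B : Subgroup G, Group.IsNilpotent A → Group.IsNilpotent B →
      (Nat.card A).Coprime (Nat.card B) → (∀ g : G, ∃ a ∈ A, ∃ b ∈ B, g = a * b) →
      Group.IsSolvable G := by
  intro n
  induction n using Nat.strong_induction_on with
  | _ n ih =>
    intro G _ _ hn A B hA hB hcop hmul
    by_contra hns
    have hstep : ∀ H : Subgroup G, H ≠ ⊤ →
        (∀ h ∈ H, ∃ a ∈ A, ∃ b ∈ B, a ∈ H ∧ b ∈ H ∧ h = a * b) → Group.IsSolvable H := by
      intro H hH hf
      have hA' : Group.IsNilpotent (A.subgroupOf H) :=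
        (Group.isNilpotent_congr ((A.subgroupOf H).equivMapOfInjective H.subtype H.subtype_injective)).mpr
          (by rw [subgroupOf_map_subtype]; exact isNilpotent_mono hA inf_le_left)
      have hB' : Group.IsNilpotent (B.subgroupOf H) :=
        (Group.isNilpotent_congr ((B.subgroupOf H).equivMapOfInjective H.subtype H.subtype_injective)).mpr
          (by rw [subgroupOf_map_subtype]; exact isNilpotent_mono hB inf_le_left)
      refine ih _ (hn ▸ card_lt_of_ne_top hH) H rfl _ _ hA' hB' ?_ fun x => ?_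
      · exact (hcop.coprime_dvd_left (card_comap_dvd_of_injective A _ H.subtype_injective)).coprime_dvd_right
          (card_comap_dvd_of_injective B _ H.subtype_injective)
      · obtain ⟨a, ha, b, hb, haH, hbH, e⟩ := hf x x.2
        exact ⟨⟨a, haH⟩, ha, ⟨b, hbH⟩, hb, Subtype.ext e⟩
    have hsimple : ∀ N : Subgroup G, N.Normal → N = ⊥ ∨ N = ⊤ := by
      intro N hN
      by_contra hc
      push Not at hc
      refine hns ?_
      rw [Group.isSolvable_iff_subgroup_quotient N]
      refine ⟨?_, ih _ (hn ▸ card_quotient_lt hc.1) (G ⧸ N) rfl (A.map (QuotientGroup.mk' N))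
        (B.map (QuotientGroup.mk' N)) (isNilpotent_map hA _) (isNilpotent_map hB _)
        ((hcop.coprime_dvd_left (card_map_dvd _ _)).coprime_dvd_right (card_map_dvd _ _))
        (exists_mul_map hmul (QuotientGroup.mk'_surjective N))⟩
      refine hstep N hc.2 fun x hx => ?_
      have hidx : ∀ {C D : Subgroup G}, (∀ g : G, ∃ a ∈ C, ∃ b ∈ D, g = a * b) →
          (C.subgroupOf N).index ∣ Nat.card D := by
        intro C D hCD
        have h1 : C.relIndex N ∣ C.index := by
          have e1 : Nat.card (C ⊓ N : Subgroup G) * C.relIndex N = Nat.card N := by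
            rw [← inf_relIndex_right, ← relIndex_bot_left, relIndex_mul_relIndex _ _ _ bot_le inf_le_right,
              relIndex_bot_left]
          refine (Nat.mul_dvd_mul_iff_left
            (Nat.mul_pos (Nat.card_pos (α := C)) (Nat.card_pos (α := (C ⊓ N : Subgroup G))))).mp ?_
          rw [mul_assoc, e1, ← card_sup_mul_card_inf C N, mul_right_comm, card_mul_index]
          exact Nat.mul_dvd_mul_right (card_subgroup_dvd_card _) _
        refine dvd_trans h1 (Dvd.intro _ (?_ : C.index * Nat.card (C ⊓ D : Subgroup G) = _))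
        have h2 := CentLarge.card_mul_card_inf C D
        rw [Set.eq_univ_of_forall (s := (C : Set G) * (D : Set G)) (fun g => by
          obtain ⟨a, ha, b, hb, rfl⟩ := hCD g
          exact Set.mul_mem_mul ha hb), Nat.card_congr (Equiv.Set.univ G), ← C.card_mul_index,
          mul_assoc] at h2
        exact Nat.eq_of_mul_eq_mul_left Nat.card_pos h2
      obtain ⟨a, ha, b, hb, e⟩ := exists_mul_eq_of_coprime
        ((hcop.symm.coprime_dvd_left (hidx hmul)).coprime_dvd_right (hidx (exists_mul_eq_swap hmul)))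
        (⟨x, hx⟩ : N)
      exact ⟨a, ha, b, hb, a.2, b.2, congrArg Subtype.val e⟩
    have hk : KW A B := ⟨hA, hB, hcop, hmul, hstep, hsimple, hns⟩
    rcases lt_trichotomy (Nat.card B) (Nat.card A) with hlt | heq | hgt
    · exact hk.final hlt
    · exact hk.left_ne_bot (card_eq_one.mp (Nat.Coprime.eq_one_of_dvd hcop heq.symm.dvd))
    · exact hk.symm.final hgt

/-- Wielandt: a product of two nilpotent subgroups of coprime orders is solvable. -/
theorem isSolvable_of_coprime_nilpotent_product {G : Type u} [Group G] [Finite G]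
    {A B : Subgroup G} (hA : Group.IsNilpotent A) (hB : Group.IsNilpotent B)
    (hcop : (Nat.card A).Coprime (Nat.card B)) (hmul : ∀ g : G, ∃ a ∈ A, ∃ b ∈ B, g = a * b) :
    Group.IsSolvable G :=
  wielandt_product_aux _ G rfl A B hA hB hcop hmul

end Cfsg.Agent.Core
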