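import Cfsg.Prelude.Def_SolvableStructure
import Cfsg.Agent.Core.Complements
import Mathlib.GroupTheory.PGroup

/-!
Hall complement systems and their system normalizers.
-/

set_option autoImplicit false

namespace Cfsg.Agent.Core

open Subgroup
open scoped Pointwise

variable {G : Type*} [Group G]

theorem systemNormalizer_le {K : Nat.Primes → Subgroup G} (p : Nat.Primes) :
    systemNormalizer K ≤ normalizer (K p : Set G) := iInf_le _ p

theorem complementSystem_eq_top [Finite G] {K : Nat.Primes → Subgroup G}
    (hK : IsComplementSystem K) {p : Nat.Primes} (hp : ¬ (p : ℕ) ∣ Nat.card G) : K p = ⊤ := by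
  rw [← index_eq_one, hK p, Nat.factorization_eq_zero_of_not_dvd hp, pow_zero]

theorem card_complementSystem [Finite G] {K : Nat.Primes → Subgroup G}
    (hK : IsComplementSystem K) (p : Nat.Primes) :
    Nat.card (K p) = Nat.card G / (p : ℕ) ^ (Nat.card G).factorization p := by
  rw [← hK p, ← (K p).card_mul_index]
  exact (Nat.mul_div_cancel _ (Nat.pos_of_ne_zero index_ne_zero_of_finite)).symm

theorem coprime_card_complementSystem [Finite G] {K : Nat.Primes → Subgroup G}
    (hK : IsComplementSystem K) (p : Nat.Primes) : (Nat.card (K p)).Coprime p := by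
  rw [card_complementSystem hK p]
  exact (Nat.coprime_ordCompl p.2 Nat.card_pos.ne').symm

theorem index_finset_inf_coprime [Finite G] {K : Nat.Primes → Subgroup G}
    (hK : IsComplementSystem K) {T : Finset Nat.Primes} {q : Nat.Primes} (hq : q ∉ T) :
    (T.inf K).index.Coprime (K q).index := by
  rw [index_finset_inf hK, hK q]
  exact Nat.Coprime.prod_left fun p hp =>
    coprime_prime_pow p.2 q.2 (fun e => hq (Subtype.ext e ▸ hp)) _ _

theorem conj_le_of_le {H K : Subgroup G} {g : G} (h : H ≤ K) :
    MulAut.conj g • H ≤ MulAut.conj g • K :=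
  pointwise_smul_le_pointwise_smul_iff.mpr h

theorem conj_smul_eq_self_of_mem {H : Subgroup G} {g : G} (hg : g ∈ H) : MulAut.conj g • H = H :=
  Coprime.conj_smul_eq_self_of_mem_normalizer (le_normalizer hg)

/-- Hall complement systems are conjugate. -/
theorem complementSystem_conj [Finite G] [Group.IsSolvable G] {K L : Nat.Primes → Subgroup G}
    (hK : IsComplementSystem K) (hL : IsComplementSystem L) :
    ∃ g : G, ∀ p : Nat.Primes, MulAut.conj g • K p = L p := by
  classical
  suffices H : ∀ T : Finset Nat.Primes, ∃ g : G, ∀ p ∈ T, MulAut.conj g • K p = L p by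
    obtain ⟨g, hg⟩ := H (primesOf G)
    refine ⟨g, fun p => ?_⟩
    by_cases hp : (p : ℕ) ∣ Nat.card G
    · exact hg p (mem_primesOf.mpr hp)
    · rw [complementSystem_eq_top hK hp, complementSystem_eq_top hL hp]
      exact conj_smul_eq_self_of_mem (mem_top g)
  intro T
  induction T using Finset.induction_on with
  | empty => exact ⟨1, by simp⟩
  | @insert q T hq ih =>
    obtain ⟨g, hg⟩ := ih
    have hc := ((K q).card_mul_index).symm
    have hcop : (Nat.card (K q)).Coprime (K q).index := by
      rw [hK q]; exact (coprime_card_complementSystem hK q).pow_right _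
    obtain ⟨c, hc'⟩ := exists_conj_hall hc hcop (H := MulAut.conj g • K q) (K := L q)
      (Coprime.card_conj_smul g (K q))
      (by rw [card_complementSystem hL q, card_complementSystem hK q])
    obtain ⟨l, hl, d, hd, rfl⟩ :=
      exists_mul_eq_of_coprime (index_finset_inf_coprime hL hq).symm c
    refine ⟨d * g, fun p hp => ?_⟩
    rw [map_mul, mul_smul]
    rcases Finset.mem_insert.mp hp with rfl | hp
    · rw [map_mul, mul_smul] at hc'
      rw [← conj_smul_eq_self_of_mem (inv_mem hl), ← hc', map_inv, inv_smul_smul]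
    · rw [hg p hp]
      exact conj_smul_eq_self_of_mem ((Finset.inf_le hp : T.inf L ≤ L p) hd)

theorem systemNormalizer_isNilpotent [Finite G] {K : Nat.Primes → Subgroup G}
    (hK : IsComplementSystem K) : Group.IsNilpotent (systemNormalizer K) := by
  set D := systemNormalizer K with hD
  have hn : ∀ p : {p // p ∈ primesOf G}, ((K p.1).subgroupOf D).Normal := fun p =>
    normal_subgroupOf_of_le_normalizer (systemNormalizer_le p.1)
  have hpg : ∀ p : {p // p ∈ primesOf G}, Group.IsNilpotent (D ⧸ (K p.1).subgroupOf D) := by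
    intro p
    have := Fact.mk p.1.2
    have hdvd : ((K p.1).subgroupOf D).index ∣ (K p.1).index := by
      have h1 := relIndex_sup_right (H := D.subgroupOf (normalizer (K p.1 : Set G)))
        (K := (K p.1).subgroupOf (normalizer (K p.1 : Set G)))
      rw [← subgroupOf_sup (systemNormalizer_le p.1) le_normalizer,
        relIndex_subgroupOf (sup_le (systemNormalizer_le p.1) le_normalizer),
        relIndex_subgroupOf (systemNormalizer_le p.1)] at h1
      show (K p.1).relIndex D ∣ _
      rw [← h1]
      exact relIndex_dvd_index_of_le le_sup_right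
    rw [hK p.1, index_eq_card] at hdvd
    obtain ⟨k, -, hk⟩ := (Nat.dvd_prime_pow p.1.2).mp hdvd
    exact (IsPGroup.of_card hk).isNilpotent
  let f : D →* ∀ p : {p // p ∈ primesOf G}, D ⧸ (K p.1).subgroupOf D :=
    MonoidHom.pi fun p => QuotientGroup.mk' ((K p.1).subgroupOf D)
  have hpi : Group.IsNilpotent (∀ p : {p // p ∈ primesOf G}, D ⧸ (K p.1).subgroupOf D) :=
    Group.isNilpotent_pi
  refine Subgroup.isNilpotent_of_ker_le_center f ?_
  intro x hx
  have hmem : (x : G) ∈ (primesOf G).inf K := by
    rw [Finset.inf_eq_iInf]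
    simp only [mem_iInf]
    intro p hp
    have h := congrFun (MonoidHom.mem_ker.mp hx) ⟨p, hp⟩
    have := hn ⟨p, hp⟩
    exact (QuotientGroup.eq_one_iff (N := (K p).subgroupOf D) x).mp h
  have h1 : Nat.card ((primesOf G).inf K : Subgroup G) = 1 := by
    have h := card_finset_inf hK (T := primesOf G) (U := ∅) (by simp) (by simp)
    simpa using h
  rw [card_eq_one.mp h1, mem_bot] at hmem
  rw [show x = 1 from Subtype.ext hmem]
  exact one_mem _

theorem isComplementSystem_map [Finite G] {K : Nat.Primes → Subgroup G}
    (hK : IsComplementSystem K) (N : Subgroup G) [N.Normal] :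
    IsComplementSystem fun p => (K p).map (QuotientGroup.mk' N) := by
  intro p
  have := Fact.mk p.2
  have hdvd : ((K p).map (QuotientGroup.mk' N)).index ∣ (p : ℕ) ^ (Nat.card G).factorization p :=
    hK p ▸ (K p).index_map_dvd (QuotientGroup.mk'_surjective N)
  obtain ⟨k, -, hk⟩ := (Nat.dvd_prime_pow p.2).mp hdvd
  have hcop : (Nat.card ((K p).map (QuotientGroup.mk' N))).Coprime p :=
    (coprime_card_complementSystem hK p).coprime_dvd_left (card_map_dvd _ _)
  show ((K p).map (QuotientGroup.mk' N)).index = _
  rw [hk]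
  congr 1
  rw [← ((K p).map (QuotientGroup.mk' N)).card_mul_index, hk,
    Nat.factorization_mul Nat.card_pos.ne' (pow_ne_zero _ p.2.ne_zero), Finsupp.add_apply,
    Nat.factorization_pow, Finsupp.smul_apply, p.2.factorization_self,
    Nat.factorization_eq_zero_of_not_dvd fun h =>
      p.2.ne_one (Nat.eq_one_of_dvd_coprimes hcop h (dvd_refl _))]
  simp

theorem map_systemNormalizer_le (K : Nat.Primes → Subgroup G) (N : Subgroup G) [N.Normal] :
    (systemNormalizer K).map (QuotientGroup.mk' N) ≤
      systemNormalizer fun p => (K p).map (QuotientGroup.mk' N) :=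
  le_iInf fun p => (map_mono (systemNormalizer_le p)).trans (le_normalizer_map _)

theorem relIndex_normal_dvd_index [Finite G] (H N : Subgroup G) [N.Normal] : H.relIndex N ∣ H.index := by
  have h1 := relIndex_mul_index (inf_le_right : H ⊓ N ≤ N)
  have h2 := relIndex_mul_index (inf_le_left : H ⊓ N ≤ H)
  rw [inf_relIndex_right] at h1
  rw [inf_relIndex_left] at h2
  have h3 : H.relIndex N * N.index ∣ H.index * N.index := by
    rw [h1, ← h2, mul_comm H.index]
    exact mul_dvd_mul_right (relIndex_dvd_index_of_normal N H) _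
  exact (Nat.mul_dvd_mul_iff_right (Nat.pos_of_ne_zero index_ne_zero_of_finite)).mp h3

/-- A normal subgroup is the product of its intersections with a complement of one prime and with
the intersection of the complements for other primes. -/
theorem exists_mul_inf_complementSystem [Finite G] {K : Nat.Primes → Subgroup G}
    (hK : IsComplementSystem K) (N : Subgroup G) [N.Normal] {T : Finset Nat.Primes}
    {q : Nat.Primes} (hq : q ∉ T) {n : G} (hn : n ∈ N) :
    ∃ a ∈ N ⊓ K q, ∃ b ∈ N ⊓ T.inf K, n = a * b := by
  have hcop : ((K q).subgroupOf N).index.Coprime ((T.inf K).subgroupOf N).index :=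
    ((index_finset_inf_coprime hK hq).symm.coprime_dvd_left
      (relIndex_normal_dvd_index (K q) N)).coprime_dvd_right (relIndex_normal_dvd_index _ N)
  obtain ⟨a, ha, b, hb, hab⟩ := exists_mul_eq_of_coprime hcop (⟨n, hn⟩ : N)
  exact ⟨a, ⟨a.2, ha⟩, b, ⟨b.2, hb⟩, congrArg Subtype.val hab⟩

/-- An element normalizing every `K p` modulo `N` lies in `systemNormalizer K * N`. -/
theorem systemNormalizer_map [Finite G] [Group.IsSolvable G] {K : Nat.Primes → Subgroup G}
    (hK : IsComplementSystem K) (N : Subgroup G) [N.Normal] :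
    systemNormalizer (fun p => (K p).map (QuotientGroup.mk' N)) =
      (systemNormalizer K).map (QuotientGroup.mk' N) := by
  classical
  refine le_antisymm (fun x hx => ?_) (map_systemNormalizer_le K N)
  obtain ⟨g, rfl⟩ := QuotientGroup.mk'_surjective N x
  have hg : ∀ p : Nat.Primes, MulAut.conj g • (K p ⊔ N) = K p ⊔ N := by
    intro p
    have h : QuotientGroup.mk' N g ∈ normalizer (((K p).map (QuotientGroup.mk' N) : Subgroup _) : Set _) :=
      systemNormalizer_le (K := fun p => (K p).map (QuotientGroup.mk' N)) p hx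
    have h' : g ∈ (normalizer (((K p).map (QuotientGroup.mk' N) : Subgroup _) : Set _)).comap
        (QuotientGroup.mk' N) := h
    rw [comap_normalizer_eq_of_surjective _ (QuotientGroup.mk'_surjective N),
      comap_map_eq, QuotientGroup.ker_mk'] at h'
    exact Coprime.conj_smul_eq_self_of_mem_normalizer h'
  suffices H : ∀ T : Finset Nat.Primes, ∃ n ∈ N, ∀ p ∈ T, MulAut.conj (n * g) • K p = K p by
    obtain ⟨n, hn, hng⟩ := H (primesOf G)
    refine ⟨n * g, mem_iInf.mpr fun p => ?_, ?_⟩
    · by_cases hp : (p : ℕ) ∣ Nat.card G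
      · exact Coprime.mem_normalizer_of_conj_smul_eq (hng p (mem_primesOf.mpr hp))
      · rw [complementSystem_eq_top hK hp, normalizer_eq_top]; exact mem_top _
    · rw [map_mul, show QuotientGroup.mk' N n = 1 from (QuotientGroup.eq_one_iff n).mpr hn, one_mul]
  intro T
  induction T using Finset.induction_on with
  | empty => exact ⟨1, one_mem _, by simp⟩
  | @insert q T hq ih =>
    obtain ⟨n, hn, hng⟩ := ih
    set M := K q ⊔ N with hM
    set L := MulAut.conj (n * g) • K q with hL
    have hLM : L ≤ M := by
      rw [hL, map_mul, mul_smul]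
      refine (conj_le_of_le (g := n) ((conj_le_of_le (g := g) le_sup_left).trans (hg q).le)).trans ?_
      exact (conj_smul_eq_self_of_mem (mem_sup_right hn)).le
    have hcop : (Nat.card (K q)).Coprime ((K q).relIndex M) := by
      refine Nat.Coprime.coprime_dvd_right (relIndex_dvd_index_of_le le_sup_left) ?_
      rw [hK q]; exact (coprime_card_complementSystem hK q).pow_right _
    have hc := ((K q).subgroupOf M).card_mul_index.symm
    rw [Nat.card_congr (subgroupOfEquivOfLe (le_sup_left : K q ≤ M)).toEquiv] at hc
    obtain ⟨c, hc'⟩ := exists_conj_hall hc hcop (H := L.subgroupOf M) (K := (K q).subgroupOf M)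
      (by rw [Nat.card_congr (subgroupOfEquivOfLe hLM).toEquiv, hL, Coprime.card_conj_smul])
      (Nat.card_congr (subgroupOfEquivOfLe (le_sup_left : K q ≤ M)).toEquiv)
    have hc'' : MulAut.conj (c : G) • L = K q := by
      have h := congrArg (fun S : Subgroup M => S.map M.subtype) hc'
      have hKM : K q ≤ M := le_sup_left
      rw [Coprime.conj_smul_map_subtype, map_subgroupOf_eq_of_le hKM, map_subgroupOf_eq_of_le hLM] at h
      exact h
    obtain ⟨k, hk, m, hm, hkm⟩ := mem_sup_of_normal_right.mp c.2
    obtain ⟨a, ha, b, hb, rfl⟩ := exists_mul_inf_complementSystem hK N hq hm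
    refine ⟨b * n, N.mul_mem hb.1 hn, fun p hp => ?_⟩
    rw [mul_assoc, map_mul, mul_smul]
    rcases Finset.mem_insert.mp hp with rfl | hp
    · rw [← hL]
      rw [← hkm, ← mul_assoc, map_mul, mul_smul] at hc''
      rw [← conj_smul_eq_self_of_mem (inv_mem (mul_mem hk ha.2)), ← hc'', map_inv, inv_smul_smul]
    · rw [hng p hp]
      exact conj_smul_eq_self_of_mem ((Finset.inf_le hp : T.inf K ≤ K p) hb.2)

theorem normalClosure_systemNormalizer [Finite G] [Group.IsSolvable G]
    {K : Nat.Primes → Subgroup G} (hK : IsComplementSystem K) :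
    normalClosure ((systemNormalizer K : Subgroup G) : Set G) = ⊤ := by
  by_contra h
  set M := normalClosure ((systemNormalizer K : Subgroup G) : Set G) with hM
  have : Nontrivial (G ⧸ M) := QuotientGroup.nontrivial_iff.mpr h
  have hlt := (Group.IsSolvable.commutator_lt_top_of_nontrivial (G ⧸ M)).ne
  set N := (commutator (G ⧸ M)).comap (QuotientGroup.mk' M) with hN
  have hMN : M ≤ N := fun x hx => by
    rw [hN, mem_comap, show QuotientGroup.mk' M x = 1 from (QuotientGroup.eq_one_iff x).mpr hx]
    exact one_mem _
  have hN' : commutator G ≤ N := by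
    rw [hN, ← map_le_iff_le_comap, commutator_eq_closure]
    rw [MonoidHom.map_closure, commutator_eq_closure]
    refine closure_mono ?_
    rintro _ ⟨_, ⟨a, b, rfl⟩, rfl⟩
    exact ⟨QuotientGroup.mk' M a, QuotientGroup.mk' M b, (map_commutatorElement _ a b).symm⟩
  have : N.Normal := Normal.comap inferInstance _
  have hcomm : IsMulCommutative (G ⧸ N) := Normal.quotient_commutative_iff_commutator_le.mpr hN'
  have htop : systemNormalizer (fun p => (K p).map (QuotientGroup.mk' N)) = ⊤ := by
    refine top_le_iff.mp (le_iInf fun p => ?_)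
    have : ((K p).map (QuotientGroup.mk' N)).Normal :=
      ⟨fun a ha g => by rwa [IsMulCommutative.is_comm.comm g a, mul_inv_cancel_right]⟩
    rw [normalizer_eq_top]
  rw [systemNormalizer_map hK N,
    show (systemNormalizer K).map (QuotientGroup.mk' N) = ⊥ from (Subgroup.map_eq_bot_iff _).mpr (by
      rw [QuotientGroup.ker_mk']
      exact le_trans (fun x hx => subset_normalClosure hx) hMN)] at htop
  have hNtop : N = ⊤ := by
    refine top_le_iff.mp fun x _ => (QuotientGroup.eq_one_iff x).mp ?_
    have : QuotientGroup.mk' N x ∈ (⊥ : Subgroup (G ⧸ N)) := htop ▸ mem_top _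
    exact mem_bot.mp this
  refine hlt (top_le_iff.mp fun y _ => ?_)
  obtain ⟨x, rfl⟩ := QuotientGroup.mk'_surjective M y
  have : x ∈ N := hNtop ▸ mem_top x
  exact this

end Cfsg.Agent.Core
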