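import Cfsg.Agent.Layer.Subnormal
import Cfsg.Agent.Coprime.Tools

/-!
Wielandt's zipper lemma and subnormality criterion.
-/

set_option autoImplicit false

namespace Cfsg.Agent.Core

open Subgroup
open scoped Pointwise

universe u

variable {G : Type u} [Group G]

/-- A non-normal subnormal subgroup has a conjugate, different from it, inside its normalizer. -/
theorem exists_conj_le_normalizer [Finite G] {D : Subgroup G} (hD : D.IsSubnormal) :
    normalizer (D : Set G) = ⊤ ∨
      ∃ x : G, x ∉ normalizer (D : Set G) ∧ MulAut.conj x • D ≤ normalizer (D : Set G) := by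
  suffices H : ∀ K : Subgroup G, K.IsSubnormal → ∀ D : Subgroup G, D ≤ K →
      K ≤ normalizer (D : Set G) → normalizer (D : Set G) = ⊤ ∨
        ∃ x : G, x ∉ normalizer (D : Set G) ∧ MulAut.conj x • D ≤ normalizer (D : Set G) from
    H D hD D le_rfl le_normalizer
  intro K hK
  induction hK with
  | top => exact fun D _ h => Or.inl (top_le_iff.mp h)
  | step H K hHK _ hN ih =>
    intro D hDH hH
    by_cases hKD : K ≤ normalizer (D : Set G)
    · exact ih D (hDH.trans hHK) hKD
    · obtain ⟨x, hx, hxD⟩ := SetLike.not_le_iff_exists.mp hKD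
      refine Or.inr ⟨x, hxD, le_trans ?_ hH⟩
      exact Coprime.conj_smul_le_self ((normal_subgroupOf_iff_le_normalizer hHK).mp hN hx) hDH

theorem isSubnormal_conj {S : Subgroup G} (hS : S.IsSubnormal) (g : G) :
    (MulAut.conj g • S).IsSubnormal := by
  rw [Coprime.conj_smul_eq_map]; exact Layer.isSubnormal_map_conj hS g

theorem conj_inv_smul (g : G) (A : Subgroup G) : MulAut.conj g⁻¹ • MulAut.conj g • A = A := by
  rw [← Coprime.conj_mul_smul, inv_mul_cancel, map_one, one_smul]

/-- Inside an overgroup `L`, a subnormal non-normalized subgroup has a conjugate by an element of `L`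
different from it and normalizing it. -/
theorem exists_conj_le_normalizer_within [Finite G] {D L : Subgroup G} (hDL : D ≤ L)
    (hD : (D.subgroupOf L).IsSubnormal) (hL : ¬ L ≤ normalizer (D : Set G)) :
    ∃ x ∈ L, x ∉ normalizer (D : Set G) ∧ MulAut.conj x • D ≤ normalizer (D : Set G) := by
  rcases exists_conj_le_normalizer hD with h | ⟨x, hx, hle⟩
  · rw [← subgroupOf_normalizer_eq hDL, subgroupOf_eq_top] at h
    exact absurd h hL
  · refine ⟨x, x.2, fun h => hx ?_, ?_⟩
    · rw [← subgroupOf_normalizer_eq hDL, mem_subgroupOf]; exact h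
    · have h := map_mono (f := L.subtype) hle
      rw [Coprime.conj_smul_map_subtype, map_subgroupOf_eq_of_le hDL, ← subgroupOf_normalizer_eq hDL,
        subgroupOf_map_subtype] at h
      exact h.trans inf_le_left

/-- Wielandt's zipper lemma. -/
theorem exists_unique_coatom [Finite G] (A : Subgroup G) (hA : ¬ A.IsSubnormal)
    (h : ∀ H : Subgroup G, A ≤ H → H ≠ ⊤ → (A.subgroupOf H).IsSubnormal) :
    ∃ M : Subgroup G, IsCoatom M ∧ A ≤ M ∧ ∀ L : Subgroup G, IsCoatom L → A ≤ L → L = M := by
  suffices H : ∀ (n : ℕ) (A : Subgroup G), A.index = n → ¬ A.IsSubnormal →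
      (∀ H : Subgroup G, A ≤ H → H ≠ ⊤ → (A.subgroupOf H).IsSubnormal) →
      ∃ M : Subgroup G, IsCoatom M ∧ A ≤ M ∧ ∀ L : Subgroup G, IsCoatom L → A ≤ L → L = M from
    H _ A rfl hA h
  clear hA h A
  intro n
  induction n using Nat.strong_induction_on with
  | _ n ih =>
    intro A hn hA h
    have hNtop : normalizer (A : Set G) ≠ ⊤ := fun e =>
      hA (normalizer_eq_top_iff.mp e).isSubnormal
    obtain ⟨M, hM, hNM⟩ := (eq_top_or_exists_le_coatom _).resolve_left hNtop
    refine ⟨M, hM, le_normalizer.trans hNM, fun L hL hAL => ?_⟩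
    by_cases hLN : L ≤ normalizer (A : Set G)
    · rcases (hLN.trans hNM).eq_or_lt with e | hlt
      · exact e
      · exact absurd (hL.2 M hlt) hM.1
    obtain ⟨x, hxL, hxN, hxle⟩ := exists_conj_le_normalizer_within hAL (h L hAL hL.1) hLN
    set B := A ⊔ MulAut.conj x • A with hB
    have hAB : A < B := lt_of_le_of_ne le_sup_left fun e => hxN (by
      refine Coprime.mem_normalizer_of_conj_smul_eq (eq_of_le_of_card_ge ?_ ?_)
      · exact le_sup_right.trans e.ge
      · rw [Coprime.card_conj_smul])
    have hBL : B ≤ L := sup_le hAL (Coprime.conj_smul_le_self (le_normalizer hxL) hAL)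
    have hBN : B ≤ normalizer (A : Set G) := sup_le le_normalizer hxle
    have hBn : ¬ B.IsSubnormal := fun hs => hA
      (Subgroup.IsSubnormal.step A B le_sup_left hs
        ((normal_subgroupOf_iff_le_normalizer le_sup_left).mpr hBN))
    have hBh : ∀ H : Subgroup G, B ≤ H → H ≠ ⊤ → (B.subgroupOf H).IsSubnormal := by
      intro H hBH hH
      have hA1 : A ≤ H := le_sup_left.trans hBH
      have hA2 : MulAut.conj x • A ≤ H := le_sup_right.trans hBH
      rw [hB, subgroupOf_sup hA1 hA2]
      refine Layer.isSubnormal_sup (h H hA1 hH) ?_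
      have hA3 : A ≤ MulAut.conj x⁻¹ • H := by
        have := pointwise_smul_le_pointwise_smul_iff (a := MulAut.conj x⁻¹) |>.mpr hA2
        rwa [conj_inv_smul] at this
      have hH' : MulAut.conj x⁻¹ • H ≠ ⊤ := fun e => hH (eq_top_of_card_eq _ (by
        rw [← Coprime.card_conj_smul x⁻¹ H, e, card_top]))
      -- transport subnormality along conjugation by `x`
      let f : H →* (MulAut.conj x⁻¹ • H : Subgroup G) :=
        ((MulAut.conj x⁻¹).toMonoidHom.comp H.subtype).codRestrict _
          (fun y => Coprime.mem_conj_smul.mpr (by simp [mul_assoc]))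
      have := (h _ hA3 hH').comap f
      refine Eq.mp (congrArg Subgroup.IsSubnormal ?_) this
      ext y
      simp only [f, mem_comap, mem_subgroupOf, Coprime.mem_conj_smul]
      show x⁻¹ * (y : G) * x⁻¹⁻¹ ∈ A ↔ _
      rw [inv_inv]
    obtain ⟨M', -, -, huniq⟩ := ih _ (hn ▸ index_strictAnti hAB) B rfl hBn hBh
    exact (huniq L hL hBL).trans (huniq M hM (hBN.trans hNM)).symm

/-- Wielandt's subnormality criterion. -/
theorem isSubnormal_of_forall_conj [Finite G] {A : Subgroup G}
    (h : ∀ g : G, (A.subgroupOf (A ⊔ MulAut.conj g • A)).IsSubnormal) : A.IsSubnormal := by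
  suffices H : ∀ (n : ℕ) (G : Type u) [Group G] [Finite G], Nat.card G = n → ∀ A : Subgroup G,
      (∀ g : G, (A.subgroupOf (A ⊔ MulAut.conj g • A)).IsSubnormal) → A.IsSubnormal from H _ G rfl A h
  clear h A
  intro n
  induction n using Nat.strong_induction_on with
  | _ n ih =>
    intro G _ _ hn A h
    by_contra hA
    have hsub : ∀ H : Subgroup G, A ≤ H → H ≠ ⊤ → (A.subgroupOf H).IsSubnormal := by
      intro H hAH hH
      refine ih _ (hn ▸ Nat.lt_of_le_of_ne (card_le_card_group H)
        fun e => hH (eq_top_of_card_eq H e)) H rfl _ fun g => ?_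
      have hgH : MulAut.conj (g : G) • A ≤ H := Coprime.conj_smul_le_self (le_normalizer g.2) hAH
      have hmap : (A.subgroupOf H ⊔ MulAut.conj g • A.subgroupOf H).map H.subtype =
          A ⊔ MulAut.conj (g : G) • A := by
        rw [Subgroup.map_sup, Coprime.conj_smul_map_subtype, map_subgroupOf_eq_of_le hAH]
      let f : (A.subgroupOf H ⊔ MulAut.conj g • A.subgroupOf H : Subgroup H) →*
          (A ⊔ MulAut.conj (g : G) • A : Subgroup G) :=
        (H.subtype.comp (Subgroup.subtype _)).codRestrict _ fun y => hmap ▸ mem_map_of_mem _ y.2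
      refine Eq.mp (congrArg Subgroup.IsSubnormal ?_) ((h g).comap f)
      ext y
      rfl
    obtain ⟨M, hM, hAM, huniq⟩ := exists_unique_coatom A hA hsub
    have hconj : ∀ g : G, MulAut.conj g • A ≤ M := by
      intro g
      set J := A ⊔ MulAut.conj g • A with hJ
      by_cases htop : J = ⊤
      · exfalso
        exact hA ((h g).trans le_sup_left (by rw [← hJ, htop]; exact Subgroup.IsSubnormal.top))
      · obtain ⟨L, hL, hJL⟩ := (eq_top_or_exists_le_coatom J).resolve_left htop
        exact le_sup_right.trans (hJL.trans (huniq L hL (le_sup_left.trans hJL)).le)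
    have hNle : normalClosure (A : Set G) ≤ M := by
      refine (closure_le _).mpr fun z hz => ?_
      obtain ⟨v, hv, hvz⟩ := Group.mem_conjugatesOfSet_iff.mp hz
      obtain ⟨c, rfl⟩ := isConj_iff.mp hvz
      exact hconj c (Coprime.conj_mem_conj_smul hv)
    have hne : normalClosure (A : Set G) ≠ ⊤ := fun e => hM.1 (top_le_iff.mp (e ▸ hNle))
    exact hA ((hsub _ le_normalClosure hne).trans le_normalClosure normalClosure_normal.isSubnormal)

end Cfsg.Agent.Core
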