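import Mathlib.Algebra.BigOperators.Group.Finset.Basic
import Mathlib.GroupTheory.IndexNormal
import Mathlib.GroupTheory.SpecificGroups.ZGroup
import Cfsg.Agent.Fusion.UniqueInvolution
import Cfsg.Agent.Coprime.SchurZassenhaus
import Cfsg.Agent.Coprime.Basic
import Cfsg.Agent.Core.FrobeniusGroup

/-!
Fixed-point-free actions on abelian groups: cyclic subgroups of order `pq`, nontrivial centre.
-/

set_option autoImplicit false

namespace Cfsg.Agent.Core

open Subgroup

/-- No nontrivial element has a nontrivial fixed point. -/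
def IsFPF {A V : Type*} [Group A] [Group V] (φ : A →* MulAut V) : Prop :=
  ∀ a : A, a ≠ 1 → ∀ v : V, φ a v = v → v = 1

variable {A V : Type*} [Group A] [CommGroup V] {φ : A →* MulAut V}

theorem IsFPF.comp {B : Type*} [Group B] (h : IsFPF φ) {f : B →* A} (hf : Function.Injective f) :
    IsFPF (φ.comp f) := fun _ hb => h _ fun e => hb (hf (e.trans (map_one f).symm))

theorem IsFPF.coprime [Finite A] [Finite V] (h : IsFPF φ) : (Nat.card V).Coprime (Nat.card A) := by
  classical
  letI : MulAction A V := MulAction.compHom V φ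
  let X : SubMulAction A V :=
    { carrier := {v | v ≠ 1}
      smul_mem' := fun a v hv e => hv ((φ a).injective (e.trans (map_one (φ a)).symm)) }
  have hd : Nat.card A ∣ Nat.card X := by
    refine card_dvd_of_free fun v => eq_bot_iff.mpr fun a ha => mem_bot.mpr ?_
    by_contra hne
    exact v.2 (h a hne v (congrArg Subtype.val ha))
  have hX : Nat.card X + 1 = Nat.card V := by
    have h1 := Set.ncard_add_ncard_compl ({(1 : V)} : Set V)
    rw [Set.ncard_singleton] at h1
    rw [← h1, add_comm 1]
    exact congrArg (· + 1) (Nat.card_coe_set_eq _)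
  refine Nat.coprime_of_dvd fun p hp hpV hpA => ?_
  have h1 := hpA.trans hd
  rw [← hX] at hpV
  exact hp.not_dvd_one ((Nat.dvd_add_right h1).mp hpV)

/-- The norm of a nontrivial subgroup is trivial. -/
theorem IsFPF.prod_subgroup (h : IsFPF φ) {B : Subgroup A} [Fintype B] (hB : B ≠ ⊥) (v : V) :
    ∏ b : B, φ b v = 1 := by
  obtain ⟨b, hb, hb1⟩ := (bot_or_exists_ne_one B).resolve_left hB
  refine h b hb1 _ ?_
  rw [map_prod]
  refine Fintype.prod_equiv (Equiv.mulLeft (⟨b, hb⟩ : B)) _ _ fun c => ?_
  rw [Equiv.coe_mulLeft, Subgroup.coe_mul, map_mul, MulAut.mul_apply]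

/-- The norm of an element of prime order is trivial. -/
theorem IsFPF.prod_range (h : IsFPF φ) {x : A} {p : ℕ} (hx : x ≠ 1) (hp : x ^ p = 1) (hp0 : 0 < p)
    (v : V) : ∏ i ∈ Finset.range p, φ (x ^ i) v = 1 := by
  refine h x hx _ ?_
  rw [map_prod]
  obtain ⟨k, rfl⟩ := Nat.exists_eq_succ_of_ne_zero hp0.ne'
  rw [Nat.succ_eq_add_one]
  conv_lhs => rw [Finset.prod_range_succ]
  conv_rhs => rw [Finset.prod_range_succ', pow_zero]
  congr 1
  · exact Finset.prod_congr rfl fun i _ => by rw [pow_succ', map_mul, MulAut.mul_apply]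
  · rw [← MulAut.mul_apply, ← map_mul, ← pow_succ', hp]

/-- A group acting fixed-point-freely has no noncyclic subgroup of order `p q`. -/
theorem IsFPF.isCyclic_of_card [Finite A] [Finite V] [Nontrivial V] (h : IsFPF φ) {p q : ℕ}
    (hp : p.Prime) (hq : q.Prime) (hA : Nat.card A = p * q) : IsCyclic A := by
  classical
  wlog hpq : p ≤ q generalizing p q
  · exact this hq hp (by rw [hA, mul_comm]) (le_of_not_ge hpq)
  by_contra hcyc
  have := Fact.mk hp
  have := Fact.mk hq
  obtain ⟨x₀, hx₀⟩ := exists_prime_orderOf_dvd_card' (G := A) q (hA ▸ Dvd.intro_left p rfl)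
  set Q := zpowers x₀ with hQ
  have hQc : Nat.card Q = q := by rw [hQ, Nat.card_zpowers, hx₀]
  have hQi : Q.index = p := by
    have := Q.card_mul_index
    rw [hQc, hA, mul_comm p] at this
    exact Nat.eq_of_mul_eq_mul_left hq.pos this
  have hmin : (Nat.card A).minFac = p := by
    refine le_antisymm (Nat.minFac_le_of_dvd hp.two_le (hA ▸ Dvd.intro q rfl)) ?_
    have h1 : (Nat.card A).minFac.Prime :=
      Nat.minFac_prime (by rw [hA]; intro e; have := hp.one_lt; have := hq.one_lt; nlinarith)
    rcases h1.dvd_mul.mp ((Nat.minFac_dvd (Nat.card A)).trans (dvd_of_eq hA)) with h2 | h2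
    · exact ((Nat.prime_dvd_prime_iff_eq h1 hp).mp h2).ge
    · exact hpq.trans ((Nat.prime_dvd_prime_iff_eq h1 hq).mp h2).ge
  have : Q.Normal := normal_of_index_eq_minFac_card (by rw [hQi, hmin])
  obtain ⟨x, hx⟩ : ∃ x, x ∉ Q := by
    by_contra hc
    push Not at hc
    have h1 : Q = ⊤ := top_le_iff.mp fun a _ => hc a
    rw [h1, index_top] at hQi
    exact hp.one_lt.ne hQi
  -- every element outside `Q` has order `p`
  have hord : ∀ y, y ∉ Q → orderOf y = p := by
    intro y hy
    have hy1 : ((y : A ⧸ Q)) ≠ 1 := fun e => hy ((QuotientGroup.eq_one_iff y).mp e)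
    have hdvd : p ∣ orderOf y := by
      have h1 : orderOf (y : A ⧸ Q) = p := orderOf_eq_prime
        (orderOf_dvd_iff_pow_eq_one.mp (by rw [← hQi, index_eq_card]; exact orderOf_dvd_natCard _)) hy1
      rw [← h1]
      exact orderOf_map_dvd (QuotientGroup.mk' Q) y
    obtain ⟨k, hk⟩ := hdvd
    have hkq : k ∣ q := by
      have h2 := orderOf_dvd_natCard y
      rw [hk, hA] at h2
      exact (Nat.mul_dvd_mul_iff_left hp.pos).mp h2
    rcases (Nat.dvd_prime hq).mp hkq with e | e
    · rw [hk, e, mul_one]
    · exact absurd (isCyclic_of_orderOf_eq_card y (by rw [hk, e, hA])) hcyc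
  have hxp : x ^ p = 1 := by rw [← hord x hx, pow_orderOf_eq_one]
  have hout : ∀ y : Q, (y : A) * x ∉ Q := fun y hy => hx ((Q.mul_mem_cancel_left y.2).mp hy)
  obtain ⟨v, hv⟩ := exists_ne (1 : V)
  have hQne : Q ≠ ⊥ := fun e => hq.one_lt.ne' (by rw [← hQc, e, card_bot])
  have := Fintype.ofFinite Q
  -- multiply the norms of the subgroups generated by `y x`
  have h1 : ∏ y : Q, ∏ i ∈ Finset.range p, φ (((y : A) * x) ^ i) v = 1 :=
    Finset.prod_eq_one fun y _ => h.prod_range (fun e => hout y (by rw [e]; exact one_mem Q))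
      (by rw [← hord _ (hout y), pow_orderOf_eq_one]) hp.pos v
  obtain ⟨k, hk⟩ := Nat.exists_eq_succ_of_ne_zero hp.pos.ne'
  rw [Finset.prod_comm] at h1
  rw [hk, Finset.prod_range_succ', Finset.prod_eq_one (s := Finset.range k), one_mul] at h1
  · simp only [pow_zero, map_one, MulAut.one_apply, Finset.prod_const, Finset.card_univ,
      Fintype.card_eq_nat_card] at h1
    rw [hQc] at h1
    refine hv (orderOf_eq_one_iff.mp (Nat.eq_one_of_dvd_coprimes ?_ (orderOf_dvd_natCard v)
      (orderOf_dvd_iff_pow_eq_one.mpr h1)))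
    exact h.coprime.coprime_dvd_right (hA ▸ Dvd.intro_left p rfl)
  intro i hi
  rw [Finset.mem_range] at hi
  -- for fixed exponent the elements `(y x)^(i+1)` run through the coset `Q x^(i+1)`
  have hmem : ∀ y : Q, ((y : A) * x) ^ (i + 1) * (x ^ (i + 1))⁻¹ ∈ Q := fun y => by
    rw [← QuotientGroup.eq_one_iff]
    show QuotientGroup.mk' Q _ = 1
    rw [map_mul, map_inv, map_pow, map_pow, map_mul, QuotientGroup.mk'_apply, QuotientGroup.mk'_apply,
      (QuotientGroup.eq_one_iff (y : A)).mpr y.2, one_mul, mul_inv_cancel]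
  let f : Q → Q := fun y => ⟨_, hmem y⟩
  have hf : Function.Bijective f := by
    refine Finite.injective_iff_bijective.mp fun y z e => ?_
    have e' : ((y : A) * x) ^ (i + 1) = ((z : A) * x) ^ (i + 1) :=
      mul_right_cancel (congrArg Subtype.val e)
    have hcop : (i + 1).Coprime p :=
      (hp.coprime_iff_not_dvd.mpr fun hd => by have := Nat.le_of_dvd (by omega) hd; omega).symm
    have key : ∀ w : Q, ∃ n : ℕ, ((w : A) * x) ^ p = 1 := fun w => ⟨0, by rw [← hord _ (hout w), pow_orderOf_eq_one]⟩
    obtain ⟨j, hj⟩ := Nat.exists_mul_mod_eq_one_of_coprime hcop hp.one_lt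
    have hpw : ∀ w : Q, (((w : A) * x) ^ (i + 1)) ^ j = (w : A) * x := fun w => by
      rw [← pow_mul, ← pow_mod_orderOf, hord _ (hout w), hj.2, pow_one]
    have e2 := congrArg (fun t => t ^ j) e'
    simp only [hpw] at e2
    exact Subtype.ext (mul_right_cancel e2)
  rw [show (∏ y : Q, φ (((y : A) * x) ^ (i + 1)) v) =
      ∏ y : Q, φ (y : A) (φ (x ^ (i + 1)) v) from
    Fintype.prod_equiv (Equiv.ofBijective f hf) _ _ fun y => by
      rw [← MulAut.mul_apply, ← map_mul]
      show _ = φ ((((y : A) * x) ^ (i + 1) * (x ^ (i + 1))⁻¹) * x ^ (i + 1)) v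
      rw [inv_mul_cancel_right]]
  exact h.prod_subgroup hQne _

theorem IsFPF.mem_zpowers_of_commute [Finite A] [Finite V] [Nontrivial V] (h : IsFPF φ) {p : ℕ}
    (hp : p.Prime) {u v : A} (hc : Commute u v) (hu : orderOf u = p) (hv : orderOf v = p) :
    u ∈ zpowers v := by
  have := Fact.mk hp
  by_contra hne
  have hnorm : zpowers v ≤ normalizer ((zpowers u : Subgroup A) : Set A) :=
    zpowers_le.mpr (centralizer_le_normalizer _ (mem_centralizer_iff.mpr fun g hg => by
      obtain ⟨k, rfl⟩ := mem_zpowers_iff.mp hg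
      exact (hc.zpow_left k).eq))
  have hd : zpowers u ⊓ zpowers v = ⊥ := by
    rcases (Nat.dvd_prime hp).mp ((card_dvd_of_le (inf_le_left : zpowers u ⊓ zpowers v ≤ _)).trans
      (by rw [Nat.card_zpowers, hu])) with e | e
    · exact card_eq_one.mp e
    · exfalso
      have h1 : zpowers u ⊓ zpowers v = zpowers u :=
        eq_of_le_of_card_ge inf_le_left (by rw [e, Nat.card_zpowers, hu])
      exact hne ((inf_eq_left.mp h1) (mem_zpowers u))
  have hcard := Coprime.card_sup_eq_mul hnorm hd
  rw [Nat.card_zpowers, Nat.card_zpowers, hu, hv] at hcard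
  have hcyc := (h.comp (f := (zpowers u ⊔ zpowers v).subtype) Subtype.val_injective).isCyclic_of_card
    hp hp hcard
  exact hne (Fusion.mem_zpowers_of_orderOf_dvd hcyc (mem_sup_left (mem_zpowers u))
    (mem_sup_right (mem_zpowers v)) (by rw [hu, hv]))

theorem IsFPF.isCyclic_of_comm [Finite A] [Finite V] [Nontrivial V] (h : IsFPF φ)
    (hA : IsMulCommutative A) : IsCyclic A := by
  have : IsZGroup A := ⟨fun p hp P => by
    have := Fact.mk hp
    refine Fusion.isCyclic_of_unique P.isPGroup'
      ⟨⟨fun a b => Subtype.ext (hA.is_comm.comm _ _)⟩⟩ fun u _ v _ hv hu => ?_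
    rcases eq_or_ne u 1 with rfl | hu1
    · exact one_mem _
    · exact h.mem_zpowers_of_commute hp (hA.is_comm.comm u v) (orderOf_eq_prime hu hu1) hv⟩
  open scoped IsMulCommutative in
  have : Group.IsNilpotent A := CommGroup.isNilpotent
  infer_instance

theorem IsFPF.apply_eq_inv [Finite A] (h : IsFPF φ) {t : A} (ht : orderOf t = 2) (v : V) :
    φ t v = v⁻¹ := by
  have ht1 : t ≠ 1 := fun e => by rw [e, orderOf_one] at ht; omega
  have h1 : φ t (v * φ t v) = v * φ t v := by
    rw [map_mul, ← MulAut.mul_apply, ← map_mul, ← pow_two, ← ht, pow_orderOf_eq_one, map_one,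
      MulAut.one_apply, mul_comm]
  exact eq_inv_of_mul_eq_one_right (h t ht1 _ h1)

/-- A nontrivial group acting fixed-point-freely has nontrivial centre. -/
theorem IsFPF.center_ne_bot [Finite A] [Finite V] [Nontrivial A] [Nontrivial V] (h : IsFPF φ) :
    center A ≠ ⊥ := by
  have hne : ∀ z : A, z ≠ 1 → z ∈ center A → center A ≠ ⊥ := fun z hz hzc e =>
    hz (mem_bot.mp (e ▸ hzc))
  by_cases h2 : 2 ∣ Nat.card A
  · obtain ⟨t, ht⟩ := exists_prime_orderOf_dvd_card' (G := A) 2 h2
    refine hne t (fun e => by rw [e, orderOf_one] at ht; omega) (mem_center_iff.mpr fun g => ?_)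
    have hs : orderOf (g * t * g⁻¹) = 2 := by
      rw [← ht]; exact orderOf_injective (MulAut.conj g).toMonoidHom (MulAut.conj g).injective t
    obtain ⟨v, hv⟩ := exists_ne (1 : V)
    by_contra hne'
    refine hv (h ((g * t * g⁻¹)⁻¹ * t) (fun e => hne' ?_) v ?_)
    · rw [inv_mul_eq_one] at e
      calc g * t = g * t * g⁻¹ * g := by group
        _ = t * g := by rw [e]
    · rw [map_mul, MulAut.mul_apply, h.apply_eq_inv ht, map_inv,
        h.apply_eq_inv (t := (g * t * g⁻¹)⁻¹) (by rw [orderOf_inv, hs]), inv_inv]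
  -- odd order: all Sylow subgroups are cyclic
  have : IsZGroup A := ⟨fun p hp P => by
    have := Fact.mk hp
    have huniq : ∀ K L : Subgroup (P : Subgroup A), Nat.card K = p → Nat.card L = p → K = L := by
      intro K L hK hL
      have hPnil := P.isPGroup'
      -- compare both with a central subgroup of order `p`
      have hnt : Nontrivial (P : Subgroup A) := by
        by_contra hc
        rw [not_nontrivial_iff_subsingleton] at hc
        have : Nat.card K = 1 := Nat.card_eq_one_iff_unique.mpr ⟨inferInstance, ⟨1⟩⟩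
        exact hp.one_lt.ne (this.symm.trans hK)
      have := hPnil.center_nontrivial
      obtain ⟨z, hz⟩ := exists_prime_orderOf_dvd_card' (G := center (P : Subgroup A)) p
        ((hPnil.to_subgroup _).card_eq_or_dvd.resolve_left Finite.one_lt_card.ne')
      rw [← orderOf_coe, ← orderOf_coe] at hz
      have key : ∀ M : Subgroup (P : Subgroup A), Nat.card M = p →
          M = zpowers (z : (P : Subgroup A)) := by
        intro M hM
        obtain ⟨w, hw⟩ := exists_prime_orderOf_dvd_card' (G := M) p (dvd_of_eq hM.symm)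
        rw [← orderOf_coe, ← orderOf_coe] at hw
        have hcomm : Commute ((z : (P : Subgroup A)) : A) ((w : (P : Subgroup A)) : A) :=
          congrArg Subtype.val (mem_center_iff.mp z.2 (w : (P : Subgroup A))).symm
        obtain ⟨k, hk⟩ := mem_zpowers_iff.mp (h.mem_zpowers_of_commute hp hcomm hz hw)
        have hzM : (z : (P : Subgroup A)) ∈ M := by
          have : ((w : (P : Subgroup A)) ^ k) = (z : (P : Subgroup A)) := Subtype.ext hk
          exact this ▸ M.zpow_mem w.2 k
        exact (eq_of_le_of_card_ge (zpowers_le.mpr hzM)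
          (by rw [hM, Nat.card_zpowers, ← orderOf_coe, hz])).symm
      rw [key K hK, key L hL]
    refine (Fusion.cyclic_or_quaternion_of_unique P.isPGroup' huniq).resolve_right fun h' => ?_
    obtain ⟨rfl, k, -, ⟨e⟩⟩ := h'
    refine h2 ((Dvd.intro_left 2 rfl : 2 ∣ 2 * 2).trans ?_)
    have h4 : Nat.card (P : Subgroup A) = 4 * 2 ^ k := by
      rw [Nat.card_congr e.toEquiv, Nat.card_eq_fintype_card, QuaternionGroup.card]
    exact (Dvd.intro _ h4.symm).trans (Subgroup.card_subgroup_dvd_card _)⟩
  set D := commutator A with hD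
  have hcop : (Nat.card D).Coprime D.index := IsZGroup.coprime_commutator_index (G := A)
  obtain ⟨B, hB⟩ := exists_right_complement'_of_coprime hcop
  have hDcyc : IsCyclic D := IsZGroup.isCyclic_commutator (G := A)
  have hB1 : B ≠ ⊥ := fun e => by
    subst e
    exact (IsZGroup.commutator_lt (G := A)).ne (isComplement'_bot_right.mp hB)
  have hBcyc : IsCyclic B :=
    isCyclic_of_injective ((Abelianization.of : A →* _).comp B.subtype) (by
      rw [injective_iff_map_eq_one]
      intro b hb
      have hbD : (b : A) ∈ D ⊓ B := ⟨(QuotientGroup.eq_one_iff (b : A)).mp hb, b.2⟩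
      rw [hB.disjoint.eq_bot, mem_bot] at hbD
      exact Subtype.ext hbD)
  obtain ⟨p, hp, hpB⟩ := Nat.exists_prime_and_dvd (fun e => hB1 (card_eq_one.mp e))
  have := Fact.mk hp
  obtain ⟨y, hy⟩ := exists_prime_orderOf_dvd_card' (G := B) p hpB
  rw [← orderOf_coe] at hy
  refine hne y (fun e => by rw [e, orderOf_one] at hy; exact hp.one_lt.ne hy) ?_
  have := IsCyclic.isMulCommutative (α := D)
  have hyD : zpowers (y : A) ≤ centralizer (D : Set A) := by
    have hnorm : zpowers (y : A) ≤ normalizer (D : Set A) := by rw [normalizer_eq_top]; exact le_top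
    refine Coprime.le_centralizer_of_fixes_prime_order hnorm ?_ ?_
    · rw [Nat.card_zpowers, hy]
      exact ((hcop.coprime_dvd_right (hB.symm.index_eq_card ▸ hpB)).symm)
    · intro w hw hwp a ha
      have hnw : zpowers (y : A) ≤ normalizer ((zpowers w : Subgroup A) : Set A) := by
        have : (zpowers w : Subgroup A).Normal := by
          have hmap : ((zpowers (⟨w, hw⟩ : D)).map D.subtype) = zpowers w := MonoidHom.map_zpowers _ _
          have : (zpowers (⟨w, hw⟩ : D)).Characteristic := by
            refine characteristic_iff_map_le.mpr fun σ => ?_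
            rw [MonoidHom.map_zpowers, zpowers_le]
            refine Fusion.mem_zpowers_of_orderOf_dvd (A := (⊤ : Subgroup D))
              (isCyclic_of_surjective (topEquiv (G := D)).symm.toMonoidHom (topEquiv (G := D)).symm.surjective)
              (mem_top _) (mem_top _) (dvd_of_eq ?_)
            exact orderOf_injective σ.toMonoidHom σ.injective _
          rw [← hmap]; infer_instance
        rw [normalizer_eq_top]; exact le_top
      have hne : p ≠ orderOf w := fun e => by
        have h1 : orderOf w ∣ Nat.card D := orderOf_mk w hw ▸ orderOf_dvd_natCard (⟨w, hw⟩ : D)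
        exact hp.one_lt.ne' (Nat.eq_one_of_dvd_coprimes hcop (e ▸ h1) (hB.symm.index_eq_card ▸ hpB))
      have hd : zpowers w ⊓ zpowers (y : A) = ⊥ := Coprime.inf_eq_bot_of_coprime (by
        rw [Nat.card_zpowers, Nat.card_zpowers, hy]; exact (Nat.coprime_primes hwp hp).mpr hne.symm)
      have hcard := Coprime.card_sup_eq_mul hnw hd
      rw [Nat.card_zpowers, Nat.card_zpowers, hy] at hcard
      have hcyc := (h.comp (f := (zpowers w ⊔ zpowers (y : A)).subtype) Subtype.val_injective).isCyclic_of_card
        hwp hp hcard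
      have := IsCyclic.isMulCommutative (α := (zpowers w ⊔ zpowers (y : A) : Subgroup A))
      exact setLike_mul_comm (mem_sup_right (S := zpowers w) ha) (mem_sup_left (mem_zpowers w))
  have hall : centralizer ({(y : A)} : Set A) = ⊤ := by
    refine top_le_iff.mp ((hB.sup_eq_top).ge.trans (sup_le (fun d hd => ?_) fun b hb => ?_))
    · exact mem_centralizer_singleton_iff.mpr (mem_centralizer_iff.mp (hyD (mem_zpowers _)) d hd)
    · have := IsCyclic.isMulCommutative (α := B)
      exact mem_centralizer_singleton_iff.mpr (setLike_mul_comm hb y.2)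
  exact mem_center_iff.mpr fun g => mem_centralizer_singleton_iff.mp (hall ▸ mem_top g)

variable {G : Type*} [Group G]

/-- Conjugation action of `H` on an abelian subgroup `W` it normalizes. -/
theorem exists_isFPF {H W : Subgroup G} (hW : H ≤ normalizer (W : Set G))
    (hfpf : ∀ h ∈ H, h ≠ 1 → W ⊓ centralizer {h} = ⊥) :
    IsFPF (W.normalizerMonoidHom.comp (inclusion hW)) := fun a ha v hv => by
  have h1 : (v : G) ∈ W ⊓ centralizer {(a : G)} := by
    refine ⟨v.2, mem_centralizer_singleton_iff.mpr ?_⟩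
    have h2 : (a : G) * v * (a : G)⁻¹ = v := congrArg Subtype.val hv
    exact (mul_inv_eq_iff_eq_mul.mp h2).symm
  rw [hfpf a a.2 fun e => ha (Subtype.ext e), mem_bot] at h1
  exact Subtype.ext h1

end Cfsg.Agent.Core
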