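import Cfsg.Agent.Coprime.Basic
import Cfsg.Agent.Coprime.Generation
import Cfsg.Agent.Layer.PConstraint
import Cfsg.Agent.Char.Basic
import Cfsg.Agent.Core.Fitting
import Mathlib.LinearAlgebra.LinearIndependent.Lemmas

/-!
Faithful complex representations of groups with TI Sylow subgroups acting on the `p'`-core.
-/

set_option autoImplicit false

namespace Cfsg.Agent.Core

open Subgroup
open scoped Pointwise commutatorElement

universe u

variable {G : Type u} [Group G]

/-- If `O_p(G) = 1` and the chain witnesses `p`-solvability, then `C(O_{p'}) ≤ O_{p'}`. -/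
theorem centralizer_pPrimeCore_le [Finite G] {p : ℕ} [hp : Fact p.Prime] (h : IsPSolvable p G)
    (hO : pCore p G = ⊥) : centralizer (pPrimeCore p G : Set G) ≤ pPrimeCore p G := by
  obtain ⟨n, S, h0, hl, hm, hn, hi⟩ := h
  set N := pPrimeCore p G with hN
  set C := centralizer (N : Set G) with hC
  have hCn : C.Normal := by rw [hC]; infer_instance
  suffices hs : ∀ i : Fin (n + 1), S i ⊓ C ≤ N by
    have := hs (Fin.last n)
    rwa [hl, top_inf_eq] at this
  intro i
  induction i using Fin.induction with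
  | zero => simp [h0]
  | succ i ih =>
    set A := S i.castSucc ⊓ C with hA
    set B := S i.succ ⊓ C with hB
    have hAB : A ≤ B := inf_le_inf_right _ (hm i.castSucc_le_succ)
    have := hn i.castSucc
    have := hn i.succ
    have hdvd : A.relIndex B ∣ (S i.castSucc).relIndex (S i.succ) := by
      have : A.relIndex B = (S i.castSucc).relIndex B := by
        rw [← inf_relIndex_right (S i.castSucc) B]
        congr 1
        rw [hA, hB, ← inf_assoc, inf_eq_left.mpr (hm i.castSucc_le_succ)]
      rw [this]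
      exact Layer.relIndex_dvd_relIndex_of_le inf_le_left
    have hBn : B.Normal := inferInstance
    have hAc : (Nat.card A).Coprime p :=
      coprime_card_pPrimeCore.coprime_dvd_left (card_dvd_of_le ih)
    have hcard : Nat.card A * A.relIndex B = Nat.card B := by
      rw [← relIndex_bot_left, relIndex_mul_relIndex _ _ _ bot_le hAB, relIndex_bot_left]
    suffices hBc : (Nat.card B).Coprime p from le_pPrimeCore hBc
    rcases hi i with ⟨m, hm'⟩ | hc
    · -- central `p'` by `p`: the Sylow subgroup is normal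
      by_contra hnc
      obtain ⟨Q⟩ : Nonempty (Sylow p B) := inferInstance
      have hpB : p ∣ Nat.card B :=
        not_not.mp fun hd => hnc ((hp.out.coprime_iff_not_dvd.mpr hd).symm)
      have hsup : A.subgroupOf B ⊔ (Q : Subgroup B) = ⊤ := by
        rw [← index_eq_one]
        by_contra hne
        obtain ⟨q, hq, hqd⟩ := Nat.exists_prime_and_dvd hne
        have h1 : q ∣ (A.subgroupOf B).index := hqd.trans (index_dvd_of_le le_sup_left)
        obtain ⟨j, -, hj⟩ := (Nat.dvd_prime_pow hp.out).mp (hm' ▸ hdvd)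
        have h2 : q ∣ A.relIndex B := h1
        rw [hj] at h2
        have hqp : q = p := (Nat.prime_dvd_prime_iff_eq hq hp.out).mp (hq.dvd_of_dvd_pow h2)
        subst hqp
        exact Q.not_dvd_index (hqd.trans (index_dvd_of_le le_sup_right))
      have hQn : (Q : Subgroup B).Normal := by
        refine normalizer_eq_top_iff.mp (top_le_iff.mp (hsup ▸ sup_le ?_ le_normalizer))
        refine le_trans (fun a ha => mem_centralizer_iff.mpr fun b _ => Subtype.ext ?_)
          (centralizer_le_normalizer _)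
        exact (mem_centralizer_iff.mp b.2.2 (a : G) (ih (mem_subgroupOf.mp ha))).symm
      have h1 : ((Q : Subgroup B).map B.subtype) ≤ pCore p G := by
        have h2 := map_mono (f := B.subtype) (le_pCore Q.isPGroup')
        rw [map_pCore_normal] at h2
        exact h2.trans inf_le_left
      rw [hO, le_bot_iff, map_eq_bot_iff_of_injective _ B.subtype_injective] at h1
      exact Q.ne_bot_of_dvd_card hpB h1
    · rw [← hcard]
      exact hAc.mul_left (hc.coprime_dvd_left hdvd)

section linear

variable {V : Type*} [AddCommGroup V] [Module ℂ V]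

/-- Nonzero vectors attached to distinct characters, stable under twisting, are independent. -/
theorem linearIndependent_of_twist {ι S M : Type*} [Fintype ι] [Monoid S] [AddCommGroup M] [Module ℂ M]
    (lam : ι → (S →* ℂ)) (hlam : Function.Injective lam) (v : ι → M) (hv : ∀ i, v i ≠ 0)
    (htw : ∀ c : ι → ℂ, ∑ i, c i • v i = 0 → ∀ s : S, ∑ i, (c i * lam i s) • v i = 0) :
    LinearIndependent ℂ v := by
  classical
  rw [Fintype.linearIndependent_iff]
  intro c hc j
  let b := Module.Basis.ofVectorSpace ℂ M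
  obtain ⟨k, hk⟩ : ∃ k, b.repr (v j) k ≠ 0 := by
    by_contra hk
    push Not at hk
    exact hv j (b.repr.map_eq_zero_iff.mp (Finsupp.ext hk))
  have hli : LinearIndependent ℂ (fun i => ((lam i : S →* ℂ) : S → ℂ)) :=
    (linearIndependent_monoidHom S ℂ).comp lam hlam
  rw [Fintype.linearIndependent_iff] at hli
  have h1 := hli (fun i => c i * b.repr (v i) k) (funext fun s => by
    have h2 := congrArg (fun m => b.repr m k) (htw c hc s)
    simpa [map_sum, Finsupp.finsetSum_apply, Finset.sum_apply, mul_comm, mul_left_comm, mul_assoc] using h2) j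
  exact (mul_eq_zero.mp h1).resolve_right hk

/-- An abelian subgroup acting nontrivially has a nontrivial character with an eigenvector. -/
theorem exists_nontrivial_eigenchar [FiniteDimensional ℂ V] [Finite G] (ρ : Representation ℂ G V)
    (D : Subgroup G) [IsMulCommutative D] (hD : ∃ d ∈ D, ρ d ≠ 1) :
    ∃ lam : D →* ℂ, lam ≠ 1 ∧ ∃ w : V, w ≠ 0 ∧ ∀ d : D, ρ d w = lam d • w := by
  classical
  obtain ⟨d₀, hd₀D, hd₀⟩ := hD
  obtain ⟨μ, b, hb, -, -⟩ := Char.exists_eigenbasis ρ d₀
  obtain ⟨i₀, hi₀⟩ : ∃ i, μ i ≠ 1 := by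
    by_contra hc
    push Not at hc
    exact hd₀ (b.ext fun i => by rw [hb, hc, one_smul]; rfl)
  let good : Submodule ℂ V → Prop := fun U => U ≠ ⊥ ∧ U ≤ Module.End.eigenspace (ρ d₀) (μ i₀) ∧
    ∀ d : D, ∀ u ∈ U, ρ d u ∈ U
  have hcomm : ∀ (d e : D) (u : V), ρ d (ρ e u) = ρ e (ρ d u) := fun d e u => by
    rw [← Module.End.mul_apply, ← map_mul, ← Module.End.mul_apply, ← map_mul,
      show (d : G) * e = e * d from congrArg Subtype.val (‹IsMulCommutative D›.is_comm.comm d e)]
  have hne : {U | good U}.Nonempty := by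
    refine ⟨Module.End.eigenspace (ρ d₀) (μ i₀), ?_, le_rfl, fun d u hu => ?_⟩
    · intro e
      have : b i₀ ∈ Module.End.eigenspace (ρ d₀) (μ i₀) := Module.End.mem_eigenspace_iff.mpr (hb i₀)
      rw [e, Submodule.mem_bot] at this
      exact b.ne_zero i₀ this
    · rw [Module.End.mem_eigenspace_iff] at hu ⊢
      rw [hcomm ⟨d₀, hd₀D⟩ d u, hu, map_smul]
  obtain ⟨U, ⟨hU0, hUe, hUD⟩, hmin⟩ :=
    (wellFounded_lt (α := Submodule ℂ V)).has_min {U | good U} hne
  have hscal : ∀ d : D, ∃ c : ℂ, ∀ u ∈ U, ρ d u = c • u := by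
    intro d
    have : Nontrivial U := Submodule.nontrivial_iff_ne_bot.mpr hU0
    let f : U →ₗ[ℂ] U := (ρ d).restrict (hUD d)
    obtain ⟨c, hc⟩ := Module.End.exists_eigenvalue f
    obtain ⟨u₀, hu₀⟩ := hc.exists_hasEigenvector
    refine ⟨c, fun u hu => ?_⟩
    by_contra hne'
    refine hmin (U ⊓ Module.End.eigenspace (ρ d) c) ⟨?_, inf_le_left.trans hUe, fun e v hv => ?_⟩
      (lt_of_le_of_ne inf_le_left fun e => hne' (Module.End.mem_eigenspace_iff.mp (e.ge hu).2))
    · intro e
      have h1 : (u₀ : V) ∈ U ⊓ Module.End.eigenspace (ρ d) c := ⟨u₀.2,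
        Module.End.mem_eigenspace_iff.mpr (congrArg Subtype.val hu₀.apply_eq_smul)⟩
      rw [e, Submodule.mem_bot] at h1
      exact hu₀.2 (Subtype.ext h1)
    · refine ⟨hUD e v hv.1, Module.End.mem_eigenspace_iff.mpr ?_⟩
      rw [hcomm, Module.End.mem_eigenspace_iff.mp hv.2, map_smul]
  choose c hc using hscal
  obtain ⟨w, hwU, hw⟩ := Submodule.exists_mem_ne_zero_of_ne_bot hU0
  have huniq : ∀ {x y : ℂ}, x • w = y • w → x = y := fun h => smul_left_injective ℂ hw h
  let lam : D →* ℂ :=
    { toFun := c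
      map_one' := huniq (by rw [← hc 1 w hwU, one_smul]; simp)
      map_mul' := fun d e => huniq (by
        rw [← hc _ w hwU, Subgroup.coe_mul, map_mul, Module.End.mul_apply, hc e w hwU, map_smul,
          hc d w hwU, smul_smul, mul_comm]) }
  refine ⟨lam, fun e => hi₀ (huniq ?_), w, hw, fun d => hc d w hwU⟩
  rw [← Module.End.mem_eigenspace_iff.mp (hUe hwU), hc ⟨d₀, hd₀D⟩ w hwU]
  show lam ⟨d₀, hd₀D⟩ • w = _
  rw [e, MonoidHom.one_apply]

end linear

/-- A `p`-solvable group with TI Sylow subgroup and a faithful representation of degree `d` with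
`d² ≤ |P|` has normal Sylow subgroup. -/
theorem sylow_normal_of_small_degree [Finite G] {p : ℕ} [Fact p.Prime] (hsolv : IsPSolvable p G)
    (P : Sylow p G)
    (hTI : ∀ g : G, g ∉ normalizer ((P : Subgroup G) : Set G) →
      (P : Subgroup G) ⊓ (MulAut.conj g • (P : Subgroup G)) = ⊥)
    {n : ℕ} (ρ : Representation ℂ G (Fin n → ℂ)) (hρ : Function.Injective ρ)
    (hn : n ^ 2 ≤ Nat.card (P : Subgroup G)) : (P : Subgroup G).Normal := by
  classical
  by_contra hPn
  obtain ⟨g, -, hg⟩ := SetLike.exists_of_lt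
    (lt_top_iff_ne_top.mpr fun e => hPn (normalizer_eq_top_iff.mp e))
  have hO : pCore p G = ⊥ := by
    refine le_bot_iff.mp ((hTI g hg) ▸ le_inf (pCore_le_sylow P) fun x hx => ?_)
    rw [Coprime.mem_conj_smul]
    have := pCore_le_sylow P (pCore_normal.conj_mem x hx g⁻¹)
    simpa using this
  set N := pPrimeCore p G with hN
  have hPb : (P : Subgroup G) ≠ ⊥ := fun e => hPn (e ▸ inferInstance)
  have hcopN : (Nat.card (P : Subgroup G)).Coprime (Nat.card N) := by
    obtain ⟨k, hk⟩ := IsPGroup.iff_card.mp P.isPGroup'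
    rw [hk]; exact coprime_card_pPrimeCore.symm.pow_left k
  have hPN : (P : Subgroup G) ≤ normalizer (N : Set G) := le_normalizer_of_normal
  have hPnC : ¬ N ≤ centralizer ((P : Subgroup G) : Set G) := fun hle => hPb (le_bot_iff.mp (by
    have h1 : (P : Subgroup G) ≤ N :=
      (le_centralizer_iff.mp hle).trans (centralizer_pPrimeCore_le hsolv hO)
    rw [← Coprime.inf_eq_bot_of_coprime hcopN]
    exact le_inf le_rfl h1))
  have hsolP : Group.IsSolvable (P : Subgroup G) := by
    have := P.isPGroup'.isNilpotent; infer_instance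
  -- an invariant Sylow subgroup of `N` that is not centralised
  obtain ⟨q, hq, Q, hQinv, hQC⟩ : ∃ (q : ℕ) (_ : q.Prime) (Q : Subgroup G),
      (IsPGroup q Q ∧ Q ≤ N ∧ (P : Subgroup G) ≤ normalizer (Q : Set G)) ∧
      ¬ Q ≤ centralizer ((P : Subgroup G) : Set G) := by
    by_contra hc
    push Not at hc
    refine hPnC (Coprime.le_of_forall_sylow_le fun q hq => ?_)
    have := Fact.mk hq
    obtain ⟨R, hR⟩ := Coprime.exists_invariant_sylow hPN hcopN (Or.inl hsolP) q
    exact ⟨R, hc q hq _ ⟨R.isPGroup'.map _, map_subtype_le _, hR⟩⟩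
  have := Fact.mk hq
  obtain ⟨S, ⟨⟨hSq, hSN, hSP⟩, hSC⟩, hSmin⟩ := (Set.toFinite
    {X : Subgroup G | (IsPGroup q X ∧ X ≤ N ∧ (P : Subgroup G) ≤ normalizer (X : Set G)) ∧
      ¬ X ≤ centralizer ((P : Subgroup G) : Set G)}).exists_minimal ⟨Q, hQinv, hQC⟩
  have hsmall : ∀ X : Subgroup G, X ≤ S → X ≠ S → (P : Subgroup G) ≤ normalizer (X : Set G) →
      X ≤ centralizer ((P : Subgroup G) : Set G) := fun X hX hne hXP => by
    by_contra hXC
    exact hne (le_antisymm hX (hSmin ⟨⟨hSq.to_le hX, hX.trans hSN, hXP⟩, hXC⟩ hX))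
  have hcopS : (Nat.card (P : Subgroup G)).Coprime (Nat.card S) :=
    hcopN.coprime_dvd_right (card_dvd_of_le hSN)
  have hSS : ⁅S, (P : Subgroup G)⁆ = S := by
    by_contra hne
    have h1 := hsmall _ (Coprime.commutator_le_of_le_normalizer hSP) hne
      (normalizer_commutator_ge_right S (P : Subgroup G))
    rw [← commutator_eq_bot_iff_le_centralizer, Coprime.commutator_commutator_eq hSP hcopS
      (Or.inl hsolP), commutator_eq_bot_iff_le_centralizer] at h1
    exact hSC h1
  -- fixed points of single elements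
  have hfix : ∀ x ∈ (P : Subgroup G), x ≠ 1 → ∀ s ∈ S, x * s = s * x →
      s ∈ centralizer ((P : Subgroup G) : Set G) := by
    intro x hx hx1 s hs hxs
    refine Coprime.mem_centralizer_of_mem_normalizer hSP
      (Coprime.inf_eq_bot_of_coprime hcopS.symm) hs (not_not.mp fun hsn => hx1 ?_)
    refine mem_bot.mp ((hTI s hsn) ▸ (⟨hx, ?_⟩ : x ∈ (P : Subgroup G) ⊓ MulAut.conj s • (P : Subgroup G)))
    have := Coprime.conj_mem_conj_smul (g := s) hx
    rwa [← hxs, mul_inv_cancel_right] at this
  set D : Subgroup G := ⁅S, S⁆ with hDdef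
  have hDS : D ≤ S := commutator_le_self S
  have hSb : S ≠ ⊥ := fun e => hSC (e ▸ bot_le)
  have hDne : D ≠ S := fun e => by
    have : Nontrivial S := (nontrivial_iff_ne_bot S).mpr hSb
    have : Group.IsSolvable S := by have := hSq.isNilpotent; infer_instance
    have h1 := (Group.IsSolvable.commutator_lt_top_of_nontrivial S).ne
    refine h1 (map_injective S.subtype_injective ?_)
    rw [map_subtype_commutator, ← hDdef, e, ← MonoidHom.range_eq_map, S.range_subtype]
  have hDPn : (P : Subgroup G) ≤ normalizer (D : Set G) := fun x hx => by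
    refine Coprime.mem_normalizer_of_conj_smul_eq ?_
    have e : MulAut.conj x • S = S := Coprime.conj_smul_eq_self_of_mem_normalizer (hSP hx)
    rw [hDdef, Coprime.conj_smul_eq_map, map_commutator, ← Coprime.conj_smul_eq_map, e]
  have hDP : D ≤ centralizer ((P : Subgroup G) : Set G) := hsmall D hDS hDne hDPn
  have hDc : S ≤ centralizer (D : Set G) := by
    rw [← commutator_eq_bot_iff_le_centralizer]
    have h1 : ⁅⁅(P : Subgroup G), D⁆, S⁆ = ⊥ := by
      rw [commutator_comm (P : Subgroup G), commutator_eq_bot_iff_le_centralizer.mpr hDP,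
        commutator_bot_left]
    have h2 : ⁅⁅D, S⁆, (P : Subgroup G)⁆ = ⊥ := by
      refine commutator_eq_bot_iff_le_centralizer.mpr (le_trans ?_ hDP)
      exact commutator_mono hDS le_rfl
    have h3 := commutator_commutator_eq_bot_of_rotate h1 h2
    rwa [hSS] at h3
  have hPone : 1 < Nat.card (P : Subgroup G) :=
    lt_of_le_of_ne Nat.card_pos fun e => hPb (card_eq_one.mp e.symm)
  have hfr : Module.finrank ℂ (Fin n → ℂ) = n := Module.finrank_fin_fun ℂ
  rcases eq_or_ne D ⊥ with hD | hD
  · -- abelian case: `P` permutes the eigencharacters freely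
    have hSab : IsMulCommutative S := ⟨⟨fun a b => Subtype.ext
      (mem_centralizer_iff.mp (commutator_eq_bot_iff_le_centralizer.mp hD b.2) a a.2)⟩⟩
    obtain ⟨lam, hlam, w, hw, hwl⟩ := exists_nontrivial_eigenchar ρ S (by
      obtain ⟨s, hs, hs1⟩ : ∃ s ∈ S, s ≠ 1 := by
        by_contra hc
        push Not at hc
        exact hSb ((eq_bot_iff_forall _).mpr hc)
      exact ⟨s, hs, fun e => hs1 (hρ (e.trans (map_one ρ).symm))⟩)
    let cj : ↥(P : Subgroup G) → (S →* S) := fun x =>
      ((MulAut.conj ((x : G))⁻¹).toMonoidHom.comp S.subtype).codRestrict S fun s => by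
        have := (mem_normalizer_iff.mp (hSP (inv_mem x.2)) (s : G)).mp s.2
        simpa using this
    have hcjv : ∀ x s, ((cj x s : S) : G) = (x : G)⁻¹ * (s : G) * (x : G) := fun x s => by
      simp [cj, MonoidHom.codRestrict]
    have hinj : Function.Injective fun x : (P : Subgroup G) => lam.comp (cj x) := by
      intro x y hxy
      by_contra hne
      set z : G := (y : G)⁻¹ * x with hz
      have hzP : z ∈ (P : Subgroup G) := mul_mem (inv_mem y.2) x.2
      have hz1 : z ≠ 1 := fun e => hne (Subtype.ext (inv_mul_eq_one.mp e).symm)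
      have hzS : ∀ s : S, z * (s : G) * z⁻¹ ∈ S := fun s =>
        (mem_normalizer_iff.mp (hSP hzP) _).mp s.2
      have hfixlam : ∀ s : S, lam ⟨z * (s : G) * z⁻¹, hzS s⟩ = lam s := fun s => by
        have h1 := DFunLike.congr_fun hxy ⟨(x : G) * s * (x : G)⁻¹,
          (mem_normalizer_iff.mp (hSP x.2) _).mp s.2⟩
        simp only [MonoidHom.comp_apply] at h1
        convert h1.symm using 1 <;> congr 1 <;> apply Subtype.ext <;> rw [hcjv] <;>
          simp [hz, mul_assoc]
      let θ : S →* S :=
        { toFun := fun s => ⟨z * (s : G) * z⁻¹ * (s : G)⁻¹, S.mul_mem (hzS s) (S.inv_mem s.2)⟩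
          map_one' := Subtype.ext (by simp)
          map_mul' := fun s t => by
            refine Subtype.ext ?_
            have e : ∀ (a b : G), a ∈ S → b ∈ S → a * b = b * a := fun a b ha hb =>
              congrArg Subtype.val (hSab.is_comm.comm ⟨a, ha⟩ ⟨b, hb⟩)
            show z * ((s : G) * t) * z⁻¹ * ((s : G) * t)⁻¹ =
              (z * s * z⁻¹ * (s : G)⁻¹) * (z * t * z⁻¹ * (t : G)⁻¹)
            calc _ = (z * s * z⁻¹) * ((z * t * z⁻¹ * (t : G)⁻¹) * (s : G)⁻¹) := by group
              _ = (z * s * z⁻¹) * ((s : G)⁻¹ * (z * t * z⁻¹ * (t : G)⁻¹)) := by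
                rw [e (z * t * z⁻¹ * (t : G)⁻¹) _ (S.mul_mem (hzS t) (S.inv_mem t.2)) (S.inv_mem s.2)]
              _ = _ := by group }
      have hθ : Function.Injective θ := by
        rw [injective_iff_map_eq_one]
        intro s hs
        have h1 : z * (s : G) * z⁻¹ * (s : G)⁻¹ = 1 := congrArg Subtype.val hs
        rw [mul_inv_eq_one, mul_inv_eq_iff_eq_mul] at h1
        have h2 : (s : G) ∈ (S ⊓ centralizer ((P : Subgroup G) : Set G)) ⊓ ⁅S, (P : Subgroup G)⁆ :=
          ⟨⟨s.2, hfix z hzP hz1 _ s.2 h1⟩, hSS.symm ▸ s.2⟩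
        rw [Coprime.centralizer_inf_commutator_eq_bot hSP hcopS, mem_bot] at h2
        exact Subtype.ext h2
      refine hlam (MonoidHom.ext fun s => ?_)
      obtain ⟨t, rfl⟩ := (Finite.injective_iff_surjective.mp hθ) s
      have hne0 : lam t ≠ 0 := left_ne_zero_of_mul_eq_one (b := lam t⁻¹)
        (by rw [← map_mul, mul_inv_cancel, map_one])
      refine mul_right_cancel₀ hne0 ?_
      rw [← map_mul, MonoidHom.one_apply, one_mul, ← hfixlam t]
      congr 1
      exact Subtype.ext (show z * (t : G) * z⁻¹ * (t : G)⁻¹ * (t : G) = z * (t : G) * z⁻¹ by group)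
    have := Fintype.ofFinite (P : Subgroup G)
    have hrel : ∀ (x : (P : Subgroup G)) (s : S),
        ρ (s : G) (ρ (x : G) w) = lam (cj x s) • ρ (x : G) w := fun x s => by
      rw [← Module.End.mul_apply, ← map_mul,
        show (s : G) * (x : G) = (x : G) * ((cj x s : S) : G) by rw [hcjv]; group,
        map_mul, Module.End.mul_apply, hwl, map_smul]
    have hli : LinearIndependent ℂ fun x : (P : Subgroup G) => ρ (x : G) w := by
      refine linearIndependent_of_twist (fun x => lam.comp (cj x)) hinj _ (fun x e => hw ?_) ?_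
      · rw [← ρ.inv_self_apply (x : G) w, e, map_zero]
      · intro c hc s
        have := congrArg (ρ (s : G)) hc
        rw [map_sum, map_zero] at this
        refine Eq.trans (Finset.sum_congr rfl fun x _ => ?_) this
        rw [map_smul, hrel, smul_smul]; rfl
    have h1 := hli.fintype_card_le_finrank
    rw [hfr, ← Nat.card_eq_fintype_card] at h1
    nlinarith
  · -- class two case
    have hDab : IsMulCommutative D := ⟨⟨fun a b => Subtype.ext
      (mem_centralizer_iff.mp (hDc (hDS b.2)) a a.2)⟩⟩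
    obtain ⟨lam, hlam, w, hw, hwl⟩ := exists_nontrivial_eigenchar ρ D (by
      obtain ⟨s, hs, hs1⟩ : ∃ s ∈ D, s ≠ 1 := by
        by_contra hc
        push Not at hc
        exact hD ((eq_bot_iff_forall _).mpr hc)
      exact ⟨s, hs, fun e => hs1 (hρ (e.trans (map_one ρ).symm))⟩)
    have hcm : ∀ a ∈ S, ∀ b ∈ S, ⁅a, b⁆ ∈ D := fun a ha b hb => commutator_mem_commutator ha hb
    have hDcen : ∀ d ∈ D, ∀ s ∈ S, s * d = d * s := fun d hd s hs =>
      (mem_centralizer_iff.mp (hDc hs) d hd).symm
    -- the pairing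
    have hbilin : ∀ a ∈ S, ∀ b ∈ S, ∀ c ∈ S, ⁅a, b * c⁆ = ⁅a, b⁆ * ⁅a, c⁆ ∧
        ⁅a * b, c⁆ = ⁅a, c⁆ * ⁅b, c⁆ := fun a ha b hb c hc => by
      constructor
      · calc ⁅a, b * c⁆ = ⁅a, b⁆ * (b * ⁅a, c⁆) * b⁻¹ := by
              simp [commutatorElement_def, mul_assoc]
          _ = _ := by rw [hDcen _ (hcm a ha c hc) b hb]; group
      · calc ⁅a * b, c⁆ = (a * ⁅b, c⁆) * a⁻¹ * ⁅a, c⁆ := by
              simp [commutatorElement_def, mul_assoc]
          _ = ⁅b, c⁆ * ⁅a, c⁆ := by rw [hDcen _ (hcm b hb c hc) a ha, mul_inv_cancel_right]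
          _ = _ := hDcen _ (hcm a ha c hc) _ (hDS (hcm b hb c hc))
    -- conjugation by elements of `P` as maps on `S`
    let cS : ↥(P : Subgroup G) → S → S := fun x a =>
      ⟨(x : G) * a * (x : G)⁻¹, (mem_normalizer_iff.mp (hSP x.2) (a : G)).mp a.2⟩
    have hcS : ∀ x a, ((cS x a : S) : G) = (x : G) * a * (x : G)⁻¹ := fun _ _ => rfl
    have cS_mul : ∀ x y a, cS (x * y) a = cS x (cS y a) := fun x y a => Subtype.ext (by
      simp only [hcS, Subgroup.coe_mul]; group)
    have cS_one : ∀ a, cS 1 a = a := fun a => Subtype.ext (by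
      simp only [hcS, Subgroup.coe_one]; group)
    have cS_inv : ∀ x a, cS x (cS x⁻¹ a) = a := fun x a => by
      rw [← cS_mul, mul_inv_cancel, cS_one]
    let μ : D →* ℂˣ := lam.toHomUnits
    let β : S →* (S →* ℂˣ) :=
      { toFun := fun a =>
          { toFun := fun b => μ ⟨⁅(a : G), (b : G)⁆, hcm _ a.2 _ b.2⟩
            map_one' := by
              rw [← map_one μ]; congr 1
              exact Subtype.ext (by simp)
            map_mul' := fun b c => by
              rw [← map_mul]; congr 1
              exact Subtype.ext (hbilin _ a.2 _ b.2 _ c.2).1 }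
        map_one' := MonoidHom.ext fun b => by
          show μ _ = 1
          rw [← map_one μ]; congr 1
          exact Subtype.ext (by simp)
        map_mul' := fun a b => MonoidHom.ext fun c => by
          show μ _ = μ _ * μ _
          rw [← map_mul]; congr 1
          exact Subtype.ext (hbilin _ a.2 _ b.2 _ c.2).2 }
    have hinv : ∀ x a b, β (cS x a) (cS x b) = β a b := by
      intro x a b
      show μ _ = μ _
      congr 1
      refine Subtype.ext ?_
      have hxd := mem_centralizer_iff.mp (hDP (hcm _ a.2 _ b.2)) x x.2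
      calc ⁅(x : G) * a * (x : G)⁻¹, (x : G) * b * (x : G)⁻¹⁆ = (x : G) * ⁅(a : G), (b : G)⁆ * (x : G)⁻¹ := by
            simp [commutatorElement_def, mul_assoc]
        _ = ⁅(a : G), (b : G)⁆ := by rw [hxd, mul_inv_cancel_right]
    have hcong : ∀ x a a', β a = β a' → β (cS x a) = β (cS x a') := fun x a a' e =>
      MonoidHom.ext fun b => by rw [← cS_inv x b, hinv, hinv, e]
    set Z := β.ker with hZ
    have hfixZ : ∀ a : S, (a : G) ∈ centralizer ((P : Subgroup G) : Set G) → a ∈ Z := by
      intro a ha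
      rw [hZ, MonoidHom.mem_ker]
      refine MonoidHom.ext fun b => ?_
      have hle : ⁅S, (P : Subgroup G)⁆ ≤ (β a).ker.map S.subtype := by
        refine commutator_le.mpr fun s hs x hx => ?_
        refine ⟨⟨s, hs⟩ * cS ⟨x, hx⟩ ⟨s, hs⟩⁻¹, ?_, by simp [hcS, commutatorElement_def, mul_assoc]⟩
        rw [SetLike.mem_coe, MonoidHom.mem_ker, map_mul]
        have h1 := hinv ⟨x, hx⟩ a (⟨s, hs⟩⁻¹ : S)
        have e : cS ⟨x, hx⟩ a = a := Subtype.ext (show x * (a : G) * x⁻¹ = a by
          rw [mem_centralizer_iff.mp ha x hx, mul_inv_cancel_right])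
        rw [e] at h1
        rw [h1, ← map_mul, mul_inv_cancel, map_one]
      obtain ⟨b', hb', e⟩ := hle (show (b : G) ∈ ⁅S, (P : Subgroup G)⁆ by rw [hSS]; exact b.2)
      rw [show b = b' from Subtype.ext e.symm]
      exact hb'
    have hZne : Z ≠ ⊤ := fun e => by
      refine hlam (MonoidHom.ext fun d => ?_)
      have hle : ⁅S, S⁆ ≤ μ.ker.map D.subtype := by
        refine commutator_le.mpr fun a ha b hb => ⟨⟨⁅a, b⁆, hcm a ha b hb⟩, ?_, rfl⟩
        rw [SetLike.mem_coe, MonoidHom.mem_ker]
        exact DFunLike.congr_fun (MonoidHom.mem_ker.mp (e ▸ mem_top (⟨a, ha⟩ : S))) ⟨b, hb⟩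
      obtain ⟨d', hd', e'⟩ := hle d.2
      rw [show d = d' from Subtype.ext e'.symm, MonoidHom.one_apply, ← MonoidHom.coe_toHomUnits lam d',
        MonoidHom.mem_ker.mp hd', Units.val_one]
    obtain ⟨s₀, -, hs₀⟩ := SetLike.exists_of_lt (lt_top_iff_ne_top.mpr hZne)
    have hfree : ∀ x : (P : Subgroup G), x ≠ 1 → β (cS x s₀) ≠ β s₀ := by
      intro x hx1 hβ
      set K := Z.map S.subtype with hK
      have hxK : zpowers (x : G) ≤ normalizer (K : Set G) := by
        rw [zpowers_le]
        refine Coprime.mem_normalizer_of_conj_smul_eq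
          (eq_of_le_of_card_ge ?_ (Coprime.card_conj_smul _ K).ge)
        intro y hy
        rw [Coprime.mem_conj_smul] at hy
        obtain ⟨k, hk, hky⟩ := hy
        refine ⟨cS x k, ?_, ?_⟩
        · rw [SetLike.mem_coe, hZ, MonoidHom.mem_ker]
          refine (hcong x k 1 (by rw [MonoidHom.mem_ker.mp hk, map_one])).trans ?_
          rw [show cS x 1 = 1 from Subtype.ext (by simp [hcS]), map_one]
        · simp only [Subgroup.coe_subtype, hcS] at hky ⊢
          rw [hky]; group
      have hc : (Nat.card (zpowers (x : G))).Coprime (Nat.card K) :=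
        (hcopS.coprime_dvd_left (card_dvd_of_le (zpowers_le.mpr x.2))).coprime_dvd_right
          (card_dvd_of_le (map_subtype_le Z))
      have hpow : ∀ m : ℕ, β (cS (x ^ m) s₀) = β s₀ := by
        intro m
        induction m with
        | zero => rw [pow_zero, cS_one]
        | succ m ih => rw [pow_succ', cS_mul, hcong x _ _ ih, hβ]
      obtain ⟨k, hk, hkc⟩ := Coprime.exists_fixed_mem_leftCoset hxK hc
        (Or.inl (isSolvable_mono hsolP (zpowers_le.mpr x.2))) (k := (s₀ : G)) (fun y hy => by
          obtain ⟨m, rfl⟩ := (mem_powers_iff_mem_zpowers.mpr hy : y ∈ Submonoid.powers (x : G))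
          refine ⟨s₀⁻¹ * cS (x ^ m) s₀, ?_, by simp [hcS]⟩
          rw [SetLike.mem_coe, hZ, MonoidHom.mem_ker, map_mul, hpow, ← map_mul, inv_mul_cancel,
            map_one])
      obtain ⟨k', hk', rfl⟩ := hk
      have h1 : s₀ * k' ∈ Z := hfixZ (s₀ * k') (hfix x x.2 (fun e => hx1 (Subtype.ext e)) _ (s₀ * k').2
        (mem_centralizer_iff.mp hkc x (mem_zpowers _)))
      exact hs₀ ((Z.mul_mem_cancel_right hk').mp h1)
    have hcardP : Nat.card (P : Subgroup G) < Nat.card β.range := by
      let f : Option (P : Subgroup G) → β.range := fun o => o.elim 1 fun x => ⟨β (cS x s₀), _, rfl⟩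
      have hf : Function.Injective f := by
        have hnz : ∀ x : (P : Subgroup G), β (cS x s₀) ≠ 1 := fun x e => hs₀ (MonoidHom.mem_ker.mpr (by
          have h1 := hcong x⁻¹ (cS x s₀) 1 (by rw [e, map_one])
          rw [← cS_mul, inv_mul_cancel, cS_one, show cS x⁻¹ 1 = 1 from Subtype.ext (by simp [hcS]),
            map_one] at h1
          exact h1))
        rintro (_ | x) (_ | y) h
        · rfl
        · exact absurd (congrArg Subtype.val h).symm (hnz y)
        · exact absurd (congrArg Subtype.val h) (hnz x)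
        · have h' : β (cS x s₀) = β (cS y s₀) := congrArg Subtype.val h
          by_contra hne
          refine hfree (y⁻¹ * x) (fun e => hne (congrArg some (inv_mul_eq_one.mp e).symm)) ?_
          rw [cS_mul, hcong y⁻¹ _ _ h', ← cS_mul, inv_mul_cancel, cS_one]
      have h1 := Nat.card_le_card_of_injective f hf
      rw [Finite.card_option] at h1
      exact h1
    -- independent operators on the eigenspace
    let W : Submodule ℂ (Fin n → ℂ) := ⨅ d : D, Module.End.eigenspace (ρ (d : G)) (lam d)
    have hW : ∀ v ∈ W, ∀ d : D, ρ (d : G) v = lam d • v := fun v hv d =>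
      Module.End.mem_eigenspace_iff.mp ((Submodule.mem_iInf _).mp hv d)
    have hwW : w ∈ W := (Submodule.mem_iInf _).mpr fun d => Module.End.mem_eigenspace_iff.mpr (hwl d)
    have hWS : ∀ s : S, ∀ v ∈ W, ρ (s : G) v ∈ W := fun s v hv =>
      (Submodule.mem_iInf _).mpr fun d => Module.End.mem_eigenspace_iff.mpr (by
        rw [← Module.End.mul_apply, ← map_mul, ← hDcen d d.2 s s.2, map_mul, Module.End.mul_apply,
          hW v hv d, map_smul])
    choose g hg using fun c : β.range => c.2
    have := Fintype.ofFinite β.range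
    have hli : LinearIndependent ℂ fun c : β.range => (ρ (g c : G)).comp W.subtype := by
      refine linearIndependent_of_twist
        (fun c : β.range => (Units.coeHom ℂ).comp (c : S →* ℂˣ))
        (fun c c' e => Subtype.ext (MonoidHom.ext fun s => Units.ext (DFunLike.congr_fun e s))) _
        (fun c e => ?_) ?_
      · have h1 : ρ (g c : G) w = 0 := LinearMap.congr_fun e ⟨w, hwW⟩
        exact hw (by rw [← ρ.inv_self_apply (g c : G) w, h1, map_zero])
      · intro a ha s
        refine LinearMap.ext fun v => ?_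
        have hscale : ∀ c : β.range, ρ ((s : G))⁻¹ (ρ (g c : G) (ρ (s : G) v)) =
            ((c : S →* ℂˣ) s : ℂ) • ρ (g c : G) v := by
          intro c
          have hd : ⁅(g c : G), (s : G)⁆ ∈ D := hcm _ (g c).2 _ s.2
          have e1 : ((s : G))⁻¹ * ((g c : G) * (s : G)) = (g c : G) * ⁅(g c : G), (s : G)⁆ := by
            calc ((s : G))⁻¹ * ((g c : G) * (s : G))
                = (s : G)⁻¹ * ⁅(g c : G), (s : G)⁆ * (s : G) * (g c : G) := by
                  simp [commutatorElement_def, mul_assoc]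
              _ = ⁅(g c : G), (s : G)⁆ * (g c : G) := by
                  rw [mul_assoc _ _ (s : G), ← hDcen _ hd _ s.2, inv_mul_cancel_left]
              _ = _ := (hDcen _ hd _ (g c).2).symm
          rw [← Module.End.mul_apply (ρ (g c : G)), ← map_mul, ← Module.End.mul_apply, ← map_mul, e1,
            map_mul, Module.End.mul_apply, hW v v.2 ⟨_, hd⟩, map_smul]
          congr 1
          exact (congrArg (fun e : S →* ℂˣ => (e s : ℂ)) (hg c) :)
        have h1 := congrArg (ρ ((s : G))⁻¹) (LinearMap.congr_fun ha ⟨ρ (s : G) v, hWS s v v.2⟩)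
        simp only [LinearMap.zero_apply, map_zero, LinearMap.sum_apply, map_sum, LinearMap.smul_apply,
          LinearMap.comp_apply, Submodule.subtype_apply, map_smul, hscale, smul_smul] at h1
        simpa only [LinearMap.zero_apply, LinearMap.sum_apply, LinearMap.smul_apply,
          LinearMap.comp_apply, Submodule.subtype_apply, MonoidHom.comp_apply, Units.coeHom_apply] using h1
    have hrk : Module.finrank ℂ (W →ₗ[ℂ] (Fin n → ℂ)) ≤ n ^ 2 := by
      rw [Module.finrank_linearMap, hfr, sq]
      exact Nat.mul_le_mul_right _ (W.finrank_le.trans hfr.le)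
    have h1 := hli.fintype_card_le_finrank
    rw [← Nat.card_eq_fintype_card] at h1
    omega

end Cfsg.Agent.Core
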