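import Cfsg.Agent.Core.SystemNormalizer
import Cfsg.Agent.Core.Frattini
import Cfsg.Agent.Core.Solvable

/-!
Carter subgroups of finite solvable groups and their relation to system normalizers.
-/

set_option autoImplicit false

namespace Cfsg.Agent.Core

open Subgroup
open scoped Pointwise

universe u

section

variable {G : Type u} [Group G] [Finite G]

theorem isCarter_top [Group.IsNilpotent G] : IsCarterSubgroup (⊤ : Subgroup G) :=
  ⟨Group.isNilpotent_top.mpr ‹_›, top_le_iff.mp le_normalizer⟩

theorem eq_top_of_normalizer_eq [Group.IsNilpotent G] {H : Subgroup G}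
    (h : normalizer (H : Set G) = H) : H = ⊤ := by
  by_contra hne
  exact (Group.normalizerCondition_of_isNilpotent (G := G) H (lt_top_iff_ne_top.mpr hne)).ne h.symm

/-- A nilpotent self-normalizing subgroup is not properly contained in a nilpotent subgroup. -/
theorem eq_of_le_of_isNilpotent {C D : Subgroup G} (hC : normalizer (C : Set G) = C)
    (hD : Group.IsNilpotent D) (h : C ≤ D) : C = D := by
  refine le_antisymm h ?_
  rw [← subgroupOf_eq_top]
  refine eq_top_of_normalizer_eq ?_
  rw [← subgroupOf_normalizer_eq h, hC]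

theorem isCarter_conj {C : Subgroup G} (h : IsCarterSubgroup C) (g : G) :
    IsCarterSubgroup (MulAut.conj g • C) := by
  refine ⟨?_, ?_⟩
  · rw [Coprime.conj_smul_eq_map]; exact isNilpotent_map h.1 _
  · refine le_antisymm (fun x hx => ?_) le_normalizer
    have h1 := Coprime.conj_smul_eq_self_of_mem_normalizer hx
    have h2 : MulAut.conj (g⁻¹ * x * g) • C = C := by
      rw [Coprime.conj_mul_smul, Coprime.conj_mul_smul, h1, map_inv, inv_smul_smul]
    rw [Coprime.mem_conj_smul, ← h.2]
    exact Coprime.mem_normalizer_of_conj_smul_eq h2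

theorem isCarter_subgroupOf {C L : Subgroup G} (h : IsCarterSubgroup C) (hle : C ≤ L) :
    IsCarterSubgroup (C.subgroupOf L) := by
  refine ⟨Group.isNilpotent_congr (subgroupOfEquivOfLe hle) |>.mpr h.1, ?_⟩
  rw [← subgroupOf_normalizer_eq hle, h.2]

theorem isCarter_of_subgroupOf {C L : Subgroup G} (hle : C ≤ L)
    (h : IsCarterSubgroup (C.subgroupOf L)) (hN : normalizer (C : Set G) ≤ L) :
    IsCarterSubgroup C := by
  refine ⟨Group.isNilpotent_congr (subgroupOfEquivOfLe hle) |>.mp h.1, le_antisymm ?_ le_normalizer⟩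
  intro x hx
  have h1 := h.2
  rw [← subgroupOf_normalizer_eq hle] at h1
  exact (SetLike.ext_iff.mp h1 ⟨x, hN hx⟩).mp hx

/-- Nilpotent Hall subgroups: a Hall subgroup of a nilpotent group is normal. -/
theorem hall_normal_of_isNilpotent [Group.IsNilpotent G] {H : Subgroup G}
    (hH : (Nat.card H).Coprime H.index) : H.Normal := by
  refine normalizer_eq_top_iff.mp ?_
  by_contra hne
  obtain ⟨g, hg, hgn⟩ := SetLike.exists_of_lt
    (Group.normalizerCondition_of_isNilpotent (G := G) _ (lt_top_iff_ne_top.mpr hne))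
  refine hgn (Coprime.mem_normalizer_of_conj_smul_eq ?_)
  set N := normalizer (H : Set G) with hN
  have hHN : H ≤ N := le_normalizer
  have hle : MulAut.conj g • H ≤ N := Coprime.conj_smul_le_self hg hHN
  have : (H.subgroupOf N).Normal := normal_subgroupOf_of_le_normalizer le_rfl
  have h1 : (MulAut.conj g • H : Subgroup G).subgroupOf N = H.subgroupOf N := by
    refine eq_of_card_eq_of_coprime ?_ ?_
    · rw [Coprime.card_subgroupOf hHN]
      exact hH.coprime_dvd_right (relIndex_dvd_index_of_le hHN)
    · rw [Coprime.card_subgroupOf hHN, Coprime.card_subgroupOf hle, Coprime.card_conj_smul]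
  have h2 := congrArg (Subgroup.map N.subtype) h1
  rwa [map_subgroupOf_eq_of_le hle, map_subgroupOf_eq_of_le hHN] at h2

theorem eq_top_of_isNilpotent_sup {N : Subgroup G} [N.Normal] {C : Subgroup G}
    (hN : Group.IsNilpotent (G ⧸ N))
    (h : normalizer ((C.map (QuotientGroup.mk' N) : Subgroup (G ⧸ N)) : Set (G ⧸ N)) =
      C.map (QuotientGroup.mk' N)) : C ⊔ N = ⊤ := by
  have h1 := eq_top_of_normalizer_eq (G := G ⧸ N) h
  have h2 := congrArg (Subgroup.comap (QuotientGroup.mk' N)) h1
  rwa [comap_map_eq, QuotientGroup.ker_mk', comap_top] at h2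

end

/-- A group with nilpotent quotients by two normal subgroups meeting trivially is nilpotent. -/
theorem isNilpotent_of_two_quotients {G : Type u} [Group G] {A B : Subgroup G} [A.Normal]
    [B.Normal] (hA : Group.IsNilpotent (G ⧸ A)) (hB : Group.IsNilpotent (G ⧸ B)) (h : A ⊓ B = ⊥) :
    Group.IsNilpotent G := by
  refine Subgroup.isNilpotent_of_ker_le_center
    ((QuotientGroup.mk' A).prod (QuotientGroup.mk' B)) ?_
  intro x hx
  have hx' := MonoidHom.mem_ker.mp hx
  have : x ∈ A ⊓ B := ⟨(QuotientGroup.eq_one_iff x).mp (congrArg Prod.fst hx'),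
    (QuotientGroup.eq_one_iff x).mp (congrArg Prod.snd hx')⟩
  rw [h, mem_bot] at this
  rw [this]; exact one_mem _

/-- In a solvable group that is not nilpotent, a complement of a minimal normal subgroup with
nilpotent quotient is a Carter subgroup. -/
theorem exists_complement_carter {G : Type u} [Group G] [Finite G] {N : Subgroup G}
    (hN : IsMinNormal N) [Group.IsSolvable N] (hq : haveI := hN.normal; Group.IsNilpotent (G ⧸ N))
    (hG : ¬ Group.IsNilpotent G) :
    ∃ M : Subgroup G, IsComplement' N M ∧ IsCoatom M ∧ IsCarterSubgroup M := by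
  have := hN.normal
  have := hN.isMulCommutative
  have hΦ : ¬ N ≤ frattini G := fun hle => hG (by
    have : Group.IsNilpotent (G ⧸ frattini G) :=
      nilpotent_of_surjective (QuotientGroup.map N (frattini G) (MonoidHom.id G) hle)
        (QuotientGroup.map_surjective_of_surjective N (frattini G) (MonoidHom.id G)
          ((QuotientGroup.mk'_surjective (frattini G)).comp Function.surjective_id) hle)
    exact isNilpotent_of_quotient_frattini this)
  obtain ⟨M, hc⟩ := exists_isComplement'_of_inf_frattini (A := N)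
    ((hN.le_or_inf_eq_bot (frattini G)).resolve_left hΦ)
  have hMne : M ≠ ⊤ := fun e => hN.ne_bot (isComplement'_top_right.mp (e ▸ hc))
  have hMc : IsCoatom M := by
    refine ⟨hMne, fun L hL => ?_⟩
    have hsup : L ⊔ N = ⊤ := top_le_iff.mp (hc.sup_eq_top.ge.trans
      (sup_le le_sup_right (hL.le.trans le_sup_left)))
    rcases hN.eq_of_le (N ⊓ L) (inf_comm L N ▸ inf_normal_of_sup_eq_top hsup) inf_le_left with e | e
    · exfalso
      refine hL.ne (eq_of_le_of_card_ge hL.le ?_)
      have h1 := card_sup_of_inf_eq_bot (H := L) (N := N) (inf_comm L N ▸ e)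
      rw [hsup, card_top, ← hc.card_mul_card, mul_comm] at h1
      exact (Nat.eq_of_mul_eq_mul_right Nat.card_pos h1.symm).le
    · exact top_le_iff.mp (hsup.ge.trans (sup_le le_rfl (inf_eq_left.mp e)))
  have hMnil : Group.IsNilpotent M :=
    Subgroup.isNilpotent_of_ker_le_center ((QuotientGroup.mk' N).comp M.subtype) (fun x hx => by
      have hxN : (x : G) ∈ N ⊓ M := ⟨(QuotientGroup.eq_one_iff (x : G)).mp hx, x.2⟩
      rw [hc.disjoint.eq_bot, mem_bot] at hxN
      rw [show x = 1 from Subtype.ext hxN]; exact one_mem _)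
  refine ⟨M, hc, hMc, hMnil, (hMc.le_iff.mp le_normalizer).resolve_left fun e => hG ?_⟩
  have : M.Normal := normalizer_eq_top_iff.mp e
  refine isNilpotent_of_two_quotients hq ?_ hc.disjoint.eq_bot
  have : Group.IsNilpotent N := open scoped IsMulCommutative in CommGroup.isNilpotent
  exact nilpotent_of_surjective ((QuotientGroup.mk' M).comp N.subtype) (fun x => by
    obtain ⟨g, rfl⟩ := QuotientGroup.mk'_surjective M x
    obtain ⟨n, hn, m, hm, rfl⟩ := (mem_sup_of_normal_right (s := N) (t := M)).mp
      (hc.sup_eq_top ▸ mem_top g)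
    refine ⟨⟨n, hn⟩, ?_⟩
    rw [map_mul, show QuotientGroup.mk' M m = 1 from (QuotientGroup.eq_one_iff m).mpr hm, mul_one]
    rfl)

/-- Conjugacy of Carter subgroups, as a property of the group. -/
def CarterConj (G : Type u) [Group G] : Prop :=
  ∀ C D : Subgroup G, IsCarterSubgroup C → IsCarterSubgroup D → ∃ g : G, MulAut.conj g • C = D

theorem carter_map_aux {G : Type u} [Group G] [Finite G] {G' : Type u} [Group G'] {f : G →* G'}
    (hf : Function.Surjective f) {C : Subgroup G} (hC : IsCarterSubgroup C)
    (h : CarterConj ((C.map f).comap f)) : IsCarterSubgroup (C.map f) := by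
  refine ⟨isNilpotent_map hC.1 f, le_antisymm (fun y hy => ?_) le_normalizer⟩
  obtain ⟨x, rfl⟩ := hf y
  set L := (C.map f).comap f with hL
  have hCL : C ≤ L := le_comap_map f C
  have hxL : x ∈ normalizer (L : Set G) := by
    rw [hL, ← comap_normalizer_eq_of_surjective _ hf]
    exact hy
  have hle : MulAut.conj x • C ≤ L := Coprime.conj_smul_le_self hxL hCL
  obtain ⟨l, hl⟩ := h _ _ (isCarter_subgroupOf (isCarter_conj hC x) hle) (isCarter_subgroupOf hC hCL)
  have h1 := congrArg (Subgroup.map L.subtype) hl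
  rw [Coprime.conj_smul_map_subtype, map_subgroupOf_eq_of_le hle, map_subgroupOf_eq_of_le hCL,
    ← Coprime.conj_mul_smul] at h1
  have h2 : (l : G) * x ∈ C := by rw [← hC.2]; exact Coprime.mem_normalizer_of_conj_smul_eq h1
  have h3 : x ∈ L := by
    have := L.mul_mem (L.inv_mem l.2) (hCL h2)
    rwa [inv_mul_cancel_left] at this
  exact h3

theorem carterConj : ∀ (n : ℕ) (G : Type u) [Group G] [Finite G] [Group.IsSolvable G],
    Nat.card G = n → CarterConj G := by
  intro n
  induction n using Nat.strong_induction_on with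
  | _ n ih =>
    intro G _ _ _ hn C D hC hD
    by_cases hG : Group.IsNilpotent G
    · refine ⟨1, ?_⟩
      rw [map_one, one_smul, eq_top_of_normalizer_eq hC.2, eq_top_of_normalizer_eq hD.2]
    have : Nontrivial G := not_subsingleton_iff_nontrivial.mp fun h => hG inferInstance
    obtain ⟨N, hN⟩ := exists_isMinNormal (G := G)
    have := hN.normal
    set f := QuotientGroup.mk' N with hf
    have hfs : Function.Surjective f := QuotientGroup.mk'_surjective N
    have hcomap : ∀ C : Subgroup G, (C.map f).comap f = C ⊔ N := fun C => by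
      rw [comap_map_eq, hf, QuotientGroup.ker_mk']
    -- images are Carter subgroups
    have himg : ∀ C : Subgroup G, IsCarterSubgroup C → IsCarterSubgroup (C.map f) := by
      intro C hC
      by_cases ht : (C.map f).comap f = ⊤
      · have h1 : C.map f = ⊤ := by
          rw [← map_comap_eq_self_of_surjective hfs (C.map f), ht, map_top_of_surjective f hfs]
        rw [h1]
        have : Group.IsNilpotent (G ⧸ N) := Group.isNilpotent_top.mp (h1 ▸ isNilpotent_map hC.1 f)
        exact isCarter_top
      · exact carter_map_aux hfs hC (ih _ (hn ▸ card_lt_of_ne_top ht) _ rfl)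
    obtain ⟨g, hg⟩ := ih _ (hn ▸ card_quotient_lt hN.ne_bot) (G ⧸ N) rfl _ _ (himg C hC) (himg D hD)
    obtain ⟨g, rfl⟩ := hfs g
    rw [← Coprime.map_conj_smul] at hg
    have hC' := isCarter_conj hC g
    suffices h : ∃ a : G, MulAut.conj a • (MulAut.conj g • C) = D by
      obtain ⟨a, ha⟩ := h
      exact ⟨a * g, by rw [Coprime.conj_mul_smul, ha]⟩
    generalize MulAut.conj g • C = C' at hg hC'
    clear hC
    have heq : C' ⊔ N = D ⊔ N := by rw [← hcomap, ← hcomap, hg]
    by_cases ht : D ⊔ N = ⊤
    swap
    · have hC1 : C' ≤ D ⊔ N := heq ▸ le_sup_left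
      obtain ⟨a, ha⟩ := ih _ (hn ▸ card_lt_of_ne_top ht) (D ⊔ N : Subgroup G) rfl _ _
        (isCarter_subgroupOf hC' hC1) (isCarter_subgroupOf hD le_sup_left)
      refine ⟨a, ?_⟩
      have h1 := congrArg (Subgroup.map (D ⊔ N).subtype) ha
      rwa [Coprime.conj_smul_map_subtype, map_subgroupOf_eq_of_le hC1,
        map_subgroupOf_eq_of_le le_sup_left] at h1
    rw [ht] at heq
    have hDq : Group.IsNilpotent (G ⧸ N) := by
      have h1 : D.map f = ⊤ := by
        rw [← map_comap_eq_self_of_surjective hfs (D.map f), hcomap, ht, map_top_of_surjective f hfs]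
      exact Group.isNilpotent_top.mp (h1 ▸ isNilpotent_map hD.1 f)
    have := hN.isMulCommutative
    obtain ⟨p, hp, hNp, -⟩ := hN.exists_isPGroup
    have := Fact.mk hp
    obtain ⟨a, ha⟩ := IsPGroup.iff_card.mp hNp
    -- `C'` and `D` are complements of `N`
    have hint : ∀ C : Subgroup G, IsCarterSubgroup C → C ⊔ N = ⊤ →
        C ⊓ N = ⊥ ∧ Nat.card C * Nat.card N = Nat.card G ∧ IsCoatom C := by
      intro C hC hsup
      have hb : C ⊓ N = ⊥ := by
        rcases hN.eq_of_le (C ⊓ N) (inf_normal_of_sup_eq_top hsup) inf_le_right with e | e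
        · exact e
        · have : C = ⊤ := top_le_iff.mp (hsup.ge.trans (sup_le le_rfl (inf_eq_right.mp e)))
          exact absurd (Group.isNilpotent_top.mp (this ▸ hC.1)) hG
      have hcard := card_sup_of_inf_eq_bot (H := C) (N := N) hb
      rw [hsup, card_top] at hcard
      refine ⟨hb, hcard.symm, fun e => hG (Group.isNilpotent_top.mp (e ▸ hC.1)), fun L hL => ?_⟩
      have hLsup : L ⊔ N = ⊤ := top_le_iff.mp (hsup.ge.trans (sup_le_sup_right hL.le N))
      rcases hN.eq_of_le (L ⊓ N) (inf_normal_of_sup_eq_top hLsup) inf_le_right with e | e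
      · exfalso
        refine hL.ne (eq_of_le_of_card_ge hL.le ?_)
        have h1 := card_sup_of_inf_eq_bot (H := L) (N := N) e
        rw [hLsup, card_top, hcard] at h1
        exact (Nat.eq_of_mul_eq_mul_right Nat.card_pos h1.symm).le
      · exact top_le_iff.mp (hLsup.ge.trans (sup_le le_rfl (inf_eq_right.mp e)))
    obtain ⟨hCb, hCc, hCm⟩ := hint C' hC' heq
    obtain ⟨hDb, hDc, hDm⟩ := hint D hD ht
    -- a complement of the prime `p` in each
    have hcardeq : Nat.card C' = Nat.card D := Nat.eq_of_mul_eq_mul_right Nat.card_pos (hCc.trans hDc.symm)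
    have hex : ∀ C : Subgroup G, IsCarterSubgroup C → ∃ H : Subgroup G, H ≤ C ∧
        Nat.card H = ordCompl[p] (Nat.card C) ∧ C ≤ normalizer (H : Set G) := by
      intro C hC
      have := hC.1
      obtain ⟨H, hH⟩ := exists_hall (G := C) (m := ordCompl[p] (Nat.card C))
        (n := p ^ (Nat.card C).factorization p) (by rw [mul_comm, Nat.ordProj_mul_ordCompl_eq_self])
        ((Nat.coprime_ordCompl hp Nat.card_pos.ne').symm.pow_right _)
      refine ⟨H.map C.subtype, map_subtype_le H, by rw [card_map_of_injective C.subtype_injective, hH], ?_⟩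
      have hn : H.Normal := hall_normal_of_isNilpotent (by
        have hi : H.index = p ^ (Nat.card C).factorization p := by
          refine Nat.eq_of_mul_eq_mul_left (Nat.card_pos (α := H)) ?_
          rw [H.card_mul_index, hH, mul_comm, Nat.ordProj_mul_ordCompl_eq_self]
        rw [hi, hH]
        exact (Nat.coprime_ordCompl hp Nat.card_pos.ne').symm.pow_right _)
      intro c hc
      have h1 := hn.conj_mem
      refine Coprime.mem_normalizer_of_conj_smul_eq (Subgroup.ext fun z => ?_)
      rw [Coprime.mem_conj_smul]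
      constructor
      · rintro ⟨w, hw, e⟩
        refine ⟨⟨c, hc⟩ * w * ⟨c, hc⟩⁻¹, h1 w hw _, ?_⟩
        rw [map_mul, map_mul, map_inv]
        show c * C.subtype w * c⁻¹ = z
        rw [e]; group
      · rintro ⟨w, hw, rfl⟩
        refine ⟨⟨c, hc⟩⁻¹ * w * ⟨c, hc⟩, ?_, by simp⟩
        have := h1 w hw (⟨c, hc⟩⁻¹)
        rwa [inv_inv] at this
    obtain ⟨H₁, hH₁C, hH₁, hH₁N⟩ := hex C' hC'
    obtain ⟨H₂, hH₂D, hH₂, hH₂N⟩ := hex D hD
    have hGcard : Nat.card G = ordCompl[p] (Nat.card D) * (p ^ (Nat.card D).factorization p * p ^ a) := by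
      rw [← hDc, ha, ← mul_assoc, mul_comm (ordCompl[p] _), Nat.ordProj_mul_ordCompl_eq_self]
    obtain ⟨b, hb⟩ := exists_conj_hall hGcard
      (by rw [← pow_add]; exact (Nat.coprime_ordCompl hp Nat.card_pos.ne').symm.pow_right _)
      (H := H₁) (K := H₂) (by rw [hH₁, hcardeq]) hH₂
    refine ⟨b, ?_⟩
    have hC'' := isCarter_conj hC' b
    have hle1 : MulAut.conj b • C' ≤ normalizer (H₂ : Set G) := by
      intro x hx
      rw [Coprime.mem_conj_smul] at hx
      refine Coprime.mem_normalizer_of_conj_smul_eq ?_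
      have h1 := Coprime.conj_smul_eq_self_of_mem_normalizer (hH₁N hx)
      conv_lhs => rw [← hb, show x = b * (b⁻¹ * x * b) * b⁻¹ by group]
      rw [Coprime.conj_mul_smul, Coprime.conj_mul_smul, map_inv, inv_smul_smul, h1, hb]
    have hnt : normalizer (H₂ : Set G) ≠ ⊤ := by
      intro e
      have hn2 : H₂.Normal := normalizer_eq_top_iff.mp e
      apply hG
      refine isNilpotent_of_two_quotients (A := N) (B := H₂) hDq ?_ ?_
      · obtain ⟨k, hk⟩ : ∃ k, Nat.card (G ⧸ H₂) = p ^ k := by
          refine ⟨(Nat.card D).factorization p + a, ?_⟩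
          have h1 := H₂.card_mul_index
          rw [hH₂, hGcard, ← pow_add] at h1
          exact Nat.eq_of_mul_eq_mul_left (Nat.ordCompl_pos p Nat.card_pos.ne') h1
        exact (IsPGroup.of_card hk).isNilpotent
      · exact le_bot_iff.mp ((le_inf (inf_le_right.trans hH₂D) inf_le_left).trans hDb.le)
    rw [eq_comm, ← (hDm.le_iff.mp hH₂N).resolve_left hnt]
    exact eq_of_le_of_card_ge hle1 (by
      rw [(hDm.le_iff.mp hH₂N).resolve_left hnt, Coprime.card_conj_smul, hcardeq]) |>.symm

theorem carter_map {G : Type u} [Group G] [Finite G] [Group.IsSolvable G] {G' : Type u} [Group G']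
    {f : G →* G'} (hf : Function.Surjective f) {C : Subgroup G} (hC : IsCarterSubgroup C) :
    IsCarterSubgroup (C.map f) :=
  carter_map_aux hf hC (carterConj _ _ rfl)

/-- A Carter subgroup covers every nilpotent quotient. -/
theorem carter_map_eq_top {G : Type u} [Group G] [Finite G] [Group.IsSolvable G] {G' : Type u}
    [Group G'] [Group.IsNilpotent G'] {f : G →* G'} (hf : Function.Surjective f) {C : Subgroup G}
    (hC : IsCarterSubgroup C) : C.map f = ⊤ :=
  have := Finite.of_surjective f hf
  eq_top_of_normalizer_eq (carter_map hf hC).2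

/-- Carter subgroups of the preimage of a Carter subgroup of a quotient are Carter subgroups. -/
theorem carter_of_preimage {G : Type u} [Group G] [Finite G] [Group.IsSolvable G] {G' : Type u}
    [Group G'] {f : G →* G'} (hf : Function.Surjective f) {C₀ : Subgroup G'}
    (hC₀ : IsCarterSubgroup C₀) {C : Subgroup (C₀.comap f)} (hC : IsCarterSubgroup C) :
    IsCarterSubgroup (C.map (C₀.comap f).subtype) := by
  have := hC₀.1
  refine isCarter_of_subgroupOf (map_subtype_le C)
    (by rwa [subgroupOf, comap_map_eq_self_of_injective (C₀.comap f).subtype_injective]) ?_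
  have hsurj : Function.Surjective (f.subgroupComap C₀) := f.subgroupComap_surjective_of_surjective C₀ hf
  have h1 := congrArg (Subgroup.map C₀.subtype) (carter_map_eq_top hsurj hC)
  rw [← MonoidHom.range_eq_map, C₀.range_subtype, map_map] at h1
  have h2 : (C.map (C₀.comap f).subtype).map f = C₀ := by
    rw [map_map]; exact h1
  intro x hx
  have h3 := le_normalizer_map f (mem_map_of_mem f hx)
  rw [h2, hC₀.2] at h3
  exact h3

theorem exists_carter : ∀ (n : ℕ) (G : Type u) [Group G] [Finite G] [Group.IsSolvable G],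
    Nat.card G = n → ∃ C : Subgroup G, IsCarterSubgroup C := by
  intro n
  induction n using Nat.strong_induction_on with
  | _ n ih =>
    intro G _ _ _ hn
    by_cases hG : Group.IsNilpotent G
    · exact ⟨⊤, isCarter_top⟩
    have : Nontrivial G := not_subsingleton_iff_nontrivial.mp fun h => hG inferInstance
    obtain ⟨N, hN⟩ := exists_isMinNormal (G := G)
    have := hN.normal
    obtain ⟨C₀, hC₀⟩ := ih _ (hn ▸ card_quotient_lt hN.ne_bot) (G ⧸ N) rfl
    by_cases hLt : C₀.comap (QuotientGroup.mk' N) = ⊤
    · have hq : Group.IsNilpotent (G ⧸ N) := by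
        have h1 : C₀ = ⊤ := comap_injective (QuotientGroup.mk'_surjective N) (hLt.trans (comap_top _).symm)
        exact Group.isNilpotent_top.mp (h1 ▸ hC₀.1)
      obtain ⟨M, -, -, hM⟩ := exists_complement_carter hN hq hG
      exact ⟨M, hM⟩
    obtain ⟨C, hC⟩ := ih _ (hn ▸ card_lt_of_ne_top hLt) (C₀.comap (QuotientGroup.mk' N)) rfl
    exact ⟨_, carter_of_preimage (QuotientGroup.mk'_surjective N) hC₀ hC⟩

end Cfsg.Agent.Core
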