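import Cfsg.Agent.Core.KegelWielandt
import Cfsg.Agent.Core.Carter
import Cfsg.Agent.S0560

/-!
Products of two nilpotent subgroups (Kegel–Wielandt) and permutability of Hall subgroups of
factors of a solvable group.
-/

set_option autoImplicit false

namespace Cfsg.Agent.Core

open Subgroup
open scoped Pointwise

universe u

variable {G : Type u} [Group G]

/-- All pairs of conjugates of subgroups normalised by the two factors are conjugate. -/
theorem pair_conj {A B X Y : Subgroup G} (h : ∀ g : G, ∃ a ∈ A, ∃ b ∈ B, g = a * b)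
    (hX : A ≤ normalizer (X : Set G)) (hY : B ≤ normalizer (Y : Set G)) (g k : G) :
    ∃ t : G, MulAut.conj t • X = MulAut.conj g • X ∧ MulAut.conj t • Y = MulAut.conj k • Y := by
  obtain ⟨a, ha, b, hb, e⟩ := h (g⁻¹ * k)
  refine ⟨g * a, ?_, ?_⟩
  · rw [Coprime.conj_mul_smul, Coprime.conj_smul_eq_self_of_mem_normalizer (hX ha)]
  · have h1 : g * a = k * b⁻¹ := by
      rw [show k = g * (a * b) by rw [← e, mul_inv_cancel_left]]; group
    rw [h1, Coprime.conj_mul_smul, Coprime.conj_smul_eq_self_of_mem_normalizer (hY (inv_mem hb))]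

theorem permutes_conj_pair [Finite G] {A B X Y : Subgroup G} (h : ∀ g : G, ∃ a ∈ A, ∃ b ∈ B, g = a * b)
    (hX : A ≤ normalizer (X : Set G)) (hY : B ≤ normalizer (Y : Set G)) {g k : G}
    (hp : Permutes (MulAut.conj g • X) (MulAut.conj k • Y)) (x y : G) :
    Permutes (MulAut.conj x • X) (MulAut.conj y • Y) := by
  obtain ⟨t, ht1, ht2⟩ := pair_conj h hX hY g k
  obtain ⟨u, hu1, hu2⟩ := pair_conj h hX hY x y
  have := KW.conj_permutes hp (u * t⁻¹)
  rwa [← ht1, ← ht2, ← Coprime.conj_mul_smul, ← Coprime.conj_mul_smul, inv_mul_cancel_right, hu1, hu2] at this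

/-- In a solvable product, normal Hall subgroups of the factors permute with all their conjugates. -/
theorem hall_factors_permute [Finite G] [Group.IsSolvable G] {H K A B : Subgroup G}
    (hHK : ∀ g : G, ∃ h ∈ H, ∃ k ∈ K, g = h * k) (hA : H ≤ normalizer (A : Set G))
    (hB : K ≤ normalizer (B : Set G)) (hAh : (Nat.card A).Coprime A.index)
    (hBh : (Nat.card B).Coprime B.index) (x y : G) :
    Permutes (MulAut.conj x • A) (MulAut.conj y • B) := by
  set m := Nat.lcm (Nat.card A) (Nat.card B) with hm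
  obtain ⟨n, hn⟩ : m ∣ Nat.card G :=
    Nat.lcm_dvd (card_subgroup_dvd_card A) (card_subgroup_dvd_card B)
  have hmn : m.Coprime n := by
    refine Nat.coprime_of_dvd' fun r hr hrm hrn => absurd hrn fun hrn => ?_
    have key : ∀ C : Subgroup G, Nat.card C ∣ m → (Nat.card C).Coprime C.index → ¬ r ∣ Nat.card C :=
      fun C hC hCh hrC => by
        obtain ⟨c, hc⟩ := hC
        have h1 : C.index = c * n := Nat.eq_of_mul_eq_mul_left (Nat.card_pos (α := C))
          (by rw [card_mul_index, hn, hc, mul_assoc])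
        exact hr.ne_one (Nat.eq_one_of_dvd_coprimes hCh hrC (h1 ▸ hrn.mul_left c))
    rcases (Nat.Prime.dvd_mul hr).mp (hrm.trans (Nat.lcm_dvd_mul _ _)) with h | h
    · exact key A (Nat.dvd_lcm_left _ _) hAh h
    · exact key B (Nat.dvd_lcm_right _ _) hBh h
  have hdA : (Nat.card A).Coprime n := hmn.coprime_dvd_left (Nat.dvd_lcm_left _ _)
  have hdB : (Nat.card B).Coprime n := hmn.coprime_dvd_left (Nat.dvd_lcm_right _ _)
  obtain ⟨U, hU⟩ := exists_hall hn hmn
  obtain ⟨g, hg⟩ := exists_le_conj_hall hn hmn hU hdA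
  obtain ⟨k, hk⟩ := exists_le_conj_hall hn hmn hU hdB
  rw [subset_pointwise_smul_iff, ← map_inv] at hg hk
  refine permutes_conj_pair hHK hA hB (g := g⁻¹) (k := k⁻¹) ?_ x y
  refine permutes_of_subgroup (S := U) (Set.eq_of_subset_of_ncard_le ?_ ?_ (Set.toFinite _)).symm
  · rintro _ ⟨a, ha, b, hb, rfl⟩
    exact mul_mem (hg ha) (hk hb)
  · rw [← Nat.card_coe_set_eq, ← Nat.card_coe_set_eq]
    refine le_trans (le_of_eq hU) (Nat.le_of_mul_le_mul_right ?_
      (Nat.gcd_pos_of_pos_left (Nat.card B) (Nat.card_pos (α := A))))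
    have h1 := CentLarge.card_mul_card_inf (MulAut.conj g⁻¹ • A) (MulAut.conj k⁻¹ • B)
    rw [Coprime.card_conj_smul, Coprime.card_conj_smul] at h1
    rw [hm, mul_comm (Nat.lcm _ _), Nat.gcd_mul_lcm, ← h1]
    refine Nat.mul_le_mul_left _ (Nat.le_of_dvd (Nat.gcd_pos_of_pos_left _ Nat.card_pos) ?_)
    refine Nat.dvd_gcd ?_ ?_
    · exact Coprime.card_conj_smul g⁻¹ A ▸ card_dvd_of_le inf_le_left
    · exact Coprime.card_conj_smul k⁻¹ B ▸ card_dvd_of_le inf_le_right

theorem isPGroup_sup_of_permutes [Finite G] {p : ℕ} [Fact p.Prime] {X Y : Subgroup G}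
    (hX : IsPGroup p X) (hY : IsPGroup p Y) (h : Permutes X Y) : IsPGroup p (X ⊔ Y : Subgroup G) := by
  obtain ⟨a, ha⟩ := IsPGroup.iff_card.mp hX
  obtain ⟨b, hb⟩ := IsPGroup.iff_card.mp hY
  have h1 := CentLarge.card_mul_card_inf X Y
  rw [← h.coe_sup, ha, hb, ← pow_add] at h1
  obtain ⟨c, -, hc⟩ := (Nat.dvd_prime_pow Fact.out).mp (Dvd.intro _ h1 :
    Nat.card (X ⊔ Y : Subgroup G) ∣ p ^ (a + b))
  exact IsPGroup.of_card hc

theorem kegel_wielandt_aux : ∀ (n : ℕ) (G : Type u) [Group G] [Finite G], Nat.card G = n →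
    ∀ A B : Subgroup G, Group.IsNilpotent A → Group.IsNilpotent B →
      (∀ g : G, ∃ a ∈ A, ∃ b ∈ B, g = a * b) → Group.IsSolvable G := by
  intro n
  induction n using Nat.strong_induction_on with
  | _ n ih =>
    intro G _ _ hn A B hA hB hmul
    by_contra hns
    have hquot : ∀ N : Subgroup G, [N.Normal] → N ≠ ⊥ → Group.IsSolvable (G ⧸ N) := fun N _ hN =>
      ih _ (hn ▸ card_quotient_lt hN) (G ⧸ N) rfl _ _ (isNilpotent_map hA (QuotientGroup.mk' N))
        (isNilpotent_map hB _) (exists_mul_map hmul (QuotientGroup.mk'_surjective N))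
    have hnosolv : ∀ N : Subgroup G, N.Normal → Group.IsSolvable N → N = ⊥ := fun N hN hs => by
      by_contra hne
      exact hns (by rw [Group.isSolvable_iff_subgroup_quotient N]; exact ⟨hs, hquot N hne⟩)
    by_cases hcop : (Nat.card A).Coprime (Nat.card B)
    · exact hns (isSolvable_of_coprime_nilpotent_product hA hB hcop hmul)
    obtain ⟨p, hp, hpA, hpB⟩ := Nat.Prime.not_coprime_iff_dvd.mp hcop
    have := Fact.mk hp
    obtain ⟨P, Q, R, hR⟩ := S0560.result A B hmul p
    set P' := (P : Subgroup A).map A.subtype with hP'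
    set Q' := (Q : Subgroup B).map B.subtype with hQ'
    have hP'b : P' ≠ ⊥ := fun e =>
      P.ne_bot_of_dvd_card hpA ((map_eq_bot_iff_of_injective _ A.subtype_injective).mp e)
    have hQ'b : Q' ≠ ⊥ := fun e =>
      Q.ne_bot_of_dvd_card hpB ((map_eq_bot_iff_of_injective _ B.subtype_injective).mp e)
    have hnA : A ≤ normalizer (P' : Set G) := by
      have := hA
      have h1 := le_normalizer_map (H := (P : Subgroup A)) A.subtype
      rwa [normalizer_eq_top_iff.mpr inferInstance, ← MonoidHom.range_eq_map, A.range_subtype] at h1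
    have hnB : B ≤ normalizer (Q' : Set G) := by
      have := hB
      have h1 := le_normalizer_map (H := (Q : Subgroup B)) B.subtype
      rwa [normalizer_eq_top_iff.mpr inferInstance, ← MonoidHom.range_eq_map, B.range_subtype] at h1
    have hperm : ∀ z : G, Permutes P' (MulAut.conj z • Q') := fun z => by
      have h1 := permutes_conj_pair hmul hnA hnB (g := 1) (k := 1)
        (by rw [map_one, one_smul, one_smul]; exact permutes_of_subgroup hR) 1 z
      rwa [map_one, one_smul] at h1
    let S : Set (Subgroup G) :=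
      {X | P' ≤ X ∧ IsPGroup p X ∧ ∀ z : G, Permutes X (MulAut.conj z • Q')}
    obtain ⟨X, ⟨hPX, hXp, hX⟩, hmax⟩ := (Set.toFinite S).exists_maximal
      ⟨P', le_rfl, P.isPGroup'.map _, hperm⟩
    have hQp : ∀ z : G, IsPGroup p (MulAut.conj z • Q' : Subgroup G) := fun z => by
      rw [Coprime.conj_smul_eq_map]; exact (Q.isPGroup'.map _).map _
    set V := normalClosure (Q' : Set G) with hV
    have hVN : V ≤ normalizer (X : Set G) := by
      rw [hV, normalClosure, closure_le]
      intro c hc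
      obtain ⟨b, hb, hcb⟩ := Group.mem_conjugatesOfSet_iff.mp hc
      obtain ⟨x, rfl⟩ := isConj_iff.mp hcb
      set y := x * b * x⁻¹
      have hy : y ∈ MulAut.conj x • Q' := Coprime.conj_mem_conj_smul hb
      refine Coprime.mem_normalizer_of_conj_smul_eq
        (eq_of_le_of_card_ge ?_ (Coprime.card_conj_smul y X).ge)
      refine le_sup_right.trans (hmax (y := X ⊔ MulAut.conj y • X) ⟨hPX.trans le_sup_left, ?_, fun z => ?_⟩
        le_sup_left)
      · refine (isPGroup_sup_of_permutes hXp (hQp x) (hX x)).to_le (sup_le le_sup_left fun w hw => ?_)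
        rw [Coprime.mem_conj_smul] at hw
        have h1 := mul_mem (mul_mem (mem_sup_right (S := X) hy)
          (mem_sup_left (T := MulAut.conj x • Q') hw)) (inv_mem (mem_sup_right (S := X) hy))
        simpa [mul_assoc] using h1
      · refine (hX z).sup ?_
        have h1 := KW.conj_permutes (hX (y⁻¹ * z)) y
        rwa [← Coprime.conj_mul_smul, mul_inv_cancel_left] at h1
    have hVb : V ≠ ⊥ := fun e => hQ'b (le_bot_iff.mp (e ▸ fun b hb => subset_normalClosure hb))
    -- `X` meets `V` trivially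
    have hXV : X ⊓ V = ⊥ := by
      have hn1 : ((X ⊓ V).subgroupOf V).Normal := by
        rw [inf_subgroupOf_right]; exact normal_subgroupOf_of_le_normalizer hVN
      have h1 := map_mono (f := V.subtype) (le_pCore (N := (X ⊓ V).subgroupOf V) (p := p) ((hXp.to_le inf_le_left).comap_subtype))
      rw [map_subgroupOf_eq_of_le inf_le_right, map_pCore_normal] at h1
      have h2 : pCore p G = ⊥ := hnosolv _ inferInstance (by
        have := (pCore_isPGroup (p := p) (G := G)).isNilpotent; infer_instance)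
      exact le_bot_iff.mp (h1.trans (inf_le_left.trans h2.le))
    have hVn : V.Normal := normalClosure_normal
    set U := normalClosure (P' : Set G) with hU
    have hUC : U ≤ centralizer (V : Set G) := by
      refine normalClosure_le_normal (fun a ha => mem_centralizer_iff.mpr fun v hv => ?_)
      have h1 : v * a * v⁻¹ * a⁻¹ ∈ X ⊓ V := by
        refine ⟨X.mul_mem ((mem_normalizer_iff.mp (hVN hv) a).mp (hPX ha)) (X.inv_mem (hPX ha)), ?_⟩
        rw [mul_assoc, mul_assoc, ← mul_assoc a]
        exact V.mul_mem hv (hVn.conj_mem _ (V.inv_mem hv) a)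
      rw [hXV, mem_bot, mul_inv_eq_one, mul_inv_eq_iff_eq_mul] at h1
      exact h1
    have hUb : U ≠ ⊥ := fun e => hP'b (le_bot_iff.mp (e ▸ fun a ha => subset_normalClosure ha))
    have hUV : U ⊓ V = ⊥ := hnosolv _ inferInstance (isSolvable_of_comm fun a b => Subtype.ext
      (mem_centralizer_iff.mp (hUC b.2.1) a a.2.2))
    have hUs : Group.IsSolvable (G ⧸ U) := hquot U hUb
    have hVs : Group.IsSolvable (G ⧸ V) := hquot V hVb
    refine hns (Group.isSolvable_of_isSolvable_injective
      (f := (QuotientGroup.mk' U).prod (QuotientGroup.mk' V)) ?_)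
    rw [← MonoidHom.ker_eq_bot_iff, MonoidHom.ker_prod, QuotientGroup.ker_mk', QuotientGroup.ker_mk', hUV]

/-- Kegel–Wielandt: a product of two nilpotent subgroups is solvable. -/
theorem kegel_wielandt {G : Type u} [Group G] [Finite G] {A B : Subgroup G}
    (hA : Group.IsNilpotent A) (hB : Group.IsNilpotent B)
    (hmul : ∀ g : G, ∃ a ∈ A, ∃ b ∈ B, g = a * b) : Group.IsSolvable G :=
  kegel_wielandt_aux _ G rfl A B hA hB hmul

theorem nilpotent_product_normal_aux : ∀ (n : ℕ) (G : Type u) [Group G] [Finite G], Nat.card G = n →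
    ∀ A B : Subgroup G, Group.IsNilpotent A → Group.IsNilpotent B →
      (∀ g : G, ∃ a ∈ A, ∃ b ∈ B, g = a * b) → (A ≠ ⊤ ∨ B ≠ ⊤) →
      ∃ N : Subgroup G, N.Normal ∧ N ≠ ⊤ ∧ (A ≤ N ∨ B ≤ N) := by
  intro n
  induction n using Nat.strong_induction_on with
  | _ n ih =>
    intro G _ _ hn A B hA hB hmul hne
    have hnil : Group.IsNilpotent G → ∀ C : Subgroup G, C ≠ ⊤ → ∃ N : Subgroup G, N.Normal ∧ N ≠ ⊤ ∧ C ≤ N :=
      fun _ C hC => by
        obtain h | ⟨M, hM, hCM⟩ := eq_top_or_exists_le_coatom C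
        · exact absurd h hC
        · exact ⟨M, NormalizerCondition.normal_of_coatom M Group.normalizerCondition_of_isNilpotent hM, hM.1, hCM⟩
    rcases eq_or_ne A ⊤ with hAt | hAt
    · have hG : Group.IsNilpotent G := Group.isNilpotent_top.mp (hAt ▸ hA)
      obtain ⟨N, h1, h2, h3⟩ := hnil hG B (hne.resolve_left (not_not_intro hAt))
      exact ⟨N, h1, h2, Or.inr h3⟩
    rcases eq_or_ne B ⊤ with hBt | hBt
    · have hG : Group.IsNilpotent G := Group.isNilpotent_top.mp (hBt ▸ hB)
      obtain ⟨N, h1, h2, h3⟩ := hnil hG A hAt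
      exact ⟨N, h1, h2, Or.inl h3⟩
    have : Group.IsSolvable G := kegel_wielandt hA hB hmul
    have : Nontrivial G := by
      by_contra hc
      have := not_nontrivial_iff_subsingleton.mp hc
      exact hAt (Subsingleton.elim _ _)
    obtain ⟨M, hM⟩ := exists_isMinNormal (G := G)
    have := hM.normal
    have : IsMulCommutative M := hM.isMulCommutative
    by_cases hsup : A ⊔ M ≠ ⊤ ∨ B ⊔ M ≠ ⊤
    · set f := QuotientGroup.mk' M with hf
      have hcm : ∀ C : Subgroup G, C.map f = ⊤ → C ⊔ M = ⊤ := fun C e => by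
        have := congrArg (comap f) e
        rwa [comap_map_eq, hf, QuotientGroup.ker_mk', comap_top] at this
      obtain ⟨N, h1, h2, h3⟩ := ih _ (hn ▸ card_quotient_lt hM.ne_bot) (G ⧸ M) rfl _ _
        (isNilpotent_map hA f) (isNilpotent_map hB f) (exists_mul_map hmul (QuotientGroup.mk'_surjective M))
        (hsup.imp (fun h e => h (hcm A e)) fun h e => h (hcm B e))
      refine ⟨N.comap f, inferInstance, fun e => h2 ?_, h3.imp map_le_iff_le_comap.mp map_le_iff_le_comap.mp⟩
      rw [← map_comap_eq_self_of_surjective (QuotientGroup.mk'_surjective M) N, ← hf, e,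
        map_top_of_surjective _ (QuotientGroup.mk'_surjective M)]
    push Not at hsup
    have key : ∀ C : Subgroup G, C ≠ ⊤ → C ⊔ M = ⊤ → IsCoatom C := fun C hC hCM => by
      refine ⟨hC, fun D hD => ?_⟩
      have hDM : D ⊔ M = ⊤ := top_le_iff.mp (hCM ▸ sup_le_sup_right hD.le M)
      rcases hM.eq_of_le (D ⊓ M) (inf_normal_of_sup_eq_top hDM) inf_le_right with h | h
      · refine absurd (fun d hd => ?_) hD.not_ge
        obtain ⟨c, hc, m, hm, e⟩ := mem_sup_of_normal_right.mp (hCM ▸ mem_top d)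
        have h1 : m ∈ D ⊓ M := ⟨by
          have := D.mul_mem (D.inv_mem (hD.le hc)) hd
          rwa [← e, inv_mul_cancel_left] at this, hm⟩
        rw [h, mem_bot] at h1
        rw [← e, h1, mul_one]; exact hc
      · exact top_le_iff.mp (hCM ▸ sup_le hD.le (inf_eq_right.mp h))
    have carter : ∀ C : Subgroup G, Group.IsNilpotent C → IsCoatom C → ¬ C.Normal → IsCarterSubgroup C :=
      fun C hC hCc hCn => ⟨hC, (hCc.le_iff.mp le_normalizer).resolve_left fun e => hCn (normalizer_eq_top_iff.mp e)⟩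
    by_cases hAn : A.Normal
    · exact ⟨A, hAn, hAt, Or.inl le_rfl⟩
    by_cases hBn : B.Normal
    · exact ⟨B, hBn, hBt, Or.inr le_rfl⟩
    obtain ⟨g, hg⟩ := carterConj _ G rfl A B (carter A hA (key A hAt hsup.1) hAn)
      (carter B hB (key B hBt hsup.2) hBn)
    obtain ⟨b, hb, a, ha, rfl⟩ := exists_mul_eq_swap hmul g
    rw [Coprime.conj_mul_smul, Coprime.conj_smul_eq_self_of_mem_normalizer (le_normalizer ha)] at hg
    have hAB : A = B := by
      have h1 := congrArg (fun S : Subgroup G => MulAut.conj b⁻¹ • S) hg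
      simp only [map_inv, inv_smul_smul] at h1
      rw [h1, ← map_inv, Coprime.conj_smul_eq_self_of_mem_normalizer (le_normalizer (inv_mem hb))]
    refine absurd (top_le_iff.mp fun x _ => ?_) hAt
    obtain ⟨a', ha', b', hb', rfl⟩ := hmul x
    exact mul_mem ha' (hAB.symm ▸ hb')

/-- A proper product of two nilpotent subgroups has a proper normal subgroup containing a factor. -/
theorem nilpotent_product_normal {G : Type u} [Group G] [Finite G] {A B : Subgroup G}
    (hA : Group.IsNilpotent A) (hB : Group.IsNilpotent B)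
    (hmul : ∀ g : G, ∃ a ∈ A, ∃ b ∈ B, g = a * b) (hne : A ≠ ⊤ ∨ B ≠ ⊤) :
    ∃ N : Subgroup G, N.Normal ∧ N ≠ ⊤ ∧ (A ≤ N ∨ B ≤ N) :=
  nilpotent_product_normal_aux _ G rfl A B hA hB hmul hne

end Cfsg.Agent.Core
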