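import Mathlib.FieldTheory.Finite.Basic
import Mathlib.Algebra.Module.ZMod
import Mathlib.LinearAlgebra.Eigenspace.Basic
import Cfsg.Agent.Core.Supersolvable
import Cfsg.Agent.Coprime.Basic

/-!
Huppert's theorem: a finite group whose maximal subgroups have prime index is supersolvable.
-/

set_option autoImplicit false

namespace Cfsg.Agent.Core

open Subgroup
open scoped Pointwise commutatorElement

universe u

variable {G : Type u} [Group G]

/-- An endomorphism `L` of a nonzero vector space over `ZMod p` with `L^p = L` has an eigenvector. -/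
theorem exists_eigenvector {M : Type*} [AddCommGroup M] [Nontrivial M] {p : ℕ} [Fact p.Prime]
    [Module (ZMod p) M] (L : Module.End (ZMod p) M) (hL : ∀ x, (L ^ p) x = L x) :
    ∃ w : M, w ≠ 0 ∧ ∃ a : ZMod p, L w = a • w := by
  classical
  have hzero : Polynomial.aeval L (Polynomial.X ^ p - Polynomial.X : Polynomial (ZMod p)) = 0 := by
    refine LinearMap.ext fun x => ?_
    rw [map_sub, map_pow, Polynomial.aeval_X, LinearMap.sub_apply, LinearMap.zero_apply, hL, sub_self]
  have hprod : (Polynomial.X ^ p - Polynomial.X : Polynomial (ZMod p)) =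
      ∏ a : ZMod p, (Polynomial.X - Polynomial.C a) := by
    have hroots := FiniteField.roots_X_pow_card_sub_X (ZMod p)
    rw [ZMod.card] at hroots
    have h := Polynomial.prod_multiset_X_sub_C_of_monic_of_roots_card_eq
      (p := (Polynomial.X ^ p - Polynomial.X : Polynomial (ZMod p)))
      (Polynomial.monic_X_pow_sub (Polynomial.degree_X_le.trans_lt
        (by exact_mod_cast (Fact.out : p.Prime).one_lt)))
      (by rw [hroots, FiniteField.X_pow_card_sub_X_natDegree_eq _ (Fact.out : p.Prime).one_lt]
          simp)
    rw [hroots] at h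
    exact h.symm
  have key : ∀ s : Finset (ZMod p), ∀ v : M, v ≠ 0 →
      Polynomial.aeval L (∏ a ∈ s, (Polynomial.X - Polynomial.C a)) v = 0 →
      ∃ w : M, w ≠ 0 ∧ ∃ a : ZMod p, L w = a • w := by
    intro s
    induction s using Finset.induction_on with
    | empty =>
      intro v hv h
      rw [Finset.prod_empty, map_one, Module.End.one_apply] at h
      exact absurd h hv
    | @insert a s ha ih =>
      intro v hv h
      rw [Finset.prod_insert ha, map_mul, Module.End.mul_apply] at h
      by_cases hw : Polynomial.aeval L (∏ a ∈ s, (Polynomial.X - Polynomial.C a)) v = 0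
      · exact ih v hv hw
      · refine ⟨_, hw, a, ?_⟩
        rw [map_sub, Polynomial.aeval_X, Polynomial.aeval_C, LinearMap.sub_apply, sub_eq_zero,
          Module.algebraMap_end_apply] at h
        exact h
  obtain ⟨v, hv⟩ := exists_ne (0 : M)
  exact key Finset.univ v hv (by rw [← hprod, hzero]; rfl)

/-- An endomorphism `T` of a nontrivial group of exponent `p` with `T^(p-1) = 1` sends some
nontrivial element to one of its powers. -/
theorem exists_map_eq_pow {N : Type*} [CommGroup N] [Nontrivial N] {p : ℕ} [Fact p.Prime]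
    (hN : ∀ x : N, x ^ p = 1) (T : N →* N) (hT : ∀ x, T^[p - 1] x = x) :
    ∃ v : N, v ≠ 1 ∧ ∃ a : ℕ, T v = v ^ a := by
  have hM : ∀ x : Additive N, p • x = 0 := fun x => by
    show (Additive.ofMul ((Additive.toMul x) ^ p) : Additive N) = Additive.ofMul 1
    rw [hN]
  obtain ⟨w, hw, a, ha⟩ := @exists_eigenvector (Additive N) _ _ p _ (AddCommGroup.zmodModule hM)
    (@AddMonoidHom.toZModLinearMap p _ _ _ _ (AddCommGroup.zmodModule hM) (AddCommGroup.zmodModule hM)
      T.toAdditive) (fun x => by
    let _ := AddCommGroup.zmodModule hM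
    rw [Module.End.pow_apply]
    have hp : p = (p - 1) + 1 := by have := (Fact.out : p.Prime).one_lt; omega
    show (⇑T.toAdditive)^[p] x = T.toAdditive x
    rw [hp, Function.iterate_succ_apply]
    exact hT (Additive.toMul (T.toAdditive x)))
  refine ⟨Additive.toMul w, fun h => hw (Additive.toMul.injective (h.trans toMul_zero.symm)),
    a.val, ?_⟩
  let _ := AddCommGroup.zmodModule hM
  rw [← ZMod.natCast_zmod_val a, Nat.cast_smul_eq_nsmul] at ha
  exact congrArg Additive.toMul ha

/-- The subgroup generated by all commutators and all `(p-1)`-th powers. -/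
def powCommutator (p : ℕ) (G : Type*) [Group G] : Subgroup G :=
  closure ({z | ∃ x y : G, ⁅x, y⁆ = z} ∪ {z | ∃ x : G, x ^ (p - 1) = z})

theorem map_powCommutator_le {G' : Type*} [Group G'] (p : ℕ) (f : G →* G') :
    (powCommutator p G).map f ≤ powCommutator p G' := by
  rw [powCommutator, MonoidHom.map_closure, closure_le]
  rintro _ ⟨z, (⟨x, y, rfl⟩ | ⟨x, rfl⟩), rfl⟩
  · exact subset_closure (Or.inl ⟨f x, f y, (map_commutatorElement f x y).symm⟩)
  · exact subset_closure (Or.inr ⟨f x, (map_pow f x _).symm⟩)

theorem powCommutator_le_centralizer [Finite G] {p : ℕ} [hp : Fact p.Prime] {N : Subgroup G}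
    [N.Normal] (hN : Nat.card N = p) : powCommutator p G ≤ centralizer (N : Set G) := by
  have hpr : (Nat.card N).Prime := hN ▸ hp.out
  refine (closure_le _).mpr ?_
  rintro _ (⟨x, y, rfl⟩ | ⟨x, rfl⟩)
  · exact commutatorElement_mem_centralizer_of_prime_card hpr x y
  have := isCyclic_of_card_prime hpr
  obtain ⟨a, ha⟩ := MonoidHom.map_cyclic (MulAut.conjNormal (H := N) x).toMonoidHom
  have hit : ∀ (k : ℕ) (n : N), MulAut.conjNormal (H := N) (x ^ k) n = n ^ (a ^ k : ℤ) := by
    intro k
    induction k with
    | zero => intro n; simp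
    | succ k ih =>
      intro n
      rw [pow_succ' x, map_mul, MulAut.mul_apply, ih]
      have := ha (n ^ (a ^ k : ℤ))
      simp only [MulEquiv.toMonoidHom_eq_coe, MonoidHom.coe_coe] at this
      rw [this, ← zpow_mul, pow_succ]
  intro n hn
  by_cases hn1 : n = 1
  · simp [hn1]
  have hnN : (⟨n, hn⟩ : N) ≠ 1 := fun h => hn1 (congrArg Subtype.val h)
  have hane : ¬ (p : ℤ) ∣ a := by
    intro hd
    refine hnN ((MulAut.conjNormal (H := N) x).injective ?_)
    have := ha ⟨n, hn⟩
    simp only [MulEquiv.toMonoidHom_eq_coe, MonoidHom.coe_coe] at this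
    obtain ⟨b, rfl⟩ := hd
    rw [this, map_one, zpow_mul, zpow_natCast, ← hN, pow_card_eq_one', one_zpow]
  have hfermat : (p : ℤ) ∣ a ^ (p - 1) - 1 := by
    rw [← ZMod.intCast_zmod_eq_zero_iff_dvd]
    have hane' : (a : ZMod p) ≠ 0 := fun h => hane ((ZMod.intCast_zmod_eq_zero_iff_dvd a p).mp h)
    push_cast
    rw [ZMod.pow_card_sub_one_eq_one hane', sub_self]
  obtain ⟨b, hb⟩ := hfermat
  have h := congrArg Subtype.val (hit (p - 1) ⟨n, hn⟩)
  rw [MulAut.conjNormal_apply, show (a ^ (p - 1) : ℤ) = 1 + (p : ℤ) * b by omega, zpow_add, zpow_one,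
    zpow_mul, zpow_natCast, ← hN, pow_card_eq_one', one_zpow, mul_one] at h
  rw [hN] at h
  exact (mul_inv_eq_iff_eq_mul.mp h).symm

theorem conj_eq_of_commute {a n : G} (h : n * a = a * n) : a * n * a⁻¹ = n := by
  rw [← h, mul_inv_cancel_right]

/-- In a supersolvable group `powCommutator p` acts trivially, through subgroups of order prime to
`p`, on every normal `p`-subgroup. -/
theorem commutator_eq_bot_of_isSupersolvable [Finite G] {p : ℕ} [hp : Fact p.Prime]
    (hG : IsSupersolvable G) {P A : Subgroup G} [P.Normal] (hP : IsPGroup p P)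
    (hA : A ≤ powCommutator p G) (hcop : (Nat.card A).Coprime p) : ⁅P, A⁆ = ⊥ := by
  suffices H : ∀ (n : ℕ) (G : Type u) [Group G] [Finite G], Nat.card G = n → IsSupersolvable G →
      ∀ (P A : Subgroup G) [P.Normal], IsPGroup p P → A ≤ powCommutator p G →
        (Nat.card A).Coprime p → ⁅P, A⁆ = ⊥ from H _ G rfl hG P A hP hA hcop
  clear hG hP hA hcop
  intro n
  induction n using Nat.strong_induction_on with
  | _ n ih =>
    intro G _ _ hn hG P A _ hP hA hcop
    by_cases hPb : P = ⊥
    · subst hPb; exact commutator_bot_left A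
    obtain ⟨N, hNP, hN⟩ := exists_isMinNormal_le hPb
    have := hN.normal
    have hNc : Nat.card N = p := by
      obtain ⟨k, hk⟩ := IsPGroup.iff_card.mp (hP.to_le hNP)
      have hpr := hN.prime_card hG
      rw [hk] at hpr ⊢
      rw [Nat.Prime.eq_one_of_pow hpr, pow_one]
    set f := QuotientGroup.mk' N with hf
    have hs := QuotientGroup.mk'_surjective N
    have := map_le_of_surjective_normal (N := N) (U := P) inferInstance
    have h := ih _ (hn ▸ card_quotient_lt hN.ne_bot) _ rfl (isSupersolvable_of_surjective hs hG)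
      (P.map f) (A.map f) (hP.map f) ((map_mono hA).trans (map_powCommutator_le p f))
      (hcop.coprime_dvd_left (card_map_dvd _ _))
    rw [← map_commutator, Subgroup.map_eq_bot_iff, hf, QuotientGroup.ker_mk'] at h
    have hAP : A ≤ normalizer (P : Set G) := by rw [normalizer_eq_top]; exact le_top
    obtain ⟨k, hk⟩ := IsPGroup.iff_card.mp hP
    have hcop' : (Nat.card A).Coprime (Nat.card P) := hk ▸ hcop.pow_right k
    rw [← Coprime.commutator_commutator_eq hAP hcop'
      (Or.inr (have := hP.isNilpotent; inferInstance)), eq_bot_iff]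
    refine (commutator_mono h le_rfl).trans (le_of_eq ?_)
    rw [commutator_eq_bot_iff_le_centralizer]
    exact fun x hx a ha => ((powCommutator_le_centralizer hNc (hA ha)) x hx).symm

/-- Huppert: if all maximal subgroups have prime index the group is supersolvable. -/
theorem isSupersolvable_of_prime_index [Finite G]
    (h : ∀ M : Subgroup G, IsCoatom M → M.index.Prime) : IsSupersolvable G := by
  suffices H : ∀ (n : ℕ) (G : Type u) [Group G] [Finite G], Nat.card G = n →
      (∀ M : Subgroup G, IsCoatom M → M.index.Prime) → IsSupersolvable G from H _ G rfl h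
  clear h
  intro n
  induction n using Nat.strong_induction_on with
  | _ n ih =>
    intro G _ _ hn h
    rcases subsingleton_or_nontrivial G with hs | hs
    · exact isSupersolvable_of_subsingleton
    have hne : (Nat.card G).primeFactors.Nonempty := Nat.nonempty_primeFactors.mpr Finite.one_lt_card
    set p := (Nat.card G).primeFactors.max' hne with hp
    have hmem := (Nat.card G).primeFactors.max'_mem hne
    have := Fact.mk (Nat.prime_of_mem_primeFactors hmem)
    have hp' : p.Prime := Fact.out
    have hdvd := Nat.dvd_of_mem_primeFactors hmem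
    obtain ⟨P⟩ := (inferInstance : Nonempty (Sylow p G))
    have hPn : (P : Subgroup G).Normal := sylow_normal_of_prime_index h
      (fun q hq hd => Finset.le_max' _ q (Nat.mem_primeFactors.mpr ⟨hq, hd, Nat.card_pos.ne'⟩)) P
    have := P.isPGroup'.isNilpotent
    set D := (frattini (P : Subgroup G)).map (P : Subgroup G).subtype with hD
    obtain ⟨N, hNP, hN, hND⟩ : ∃ N ≤ (P : Subgroup G), IsMinNormal N ∧ (N ≤ D ∨ D = ⊥) := by
      by_cases hDb : D = ⊥
      · obtain ⟨N, h1, h2⟩ := exists_isMinNormal_le (N := (P : Subgroup G))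
          (P.ne_bot_of_dvd_card hdvd)
        exact ⟨N, h1, h2, Or.inr hDb⟩
      · obtain ⟨N, h1, h2⟩ := exists_isMinNormal_le hDb
        exact ⟨N, h1.trans (map_subtype_le _), h2, Or.inl h1⟩
    have := hN.normal
    have hPN := hN.le_centralizer_of_isPGroup P.isPGroup' hNP
    have hNab : IsMulCommutative N := ⟨⟨fun a b => Subtype.ext (hPN (hNP b.2) a a.2)⟩⟩
    set f := QuotientGroup.mk' N with hf
    have hfs := QuotientGroup.mk'_surjective N
    have hq : IsSupersolvable (G ⧸ N) := ih _ (hn ▸ card_quotient_lt hN.ne_bot) _ rfl fun M hM => by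
      have := h _ (isCoatom_comap_of_surjective hfs hM)
      rwa [index_comap_of_surjective _ hfs] at this
    by_cases hNΦ : N ≤ frattini G
    swap
    · -- a complemented minimal normal subgroup
      obtain ⟨M, hM, hle⟩ := exists_coatom_not_le hNΦ
      have htop : M ⊔ N = ⊤ := hM.2 _ (lt_of_le_of_ne le_sup_left fun e => hle (e ▸ le_sup_right))
      have hb : M ⊓ N = ⊥ := (hN.eq_of_le _ (inf_normal_of_sup_eq_top htop) inf_le_right).resolve_right
        fun e => hle (e ▸ inf_le_left)
      have hc : Nat.card N = M.index := by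
        have h1 := card_sup_of_inf_eq_bot hb
        rw [htop, card_top, ← M.card_mul_index] at h1
        exact (Nat.eq_of_mul_eq_mul_left Nat.card_pos h1).symm
      have := isCyclic_of_card_prime (hc ▸ h M hM)
      exact isSupersolvable_of_cyclic_normal N hq
    obtain ⟨H, hH⟩ := exists_right_complement'_of_coprime (N := (P : Subgroup G)) P.card_coprime_index
    have hHc : (Nat.card H).Coprime (Nat.card (P : Subgroup G)) := by
      rw [Coprime.card_eq_index_of_isComplement' hH]; exact P.card_coprime_index.symm
    set A := powCommutator p G ⊓ H with hA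
    have hHp : (Nat.card H).Coprime p := hHc.coprime_dvd_right (P.dvd_card_of_dvd_card hdvd)
    have hAc : (Nat.card A).Coprime (Nat.card (P : Subgroup G)) :=
      hHc.coprime_dvd_left (card_dvd_of_le inf_le_right)
    have hAP : A ≤ normalizer ((P : Subgroup G) : Set G) := by rw [normalizer_eq_top]; exact le_top
    have hRn : (powCommutator p G).Normal := by
      refine ⟨fun z hz g => ?_⟩
      exact map_powCommutator_le p (MulAut.conj g).toMonoidHom ⟨z, hz, rfl⟩
    have hPAN : ⁅(P : Subgroup G), A⁆ ≤ N := by
      have := map_le_of_surjective_normal (N := N) hPn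
      have h1 := commutator_eq_bot_of_isSupersolvable hq (P := (P : Subgroup G).map f) (A := A.map f)
        (P.isPGroup'.map f) ((map_mono inf_le_left).trans (map_powCommutator_le p f))
        ((hHp.coprime_dvd_left (card_dvd_of_le inf_le_right)).coprime_dvd_left (card_map_dvd _ _))
      rwa [← map_commutator, Subgroup.map_eq_bot_iff, hf, QuotientGroup.ker_mk'] at h1
    have hAN : A ≤ centralizer (N : Set G) := by
      rcases hND with hND | hDb
      · have hcen : A ≤ centralizer ((P : Subgroup G) : Set G) :=
          Coprime.le_centralizer_of_trivial_mod_frattini hAP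
            (hAc.coprime_dvd_right (card_subgroup_dvd_card _)) fun a ha k hk => by
            have h1 : ⁅k, a⁆ ∈ N := hPAN (commutator_mem_commutator hk ha)
            have h2 := N.inv_mem h1
            rw [commutatorElement_inv, commutatorElement_def] at h2
            exact hND h2
        exact hcen.trans (centralizer_le (SetLike.coe_subset_coe.mpr hNP))
      · have hPab : IsMulCommutative (P : Subgroup G) := by
          have h1 : commutator (P : Subgroup G) ≤ frattini (P : Subgroup G) := commutator_le_frattini
          rw [(map_eq_bot_iff_of_injective _ (P : Subgroup G).subtype_injective).mp hDb, le_bot_iff] at h1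
          exact ⟨⟨fun a b => commutatorElement_eq_one_iff_mul_comm.mp (by
            rw [← mem_bot, ← h1]; exact commutator_mem_commutator (mem_top a) (mem_top b))⟩⟩
        set C := (P : Subgroup G) ⊓ centralizer (A : Set G) with hC
        have hHA : H ≤ normalizer (A : Set G) :=
          Coprime.le_normalizer_inf_of_le (by rw [normalizer_eq_top]; exact le_top) le_rfl
        have hsup : (P : Subgroup G) ⊔ H = ⊤ := hH.sup_eq_top
        have hVn : ⁅(P : Subgroup G), A⁆.Normal := by
          refine normalizer_eq_top_iff.mp (top_le_iff.mp (hsup.ge.trans (sup_le ?_ ?_)))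
          · exact normalizer_commutator_ge_left _ _
          · intro x hx
            refine Coprime.mem_normalizer_of_conj_smul_eq ?_
            rw [Coprime.conj_smul_eq_map, map_commutator, ← Coprime.conj_smul_eq_map,
              ← Coprime.conj_smul_eq_map, Coprime.conj_smul_eq_self_of_mem_normalizer
                (show x ∈ normalizer ((P : Subgroup G) : Set G) by rw [normalizer_eq_top]; trivial),
              Coprime.conj_smul_eq_self_of_mem_normalizer (hHA hx)]
        rcases hN.eq_of_le _ hVn hPAN with h1 | h1
        · exact fun a ha x hx =>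
            (commutator_eq_bot_iff_le_centralizer.mp h1 (hNP hx) a ha).symm
        · have hPsol : Group.IsSolvable (P : Subgroup G) := inferInstance
          have hPC := Coprime.commutator_sup_centralizer hAP hAc (Or.inr hPsol)
          rw [h1, ← hC] at hPC
          have htop : (C ⊔ H) ⊔ N = ⊤ := by
            rw [sup_right_comm, sup_comm C, hPC, hsup]
          have h2 := eq_top_of_sup_frattini hNΦ htop
          have hPle : (P : Subgroup G) ≤ C := by
            intro x hx
            have hx' : x ∈ C ⊔ H := h2 ▸ mem_top x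
            have hHC : H ≤ normalizer (C : Set G) := Coprime.le_normalizer_inf
              (by rw [normalizer_eq_top]; exact le_top) (Coprime.le_normalizer_centralizer hHA)
            obtain ⟨c, hc, y, hy, rfl⟩ := (Coprime.mem_sup_of_le_normalizer hHC).mp hx'
            have hy' : y ∈ (P : Subgroup G) ⊓ H := ⟨((P : Subgroup G).mul_mem_cancel_left hc.1).mp hx, hy⟩
            rw [disjoint_iff.mp hH.disjoint, mem_bot] at hy'
            rw [hy', mul_one]; exact hc
          exact fun a ha x hx => ((hPle (hNP hx)).2 a ha).symm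
    -- `H` acts on `N` as an abelian group of exponent dividing `p - 1`
    have hexp : ∀ x ∈ N, x ^ p = 1 := by
      obtain ⟨q, hq', he⟩ := hN.exists_prime_pow_eq_one
      obtain ⟨v, hv, hv1⟩ := (bot_or_exists_ne_one N).resolve_left hN.ne_bot
      obtain ⟨k, hk⟩ := IsPGroup.iff_orderOf.mp (P.isPGroup'.to_le hNP) ⟨v, hv⟩
      rw [Subgroup.orderOf_mk] at hk
      have := (Nat.dvd_prime hq').mp (hk ▸ orderOf_dvd_of_pow_eq_one (he v hv))
      rcases this with h1 | h1
      · exact absurd (orderOf_eq_one_iff.mp (hk.trans h1)) hv1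
      · have hqp : q = p := by
          rw [← h1] at hq'
          rw [← h1, Nat.Prime.eq_one_of_pow hq', pow_one]
        exact hqp ▸ he
    have hmemA : ∀ z, z ∈ H → z ∈ powCommutator p G → ∀ v ∈ N, z * v * z⁻¹ = v :=
      fun z hz hz' v hv => conj_eq_of_commute (hAN ⟨hz', hz⟩ v hv)
    have hscal : ∀ x ∈ H, ∀ v ∈ N, x * v * x⁻¹ ∈ zpowers v := by
      intro x hx
      open scoped IsMulCommutative in
      have hNt : Nontrivial N := (nontrivial_iff_ne_bot N).mpr hN.ne_bot
      open scoped IsMulCommutative in
      obtain ⟨v, hv1, a, ha⟩ := exists_map_eq_pow (N := N) (p := p)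
        (fun y => Subtype.ext (hexp y y.2)) (MulAut.conjNormal (H := N) x).toMonoidHom (fun y => by
          have hit : ∀ k : ℕ, ((MulAut.conjNormal (H := N) x).toMonoidHom^[k] y : N) =
              MulAut.conjNormal (H := N) (x ^ k) y := by
            intro k
            induction k with
            | zero => simp
            | succ k ih =>
              rw [Function.iterate_succ_apply', ih, pow_succ' x, map_mul, MulAut.mul_apply]
              rfl
          rw [hit]
          exact Subtype.ext ((MulAut.conjNormal_apply _ _).trans (hmemA _ (H.pow_mem hx _)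
            (subset_closure (Or.inr ⟨x, rfl⟩)) y y.2)))
      have hval : x * (v : G) * x⁻¹ = (v : G) ^ a := congrArg Subtype.val ha
      let E : Subgroup G :=
        { carrier := {y | y ∈ N ∧ x * y * x⁻¹ = y ^ a}
          one_mem' := ⟨one_mem _, by simp⟩
          mul_mem' := by
            rintro y z ⟨hy, hy'⟩ ⟨hz, hz'⟩
            refine ⟨mul_mem hy hz, ?_⟩
            rw [(Commute.mul_pow (setLike_mul_comm hy hz) a), ← hy', ← hz']; simp [mul_assoc]
          inv_mem' := by
            rintro y ⟨hy, hy'⟩
            refine ⟨inv_mem hy, ?_⟩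
            rw [inv_pow, ← hy']; simp [mul_assoc] }
      have hEconj : ∀ w ∈ H, ∀ y ∈ E, w * y * w⁻¹ ∈ E := by
        intro w hw y hy
        refine ⟨hN.normal.conj_mem y hy.1 w, ?_⟩
        have hc : ⁅x⁻¹, w⁻¹⁆ * y * ⁅x⁻¹, w⁻¹⁆⁻¹ = y :=
          hmemA _ (by rw [commutatorElement_def]
                      exact H.mul_mem (H.mul_mem (H.mul_mem (H.inv_mem hx) (H.inv_mem hw))
                        (H.inv_mem (H.inv_mem hx))) (H.inv_mem (H.inv_mem hw)))
            (subset_closure (Or.inl ⟨_, _, rfl⟩)) y hy.1
        calc x * (w * y * w⁻¹) * x⁻¹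
            = w * x * (⁅x⁻¹, w⁻¹⁆ * y * ⁅x⁻¹, w⁻¹⁆⁻¹) * x⁻¹ * w⁻¹ := by
              rw [commutatorElement_def]; simp [mul_assoc]
          _ = w * (x * y * x⁻¹) * w⁻¹ := by rw [hc]; simp [mul_assoc]
          _ = (w * y * w⁻¹) ^ a := by rw [hy.2, conj_pow]
      have hEn : E.Normal := by
        refine ⟨fun y hy g => ?_⟩
        have hg : g ∈ (P : Subgroup G) ⊔ H := hH.sup_eq_top ▸ mem_top g
        obtain ⟨q, hq', w, hw, rfl⟩ := mem_sup_of_normal_left.mp hg
        have h2 := hEconj w hw y hy
        have h3 : q * (w * y * w⁻¹) * q⁻¹ = w * y * w⁻¹ :=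
          conj_eq_of_commute (hPN hq' _ h2.1)
        rw [← h3] at h2
        simpa [mul_assoc] using h2
      have hEe : E = N := (hN.eq_of_le E hEn fun y hy => hy.1).resolve_left fun e => hv1 (by
        have : (v : G) ∈ E := ⟨v.2, hval⟩
        rw [e, mem_bot] at this
        exact Subtype.ext this)
      intro y hy
      rw [← hEe] at hy
      rw [hy.2]
      exact pow_mem (mem_zpowers y) a
    obtain ⟨v, hv, hv1⟩ := (bot_or_exists_ne_one N).resolve_left hN.ne_bot
    have hvn : (zpowers v).Normal := by
      refine ⟨fun y hy g => ?_⟩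
      have hg : g ∈ (P : Subgroup G) ⊔ H := hH.sup_eq_top ▸ mem_top g
      obtain ⟨q, hq', w, hw, rfl⟩ := mem_sup_of_normal_left.mp hg
      obtain ⟨i, rfl⟩ := hy
      have h2 : w * v ^ i * w⁻¹ ∈ zpowers v := by
        rw [← conj_zpow]; exact zpow_mem (hscal w hw v hv) i
      have h3 : q * (w * v ^ i * w⁻¹) * q⁻¹ = w * v ^ i * w⁻¹ :=
        conj_eq_of_commute (hPN hq' _ (hN.normal.conj_mem _ (N.zpow_mem hv i) w))
      rw [← h3] at h2
      simpa [mul_assoc] using h2
    have hNe := (hN.eq_of_le _ hvn (zpowers_le.mpr hv)).resolve_left (zpowers_ne_bot.mpr hv1)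
    have : IsCyclic N := hNe ▸ inferInstance
    exact isSupersolvable_of_cyclic_normal N hq

end Cfsg.Agent.Core
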