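import Cfsg.Agent.Core.NilpotentProduct
import Mathlib.Data.Nat.Factors

/-!
Derived length of a product of an abelian subgroup and a subgroup of class at most two.
-/

set_option autoImplicit false

namespace Cfsg.Agent.Core

open Subgroup
open scoped Pointwise

universe u

theorem commutator_eq_bot_of_isMulCommutative {G : Type u} [Group G] (A : Subgroup G)
    [IsMulCommutative A] : ⁅A, A⁆ = ⊥ :=
  commutator_eq_bot_iff_le_centralizer.mpr fun a ha =>
    mem_centralizer_iff.mpr fun b hb => comm_of_isMulCommutative hb ha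

theorem isSolvable_abelian_class_two {G : Type u} [Group G] [Finite G] {A B : Subgroup G}
    [IsMulCommutative A] (hB : B ≤ centralizer (⁅B, B⁆ : Subgroup G))
    (hAB : ∀ g : G, ∃ a ∈ A, ∃ b ∈ B, g = a * b) : Group.IsSolvable G :=
  kegel_wielandt (isNilpotent_of_commutator_le_center (C := ⊥) (commutator_eq_bot_of_isMulCommutative A).le
    (fun a _ => mem_centralizer_iff.mpr fun x hx => by rw [mem_bot.mp hx, one_mul, mul_one]))
    (isNilpotent_of_commutator_le_center le_rfl hB) hAB

theorem class_two_generation_aux : ∀ (n : ℕ) (G : Type u) [Group G] [Finite G], Nat.card G = n →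
    ∀ A B : Subgroup G, IsMulCommutative A → B ≤ centralizer (⁅B, B⁆ : Subgroup G) →
      (∀ g : G, ∃ a ∈ A, ∃ b ∈ B, g = a * b) → A ⊔ ⁅B, B⁆ = ⊤ → ⁅B, B⁆ = ⊥ := by
  intro n
  induction n using Nat.strong_induction_on with
  | _ n ih =>
    intro G _ _ hn A B hA hB hAB hgen
    by_contra hC
    have : Group.IsSolvable G := isSolvable_abelian_class_two hB hAB
    have : Nontrivial G := by
      by_contra h
      have := not_nontrivial_iff_subsingleton.mp h
      exact hC (Subsingleton.elim _ _)
    have hle : ∀ M : Subgroup G, IsMinNormal M → ⁅B, B⁆ ≤ M := fun M hM => by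
      have := hM.normal
      set f := QuotientGroup.mk' M with hf
      have e : ⁅B.map f, B.map f⁆ = (⁅B, B⁆ : Subgroup G).map f := (map_commutator B B f).symm
      have h1 := ih _ (hn ▸ card_quotient_lt hM.ne_bot) (G ⧸ M) rfl (A.map f) (B.map f)
        (by
          refine ⟨⟨?_⟩⟩
          rintro ⟨_, a, ha, rfl⟩ ⟨_, b, hb, rfl⟩
          exact Subtype.ext (show f a * f b = f b * f a by
            rw [← map_mul, ← map_mul, comm_of_isMulCommutative ha hb]))
        (by
          rw [e]
          rintro _ ⟨b, hb, rfl⟩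
          refine mem_centralizer_iff.mpr ?_
          rintro _ ⟨c, hc, rfl⟩
          rw [← map_mul, ← map_mul, mem_centralizer_iff.mp (hB hb) c hc])
        (exists_mul_map hAB (QuotientGroup.mk'_surjective M))
        (by rw [e, ← Subgroup.map_sup, hgen, map_top_of_surjective _ (QuotientGroup.mk'_surjective M)])
      rw [e, Subgroup.map_eq_bot_iff, hf, QuotientGroup.ker_mk'] at h1
      exact h1
    obtain ⟨M, hM⟩ := exists_isMinNormal (G := G)
    have := hM.normal
    have : IsMulCommutative M := hM.isMulCommutative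
    have hAM : A ⊔ M = ⊤ := top_le_iff.mp (hgen ▸ sup_le_sup_left (hle M hM) A)
    have hAi : A ⊓ M = ⊥ := by
      rcases hM.eq_of_le (A ⊓ M) (inf_normal_of_sup_eq_top hAM) inf_le_right with h | h
      · exact h
      · have hAt : A = ⊤ := top_le_iff.mp (hAM ▸ sup_le le_rfl (inf_eq_right.mp h))
        exact absurd (le_bot_iff.mp ((commutator_mono (hAt ▸ le_top : B ≤ A) (hAt ▸ le_top)).trans
          (commutator_eq_bot_of_isMulCommutative A).le)) hC
    have hcen : ∀ a ∈ A, a ∈ centralizer (M : Set G) → a = 1 := by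
      intro a ha haM
      set K := A ⊓ centralizer (M : Set G) with hK
      have hKn : K.Normal := by
        refine normalizer_eq_top_iff.mp (top_le_iff.mp (hAM.ge.trans (sup_le ?_ ?_)))
        · exact fun x hx => centralizer_le_normalizer _ (mem_centralizer_iff.mpr fun k hk =>
            comm_of_isMulCommutative hk.1 hx)
        · exact fun x hx => centralizer_le_normalizer _ (mem_centralizer_iff.mpr fun k hk =>
            (mem_centralizer_iff.mp hk.2 x hx).symm)
      by_contra ha1
      have hKb : K ≠ ⊥ := fun e => ha1 (mem_bot.mp (e ▸ (⟨ha, haM⟩ : a ∈ K)))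
      obtain ⟨M', hM'K, hM'⟩ := exists_isMinNormal_le hKb
      exact hC (le_bot_iff.mp (hAi ▸ le_inf ((hle M' hM').trans (hM'K.trans inf_le_left)) (hle M hM)))
    refine hC (le_bot_iff.mp ?_)
    have hBM : B ≤ M := by
      intro b hb
      obtain ⟨a, ha, m, hm, rfl⟩ := mem_sup_of_normal_right.mp (hAM ▸ mem_top b)
      suffices a = 1 by rw [this, one_mul]; exact hm
      refine hcen a ha ?_
      have hKn : (M ⊓ centralizer ({a} : Set G)).Normal := by
        refine normalizer_eq_top_iff.mp (top_le_iff.mp (hAM.ge.trans (sup_le ?_ ?_)))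
        · intro x hx
          have hxa : Commute x a := comm_of_isMulCommutative hx ha
          refine Coprime.mem_normalizer_of_conj_smul_eq
            (eq_of_le_of_card_ge ?_ (Coprime.card_conj_smul x _).ge)
          intro y hy
          rw [Coprime.mem_conj_smul] at hy
          refine ⟨?_, mem_centralizer_singleton_iff.mpr ?_⟩
          · have := hM.normal.conj_mem _ hy.1 x
            simpa [mul_assoc] using this
          · calc y * a = x * ((x⁻¹ * y * x) * (x⁻¹ * a * x)) * x⁻¹ := by group
              _ = x * ((x⁻¹ * y * x) * a) * x⁻¹ := by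
                  rw [hxa.inv_left.eq, inv_mul_cancel_right]
              _ = x * (a * (x⁻¹ * y * x)) * x⁻¹ := by rw [mem_centralizer_singleton_iff.mp hy.2]
              _ = a * y := by rw [← mul_assoc x, hxa.eq]; group
        · exact fun x hx => centralizer_le_normalizer _ (mem_centralizer_iff.mpr fun k hk =>
            comm_of_isMulCommutative hk.1 hx)
      rcases hM.eq_of_le _ hKn inf_le_left with h | h
      · refine absurd (le_bot_iff.mp (le_trans ?_ h.le)) hC
        intro c hc
        refine ⟨hle M hM hc, mem_centralizer_singleton_iff.mpr ?_⟩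
        have h1 : c * (a * m) = a * m * c := mem_centralizer_iff.mp (hB hb) c hc
        rw [mul_assoc a, comm_of_isMulCommutative hm (hle M hM hc), ← mul_assoc, ← mul_assoc] at h1
        exact mul_right_cancel h1
      · exact mem_centralizer_iff.mpr fun k hk =>
          mem_centralizer_singleton_iff.mp (inf_eq_left.mp h hk)
    exact (commutator_mono hBM hBM).trans (commutator_eq_bot_of_isMulCommutative M).le

theorem length_primeFactorsList_lt {d n : ℕ} (hn : n ≠ 0) (hd : d ∣ n) (hne : d ≠ n) :
    d.primeFactorsList.length < n.primeFactorsList.length := by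
  obtain ⟨k, rfl⟩ := hd
  have hk0 : k ≠ 0 := right_ne_zero_of_mul hn
  rw [(Nat.perm_primeFactorsList_mul (left_ne_zero_of_mul hn) hk0).length_eq, List.length_append]
  have hk1 : k ≠ 1 := fun h => hne (by rw [h, mul_one])
  have : k.primeFactorsList ≠ [] := fun e => ((Nat.primeFactorsList_eq_nil k).mp e).elim hk0 hk1
  have := List.length_pos_of_ne_nil this
  omega

theorem derivedSeries_abelian_class_two_aux : ∀ (n : ℕ) (G : Type u) [Group G] [Finite G]
    (A B : Subgroup G), Nat.card (⁅B, B⁆ : Subgroup G) = n → IsMulCommutative A →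
      B ≤ centralizer (⁅B, B⁆ : Subgroup G) → (∀ g : G, ∃ a ∈ A, ∃ b ∈ B, g = a * b) →
      derivedSeries G (2 * (1 + n.primeFactorsList.length)) = ⊥ := by
  intro n
  induction n using Nat.strong_induction_on with
  | _ n ih =>
    intro G _ _ A B hn hA hB hAB
    set C : Subgroup G := ⁅B, B⁆ with hCdef
    have hBc : C = ⊥ → IsMulCommutative B := fun e => ⟨⟨fun x y => Subtype.ext
      (mem_centralizer_iff.mp (commutator_eq_bot_iff_le_centralizer.mp e y.2) x x.2)⟩⟩
    rcases eq_or_ne C ⊥ with hC | hC
    · have := hBc hC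
      exact le_bot_iff.mp ((derivedSeries_antitone G (by omega)).trans (ito_derivedSeries hAB).le)
    set L := A ⊔ C with hL
    set V := normalClosure (C : Set G) with hV
    have hVL : V ≤ L := by
      rw [hV, normalClosure, closure_le]
      intro x hx
      obtain ⟨c, hc, hcx⟩ := Group.mem_conjugatesOfSet_iff.mp hx
      obtain ⟨g, rfl⟩ := isConj_iff.mp hcx
      obtain ⟨a, ha, b, hb, rfl⟩ := hAB g
      have e : a * b * c * (a * b)⁻¹ = a * c * a⁻¹ := by
        rw [mul_inv_rev, mul_assoc a b c, ← mem_centralizer_iff.mp (hB hb) c hc]; group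
      rw [e]
      exact mul_mem (mul_mem (mem_sup_left ha) (mem_sup_right hc)) (inv_mem (mem_sup_left ha))
    have hCV : C ≤ V := fun c hc => subset_normalClosure hc
    have hG2 : derivedSeries G 2 ≤ V := by
      set f := QuotientGroup.mk' V with hf
      have hcA : IsMulCommutative (A.map f) := ⟨⟨by
        rintro ⟨_, a, ha, rfl⟩ ⟨_, b, hb, rfl⟩
        exact Subtype.ext (show f a * f b = f b * f a by
          rw [← map_mul, ← map_mul, comm_of_isMulCommutative ha hb])⟩⟩
      have hcB : IsMulCommutative (B.map f) := by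
        refine ⟨⟨fun x y => Subtype.ext (mem_centralizer_iff.mp
          (commutator_eq_bot_iff_le_centralizer.mp ?_ y.2) x x.2)⟩⟩
        rw [← map_commutator, Subgroup.map_eq_bot_iff, hf, QuotientGroup.ker_mk']
        exact hCV
      have h1 := ito_derivedSeries (exists_mul_map hAB (QuotientGroup.mk'_surjective V))
      rw [← map_derivedSeries_eq (QuotientGroup.mk'_surjective V), Subgroup.map_eq_bot_iff,
        QuotientGroup.ker_mk'] at h1
      exact h1
    -- the factorisation of `L`
    set A' := A.subgroupOf L with hA'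
    set B' := B.subgroupOf L with hB'
    have hA'c : IsMulCommutative A' := ⟨⟨fun x y => Subtype.ext (Subtype.ext
      (comm_of_isMulCommutative (mem_subgroupOf.mp x.2) (mem_subgroupOf.mp y.2)))⟩⟩
    have hmap : (⁅B', B'⁆ : Subgroup L).map L.subtype ≤ C := by
      rw [map_commutator]
      exact commutator_mono (map_le_iff_le_comap.mpr le_rfl) (map_le_iff_le_comap.mpr le_rfl)
    have hB'c : B' ≤ centralizer (⁅B', B'⁆ : Subgroup L) := fun x hx => mem_centralizer_iff.mpr
      fun y hy => Subtype.ext (mem_centralizer_iff.mp (hB (mem_subgroupOf.mp hx)) _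
        (hmap (mem_map_of_mem L.subtype hy)))
    have hAB' : ∀ g : L, ∃ a ∈ A', ∃ b ∈ B', g = a * b := fun g => by
      obtain ⟨a, ha, b, hb, e⟩ := hAB g
      refine ⟨⟨a, mem_sup_left ha⟩, ha, ⟨b, ?_⟩, hb, Subtype.ext e⟩
      exact (mul_mem_cancel_left (mem_sup_left (T := C) ha)).mp (e ▸ g.2)
    have hlt : Nat.card (⁅B', B'⁆ : Subgroup L) ∣ n ∧ Nat.card (⁅B', B'⁆ : Subgroup L) ≠ n := by
      rw [← card_map_of_injective L.subtype_injective, ← hn]
      refine ⟨card_dvd_of_le hmap, fun e => hC ?_⟩
      have e1 : (⁅B', B'⁆ : Subgroup L).map L.subtype = C := eq_of_le_of_card_ge hmap e.ge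
      have htop : A' ⊔ ⁅B', B'⁆ = ⊤ := by
        refine map_injective L.subtype_injective ?_
        rw [Subgroup.map_sup, map_subgroupOf_eq_of_le le_sup_left, e1, ← MonoidHom.range_eq_map, L.range_subtype]
      have h0 := class_two_generation_aux _ L rfl A' B' hA'c hB'c hAB' htop
      rw [← e1, h0, Subgroup.map_bot]
    have hn0 : n ≠ 0 := hn ▸ Nat.card_pos.ne'
    have h1 := ih _ (lt_of_le_of_ne (Nat.le_of_dvd (Nat.pos_of_ne_zero hn0) hlt.1) hlt.2) L A' B' rfl
      hA'c hB'c hAB'
    have hlen := length_primeFactorsList_lt hn0 hlt.1 hlt.2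
    have hstep : ∀ m : ℕ, derivedSeries G (2 + m) ≤ (derivedSeries L m).map L.subtype := by
      intro m
      induction m with
      | zero =>
        rw [derivedSeries_zero, ← MonoidHom.range_eq_map, L.range_subtype]
        exact hG2.trans hVL
      | succ k ihk =>
        rw [← add_assoc, derivedSeries_succ, derivedSeries_succ, map_commutator]
        exact commutator_mono ihk ihk
    refine le_bot_iff.mp (le_trans (derivedSeries_antitone G (show 2 + 2 * (1 +
      (Nat.card (⁅B', B'⁆ : Subgroup L)).primeFactorsList.length) ≤ _ by omega)) ?_)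
    refine (hstep _).trans ?_
    rw [h1, Subgroup.map_bot]

end Cfsg.Agent.Core
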