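import Mathlib

/-!
# Abelian fixed-point-free linear groups over a prime field

An abelian group acting without fixed points on a finite space is cyclic; on a minimal invariant
subspace its linear span is a field with as many elements as the subspace.
-/

set_option autoImplicit false

namespace Cfsg.Agent.Core

open Module

variable {K : Type*} [Field K] {V : Type*} [AddCommGroup V] [Module K V]

/-- The endomorphisms preserving a subspace. -/
def stabAlg (W : Submodule K V) : Subalgebra K (Module.End K V) where
  carrier := {f | ∀ w ∈ W, f w ∈ W}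
  mul_mem' {f g} hf hg w hw := hf _ (hg w hw)
  one_mem' _ hw := hw
  add_mem' {f g} hf hg w hw := W.add_mem (hf w hw) (hg w hw)
  zero_mem' _ _ := W.zero_mem
  algebraMap_mem' r _ hw := W.smul_mem r hw

/-- Restriction to the subspace, as an algebra homomorphism. -/
def resAlg (W : Submodule K V) : stabAlg W →ₐ[K] Module.End K W where
  toFun f := (f : Module.End K V).restrict f.2
  map_one' := rfl
  map_mul' _ _ := rfl
  map_zero' := rfl
  map_add' _ _ := rfl
  commutes' _ := rfl

/-- A commutative family of endomorphisms generates a domain, and evaluation at a nonzero vector is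
bijective, on a minimal invariant subspace. -/
theorem adjoin_minimal {W : Submodule K V} {s : Set (Module.End K W)}
    (hcomm : ∀ a ∈ s, ∀ b ∈ s, a * b = b * a)
    (hmin : ∀ U : Submodule K W, (∀ a ∈ s, ∀ u ∈ U, a u ∈ U) → U = ⊥ ∨ U = ⊤)
    {w : W} (hw : w ≠ 0) :
    (∀ x y : Algebra.adjoin K s, x * y = 0 → x = 0 ∨ y = 0) ∧
      Function.Bijective (fun r : Algebra.adjoin K s => (r : Module.End K W) w) := by
  have hc := Algebra.isMulCommutative_adjoin K hcomm
  have hzero : ∀ r : Algebra.adjoin K s, r ≠ 0 → ∀ u : W, (r : Module.End K W) u = 0 → u = 0 := by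
    intro r hr u hu
    have key : ∀ a ∈ s, ∀ x ∈ LinearMap.ker (r : Module.End K W),
        a x ∈ LinearMap.ker (r : Module.End K W) := fun a ha x hx => by
      rw [LinearMap.mem_ker] at hx ⊢
      have e := congrArg (fun z : Algebra.adjoin K s => (z : Module.End K W) x)
        (hc.is_comm.comm r ⟨a, Algebra.subset_adjoin ha⟩)
      simp only [Subalgebra.coe_mul, Module.End.mul_apply] at e
      rw [e, hx, map_zero]
    rcases hmin (LinearMap.ker (r : Module.End K W)) key with h | h
    · have hu' : u ∈ LinearMap.ker (r : Module.End K W) := hu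
      rwa [h, Submodule.mem_bot] at hu'
    · exact absurd (Subtype.ext (LinearMap.ker_eq_top.1 h)) hr
  refine ⟨fun x y h => ?_, fun x y h => ?_, ?_⟩
  · by_contra! hxy
    refine hxy.2 (Subtype.ext (LinearMap.ext fun u => hzero x hxy.1 _ ?_))
    exact congrArg (fun z : Algebra.adjoin K s => (z : Module.End K W) u) h
  · by_contra hxy
    exact hw (hzero (x - y) (sub_ne_zero.2 hxy) w (by
      simp only [AddSubgroupClass.coe_sub, LinearMap.sub_apply]; exact sub_eq_zero.2 h))
  · let U : Submodule K W := LinearMap.range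
      ((LinearMap.applyₗ w).comp (Algebra.adjoin K s).val.toLinearMap)
    have key : ∀ a ∈ s, ∀ u ∈ U, a u ∈ U := fun a ha u hu => by
      obtain ⟨r, rfl⟩ := hu
      exact ⟨⟨a, Algebra.subset_adjoin ha⟩ * r, rfl⟩
    rcases hmin U key with h | h
    · have : w ∈ U := ⟨1, rfl⟩
      rw [h] at this
      exact absurd this hw
    · intro u
      have hu : u ∈ U := h ▸ Submodule.mem_top
      exact hu

variable [Finite V] [Finite K] {A : Type*} [Group A]

/-- **Abelian fixed-point-free groups.** Given a minimal invariant subspace `W`: the group is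
cyclic, its order divides `|W| - 1`, and at most `finrank V` of its elements share a
characteristic polynomial. -/
theorem abelian_fpf_minimal [IsMulCommutative A] [Finite A] (φ : A →* Module.End K V)
    (hfpf : ∀ a : A, a ≠ 1 → ∀ v : V, φ a v = v → v = 0) (W : Submodule K V) (hW : W ≠ ⊥)
    (hinv : ∀ a : A, ∀ w ∈ W, φ a w ∈ W)
    (hmin : ∀ U : Submodule K V, U ≤ W → (∀ a : A, ∀ u ∈ U, φ a u ∈ U) → U = ⊥ ∨ U = W) :
    IsCyclic A ∧ Nat.card A ∣ Nat.card W - 1 ∧
      ∀ (P : Polynomial K), P ≠ 0 →
        Nat.card {a : A // Polynomial.aeval (φ a) P = 0} ≤ P.natDegree := by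
  classical
  obtain ⟨w, hw, hw0⟩ := Submodule.exists_mem_ne_zero_of_ne_bot hW
  let ψ₀ : A →* stabAlg W :=
    { toFun := fun a => ⟨φ a, hinv a⟩
      map_one' := Subtype.ext (map_one φ)
      map_mul' := fun a b => Subtype.ext (map_mul φ a b) }
  let s : Set (Module.End K W) := Set.range fun a => resAlg W (ψ₀ a)
  have hcomm : ∀ a ∈ s, ∀ b ∈ s, a * b = b * a := by
    rintro _ ⟨a, rfl⟩ _ ⟨b, rfl⟩
    simp only [← map_mul, mul_comm' a b]
  have hU : ∀ U : Submodule K W, (∀ a ∈ s, ∀ u ∈ U, a u ∈ U) → U = ⊥ ∨ U = ⊤ := by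
    intro U h
    have key : ∀ a : A, ∀ u ∈ U.map W.subtype, φ a u ∈ U.map W.subtype := fun a u hu => by
      obtain ⟨u', hu', rfl⟩ := hu
      exact ⟨_, h _ ⟨a, rfl⟩ u' hu', rfl⟩
    rcases hmin (U.map W.subtype) (Submodule.map_subtype_le W U) key with e | e
    · exact Or.inl (Submodule.map_injective_of_injective W.injective_subtype
        (e.trans (Submodule.map_bot _).symm))
    · exact Or.inr (Submodule.map_injective_of_injective W.injective_subtype
        (e.trans W.map_subtype_top.symm))
  obtain ⟨hdom, hbij⟩ := adjoin_minimal hcomm hU (w := ⟨w, hw⟩) fun e => hw0 (congrArg Subtype.val e)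
  set R := Algebra.adjoin K s with hR
  have hc := Algebra.isMulCommutative_adjoin K hcomm
  letI : CommRing R := { (inferInstance : Ring R) with mul_comm := hc.is_comm.comm }
  have : NoZeroDivisors R := ⟨fun {a b} h => hdom a b h⟩
  have : Nontrivial R := ⟨⟨0, 1, fun e => hw0 (congrArg Subtype.val
    (congrArg (fun r : R => (r : Module.End K W) ⟨w, hw⟩) e).symm)⟩⟩
  have : IsDomain R := NoZeroDivisors.to_isDomain R
  have : Finite R := Finite.of_equiv W (Equiv.ofBijective _ hbij).symm
  let ψ : A →* R :=
    { toFun := fun a => ⟨resAlg W (ψ₀ a), Algebra.subset_adjoin ⟨a, rfl⟩⟩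
      map_one' := Subtype.ext (by simp only [map_one]; rfl)
      map_mul' := fun a b => Subtype.ext (by simp only [map_mul]; rfl) }
  have hψ : Function.Injective ψ := by
    rw [injective_iff_map_eq_one]
    intro a ha
    by_contra h
    exact hw0 (hfpf a h w (congrArg Subtype.val
      (congrArg (fun r : R => (r : Module.End K W) ⟨w, hw⟩) ha)))
  refine ⟨isCyclic_of_injective_ringHom ψ hψ, ?_, fun P hP => ?_⟩
  · have : Fintype R := Fintype.ofFinite R
    let hR' : Field R := Fintype.fieldOfDomain R
    have h1 : Function.Injective ψ.toHomUnits := fun a b h => hψ (congrArg Units.val h)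
    have h2 := Subgroup.card_dvd_of_injective ψ.toHomUnits h1
    rwa [Nat.card_units, Nat.card_congr (Equiv.ofBijective _ hbij)] at h2
  · have := Fintype.ofFinite A
    rw [Nat.card_eq_fintype_card, Fintype.card_subtype,
      ← Finset.card_image_of_injective _ hψ]
    refine le_trans (Polynomial.card_le_degree_of_subset_roots (p := P.map (algebraMap K R)) ?_)
      Polynomial.natDegree_map_le
    intro x hx
    obtain ⟨a, ha, rfl⟩ := Finset.mem_image.1 hx
    rw [Finset.mem_filter] at ha
    rw [Polynomial.mem_roots', Polynomial.IsRoot.def, Polynomial.eval_map_algebraMap]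
    refine ⟨(Polynomial.map_ne_zero_iff (algebraMap K R).injective).2 hP, Subtype.val_injective ?_⟩
    rw [ZeroMemClass.coe_zero, ← Subalgebra.coe_val, ← Polynomial.aeval_algHom_apply]
    show Polynomial.aeval (resAlg W (ψ₀ a)) P = 0
    rw [Polynomial.aeval_algHom_apply]
    have h0 : Polynomial.aeval (ψ₀ a) P = 0 := by
      refine Subtype.val_injective ?_
      rw [ZeroMemClass.coe_zero, ← Subalgebra.coe_val, ← Polynomial.aeval_algHom_apply]
      exact ha.2
    rw [h0, map_zero]

end Cfsg.Agent.Core
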