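import Cfsg.Agent.Core.Carter
import Cfsg.Agent.Core.Fitting

/-!
System normalizers and Carter subgroups: reduction of complement systems, containment, the metanilpotent
case, and the cover-avoidance property.
-/

set_option autoImplicit false

namespace Cfsg.Agent.Core

open Subgroup
open scoped Pointwise

universe u

section

variable {G : Type u} [Group G] [Finite G]

theorem index_eq_ordProj {H : Subgroup G} {p : ℕ} (hp : p.Prime) (hc : (Nat.card H).Coprime p)
    (hi : ∃ k, H.index = p ^ k) : H.index = p ^ (Nat.card G).factorization p := by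
  obtain ⟨k, hk⟩ := hi
  rw [hk]
  congr 1
  rw [← H.card_mul_index, hk, Nat.factorization_mul Nat.card_pos.ne' (pow_ne_zero _ hp.ne_zero),
    Finsupp.add_apply, Nat.factorization_eq_zero_of_not_dvd fun h =>
      hp.ne_one (Nat.eq_one_of_dvd_coprimes hc h dvd_rfl), hp.factorization_pow,
    Finsupp.single_eq_same, zero_add]

/-- The complement system reduces into `L`. -/
def Reduces (K : Nat.Primes → Subgroup G) (L : Subgroup G) : Prop :=
  ∀ p : Nat.Primes, ∃ k : ℕ, (K p).relIndex L = (p : ℕ) ^ k

theorem isComplementSystem_subgroupOf {K : Nat.Primes → Subgroup G} (hK : IsComplementSystem K)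
    {L : Subgroup G} (hr : Reduces K L) : IsComplementSystem fun p => (K p).subgroupOf L := fun p =>
  index_eq_ordProj p.2 (by
    rw [← card_map_of_injective L.subtype_injective, subgroupOf_map_subtype]
    exact (coprime_card_complementSystem hK p).coprime_dvd_left (card_dvd_of_le inf_le_left)) (hr p)

theorem systemNormalizer_subgroupOf_le (K : Nat.Primes → Subgroup G) (L : Subgroup G) :
    (systemNormalizer K).subgroupOf L ≤ systemNormalizer fun p => (K p).subgroupOf L := by
  refine le_iInf fun p => ?_
  rintro x hx
  have h1 : (x : G) ∈ normalizer (K p : Set G) := systemNormalizer_le p hx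
  refine mem_normalizer_iff.mpr fun y => ?_
  simp only [mem_subgroupOf]
  exact mem_normalizer_iff.mp h1 y

theorem systemNormalizer_conj (K : Nat.Primes → Subgroup G) (g : G) :
    systemNormalizer (fun p => MulAut.conj g • K p) = MulAut.conj g • systemNormalizer K := by
  ext x
  rw [Coprime.mem_conj_smul]
  unfold systemNormalizer
  simp only [mem_iInf]
  refine forall_congr' fun p => ?_
  constructor
  · intro h
    refine Coprime.mem_normalizer_of_conj_smul_eq ?_
    have h1 := Coprime.conj_smul_eq_self_of_mem_normalizer h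
    rw [Coprime.conj_mul_smul, Coprime.conj_mul_smul, h1, map_inv, inv_smul_smul]
  · intro h
    refine Coprime.mem_normalizer_of_conj_smul_eq ?_
    have h1 := Coprime.conj_smul_eq_self_of_mem_normalizer h
    calc MulAut.conj x • MulAut.conj g • K p = MulAut.conj g • MulAut.conj (g⁻¹ * x * g) • K p := by
          rw [← Coprime.conj_mul_smul, ← Coprime.conj_mul_smul]; congr 2; group
      _ = MulAut.conj g • K p := by rw [h1]

theorem isComplementSystem_conj {K : Nat.Primes → Subgroup G} (hK : IsComplementSystem K) (g : G) :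
    IsComplementSystem fun p => MulAut.conj g • K p := fun p => by
  show (MulAut.conj g • K p : Subgroup G).index = _
  have h : Nat.card (MulAut.conj g • K p : Subgroup G) = Nat.card (K p) := Coprime.card_conj_smul g _
  refine Nat.eq_of_mul_eq_mul_left (Nat.card_pos (α := K p)) ?_
  conv_lhs => rw [← h, card_mul_index]
  rw [← hK p, card_mul_index]

theorem reduces_conj {K : Nat.Primes → Subgroup G} {L : Subgroup G} (hr : Reduces K L) (g : G) :
    Reduces (fun p => MulAut.conj g • K p) (MulAut.conj g • L) := fun p => by
  obtain ⟨k, hk⟩ := hr p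
  refine ⟨k, ?_⟩
  show (MulAut.conj g • K p).relIndex _ = _
  rw [← hk, Coprime.conj_smul_eq_map, Coprime.conj_smul_eq_map]
  exact relIndex_map_map_of_injective _ _ (MulAut.conj g).injective

end

/-- Every system normalizer lies in a Carter subgroup into which the system reduces. -/
theorem exists_carter_ge : ∀ (n : ℕ) (G : Type u) [Group G] [Finite G] [Group.IsSolvable G],
    Nat.card G = n → ∀ K : Nat.Primes → Subgroup G, IsComplementSystem K →
      ∃ C : Subgroup G, IsCarterSubgroup C ∧ systemNormalizer K ≤ C ∧ Reduces K C := by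
  intro n
  induction n using Nat.strong_induction_on with
  | _ n ih =>
    intro G _ _ _ hn K hK
    by_cases hG : Group.IsNilpotent G
    · exact ⟨⊤, isCarter_top, le_top, fun p => ⟨_, by rw [relIndex_top_right]; exact hK p⟩⟩
    have : Nontrivial G := not_subsingleton_iff_nontrivial.mp fun h => hG inferInstance
    obtain ⟨N, hN⟩ := exists_isMinNormal (G := G)
    have := hN.normal
    set f := QuotientGroup.mk' N with hf
    have hfs : Function.Surjective f := QuotientGroup.mk'_surjective N
    obtain ⟨C₀, hC₀, hD₀, hr₀⟩ := ih _ (hn ▸ card_quotient_lt hN.ne_bot) (G ⧸ N) rfl _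
      (isComplementSystem_map hK N)
    set L := C₀.comap f with hL
    have hDL : systemNormalizer K ≤ L :=
      map_le_iff_le_comap.mp ((map_systemNormalizer_le K N).trans hD₀)
    by_cases hLt : L = ⊤
    · -- `G / N` is nilpotent
      have hq : Group.IsNilpotent (G ⧸ N) := by
        have h1 : C₀ = ⊤ := comap_injective hfs (hLt.trans (comap_top _).symm)
        exact Group.isNilpotent_top.mp (h1 ▸ hC₀.1)
      obtain ⟨M, hc, hMc, hM⟩ := exists_complement_carter hN hq hG
      obtain ⟨r, hr, hNr, -⟩ := hN.exists_isPGroup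
      have := Fact.mk hr
      obtain ⟨a, ha⟩ := IsPGroup.iff_card.mp hNr
      let P : Nat.Primes := ⟨r, hr⟩
      have hKc := (K P).card_mul_index.symm
      have hcop : (Nat.card (K P)).Coprime (K P).index := by
        rw [hK P]; exact (coprime_card_complementSystem hK P).pow_right _
      -- a conjugate `C` of `M` contains `K P`
      obtain ⟨H₀, hH₀M, hH₀⟩ : ∃ H : Subgroup G, H ≤ M ∧ Nat.card H = Nat.card (K P) := by
        obtain ⟨H, hH⟩ := exists_hall (G := M) (m := ordCompl[r] (Nat.card M))
          (n := r ^ (Nat.card M).factorization r) (by rw [mul_comm, Nat.ordProj_mul_ordCompl_eq_self])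
          ((Nat.coprime_ordCompl hr Nat.card_pos.ne').symm.pow_right _)
        refine ⟨H.map M.subtype, map_subtype_le H, ?_⟩
        rw [card_map_of_injective M.subtype_injective, hH, card_complementSystem hK P]
        show ordCompl[r] _ = ordCompl[r] _
        have h1 : ordCompl[r] (r ^ a) = 1 := by
          rw [hr.factorization_pow, Finsupp.single_eq_same, Nat.div_self (pow_pos hr.pos a)]
        rw [← hc.card_mul_card, ha, Nat.ordCompl_mul, h1, one_mul]
      obtain ⟨g, hg⟩ := exists_conj_hall hKc hcop hH₀ rfl
      have hKle : K P ≤ MulAut.conj g • M := hg ▸ conj_le_of_le hH₀M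
      set C := MulAut.conj g • M with hCdef
      have hC : IsCarterSubgroup C := isCarter_conj hM g
      have hcC : Nat.card C = Nat.card M := Coprime.card_conj_smul g M
      have hCN : N ⊔ C = ⊤ := by
        have h1 := congrArg (MulAut.conj g • ·) hc.sup_eq_top
        simp only [smul_sup] at h1
        rw [Coprime.conj_smul_eq_self_of_mem_normalizer (by rw [normalizer_eq_top]; exact mem_top _)] at h1
        refine h1.trans ?_
        exact Coprime.conj_smul_eq_self_of_mem_normalizer (by rw [normalizer_eq_top]; exact mem_top _)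
      have hCdvd : C.index = r ^ a := by
        refine Nat.eq_of_mul_eq_mul_left (Nat.card_pos (α := C)) ?_
        rw [C.card_mul_index, hcC, ← hc.card_mul_card, ha, mul_comm]
      refine ⟨C, hC, ?_, ?_⟩
      · -- the normalizer of `K P` is `C`
        have hCn : C ≤ normalizer (K P : Set G) := by
          have := hC.1
          have hn : ((K P).subgroupOf C).Normal := hall_normal_of_isNilpotent (by
            rw [Coprime.card_subgroupOf hKle]
            exact hcop.coprime_dvd_right (relIndex_dvd_index_of_le hKle))
          exact (normal_subgroupOf_iff_le_normalizer hKle).mp hn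
        have hne : normalizer (K P : Set G) ≠ ⊤ := fun e => by
          have : (K P).Normal := normalizer_eq_top_iff.mp e
          apply hG
          refine isNilpotent_of_two_quotients (A := N) (B := K P) hq ?_ ?_
          · have : Fact r.Prime := ⟨hr⟩
            refine (IsPGroup.of_card (p := r) (n := (Nat.card G).factorization r) ?_).isNilpotent
            rw [← index_eq_card]; exact hK P
          · refine Coprime.inf_eq_bot_of_coprime ?_
            rw [ha]; exact (coprime_card_complementSystem hK P).symm.pow_left _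
        have hCmax : IsCoatom C := by
          rw [hCdef, Coprime.conj_smul_eq_map]
          exact ((MulAut.conj g).mapSubgroup.isCoatom_iff M).mpr hMc
        rw [← (hCmax.le_iff.mp hCn).resolve_left hne]
        exact systemNormalizer_le P
      · intro p
        by_cases hp : (p : ℕ) = r
        · obtain rfl : p = P := Subtype.ext hp
          have h1 : (K P).relIndex C ∣ (r : ℕ) ^ (Nat.card G).factorization r :=
            hK P ▸ relIndex_dvd_index_of_le hKle
          obtain ⟨k, -, hk⟩ := (Nat.dvd_prime_pow hr).mp h1
          exact ⟨k, hk⟩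
        · refine ⟨(Nat.card G).factorization p, ?_⟩
          rw [relIndex_eq_of_coprime ?_, hK p]
          rw [hK p, hCdvd]
          exact coprime_prime_pow p.2 hr hp _ _
    -- the preimage is proper
    have hrL : Reduces K L := by
      intro p
      have := Fact.mk p.2
      have h1 : (((K p).map f).comap f).relIndex L = ((K p).map f).relIndex C₀ := by
        rw [hL, relIndex_comap, map_comap_eq_self_of_surjective hfs]
      obtain ⟨k, hk⟩ := hr₀ p
      have h2 : (K p).relIndex (((K p).map f).comap f) ∣ (K p).index :=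
        relIndex_dvd_index_of_le (le_comap_map f (K p))
      have h3 : (K p).relIndex L ∣ (K p).relIndex (((K p).map f).comap f ⊓ L) * (((K p).map f).comap f).relIndex L := by
        rw [← inf_relIndex_right (((K p).map f).comap f) L, ← inf_relIndex_right (K p) L,
          ← inf_relIndex_right (K p) (((K p).map f).comap f ⊓ L)]
        have e : K p ⊓ (((K p).map f).comap f ⊓ L) = K p ⊓ L := by
          rw [← inf_assoc, inf_eq_left.mpr (le_comap_map f (K p))]
        rw [e, relIndex_mul_relIndex _ _ _ (inf_le_inf_right L (le_comap_map f (K p))) inf_le_right]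
      have h4 : (K p).relIndex (((K p).map f).comap f ⊓ L) ∣ (K p).index := by
        -- `(K p N) ⊓ L = (K p ⊓ L) N`
        have hsub : (((K p).map f).comap f ⊓ L) = (K p ⊓ L) ⊔ N := by
          refine le_antisymm ?_ (sup_le (inf_le_inf_right L (le_comap_map f (K p)))
            (le_inf (fun x hx => ?_) (fun x hx => ?_)))
          · rintro x ⟨hx, hxL⟩
            rw [comap_map_eq, hf, QuotientGroup.ker_mk'] at hx
            obtain ⟨k, hk, m, hm, rfl⟩ := mem_sup_of_normal_right.mp hx
            refine mul_mem_sup ⟨hk, ?_⟩ hm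
            have hmL : m ∈ L := by
              rw [hL, mem_comap, show f m = 1 from (QuotientGroup.eq_one_iff m).mpr hm]; exact one_mem _
            exact (L.mul_mem_cancel_right hmL).mp hxL
          · show f x ∈ (K p).map f
            rw [show f x = 1 from (QuotientGroup.eq_one_iff x).mpr hx]; exact one_mem _
          · show f x ∈ C₀
            rw [show f x = 1 from (QuotientGroup.eq_one_iff x).mpr hx]; exact one_mem _
        rw [hsub]
        refine dvd_trans ?_ (relIndex_normal_dvd_index (K p) N)
        -- `[(K ⊓ L) N : (K ⊓ L) N ⊓ K]` divides `[N : N ⊓ K]`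
        have hcl := card_sup_mul_card_inf (K p ⊓ L) N
        have e1 : (K p ⊓ L) ⊓ N = K p ⊓ N := by
          refine le_antisymm (inf_le_inf_right N inf_le_left) (le_inf (le_inf inf_le_left ?_) inf_le_right)
          intro x hx
          show f x ∈ C₀
          rw [show f x = 1 from (QuotientGroup.eq_one_iff x).mpr hx.2]; exact one_mem _
        rw [e1] at hcl
        have hN1 : (K p).relIndex N * Nat.card (K p ⊓ N : Subgroup G) = Nat.card N := by
          rw [← inf_relIndex_right, ← relIndex_bot_left (H := (K p ⊓ N : Subgroup G)), mul_comm,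
            relIndex_mul_relIndex _ _ _ bot_le inf_le_right, relIndex_bot_left]
        have hN2 : (K p).relIndex ((K p ⊓ L) ⊔ N) * Nat.card (K p ⊓ ((K p ⊓ L) ⊔ N) : Subgroup G) =
            Nat.card ((K p ⊓ L) ⊔ N : Subgroup G) := by
          rw [← inf_relIndex_right, ← relIndex_bot_left (H := (K p ⊓ ((K p ⊓ L) ⊔ N) : Subgroup G)),
            mul_comm, relIndex_mul_relIndex _ _ _ bot_le inf_le_right, relIndex_bot_left]
        have e2 : K p ⊓ ((K p ⊓ L) ⊔ N) = K p ⊓ L := by
          refine le_antisymm ?_ (le_inf inf_le_left le_sup_left)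
          refine le_inf inf_le_left (inf_le_right.trans (sup_le inf_le_right ?_))
          intro x hx
          show f x ∈ C₀
          rw [show f x = 1 from (QuotientGroup.eq_one_iff x).mpr hx]; exact one_mem _
        rw [e2] at hN2
        refine dvd_of_eq (Nat.eq_of_mul_eq_mul_right (Nat.mul_pos (Nat.card_pos (α := (K p ⊓ L : Subgroup G)))
          (Nat.card_pos (α := (K p ⊓ N : Subgroup G)))) ?_)
        rw [← mul_assoc, hN2, hcl, ← hN1]; ring
      have h5 : (K p).relIndex L ∣ (p : ℕ) ^ ((Nat.card G).factorization p + k) := by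
        rw [pow_add, ← hK p, ← hk, ← h1]
        exact h3.trans (mul_dvd_mul_right h4 _)
      obtain ⟨m, -, hm⟩ := (Nat.dvd_prime_pow p.2).mp h5
      exact ⟨m, hm⟩
    obtain ⟨C, hC, hDC, hrC⟩ := ih _ (hn ▸ card_lt_of_ne_top hLt) L rfl _
      (isComplementSystem_subgroupOf hK hrL)
    refine ⟨C.map L.subtype, carter_of_preimage hfs hC₀ hC, ?_, ?_⟩
    · intro x hx
      exact ⟨⟨x, hDL hx⟩, hDC (systemNormalizer_subgroupOf_le K L (mem_subgroupOf.mpr hx)), rfl⟩
    · intro p
      obtain ⟨k, hk⟩ := hrC p
      refine ⟨k, ?_⟩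
      rw [← hk, ← relIndex_map_map_of_injective _ _ L.subtype_injective, subgroupOf_map_subtype]
      rw [← inf_relIndex_right, ← inf_relIndex_right (K p ⊓ L)]
      congr 1
      rw [inf_assoc, inf_eq_right.mpr (map_subtype_le C)]

section

variable {G : Type u} [Group G] [Finite G]

/-- In a group that is nilpotent-by-nilpotent system normalizers are self-normalizing and so Carter
subgroups. -/
theorem systemNormalizer_isCarter {F : Subgroup G} [F.Normal] (hF : Group.IsNilpotent F)
    (hGF : Group.IsNilpotent (G ⧸ F)) {K : Nat.Primes → Subgroup G} (hK : IsComplementSystem K) :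
    IsCarterSubgroup (systemNormalizer K) := by
  have : Group.IsSolvable G := Group.isSolvable_of_ker_le_range F.subtype (QuotientGroup.mk' F) (by simp)
  set D := systemNormalizer K with hD
  have hDn : Group.IsNilpotent D := systemNormalizer_isNilpotent hK
  -- `D F = G`
  have hsup : D ⊔ F = ⊤ := by
    have h1 : systemNormalizer (fun p => (K p).map (QuotientGroup.mk' F)) = ⊤ := by
      refine top_le_iff.mp (le_iInf fun p => ?_)
      have : ((K p).map (QuotientGroup.mk' F)).Normal := hall_normal_of_isNilpotent (by
        have h := isComplementSystem_map hK F p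
        rw [show ((K p).map (QuotientGroup.mk' F)).index = _ from h]
        exact ((coprime_card_complementSystem hK p).coprime_dvd_left (card_map_dvd _ _)).pow_right _)
      rw [normalizer_eq_top]
    rw [systemNormalizer_map hK F] at h1
    have h2 := congrArg (Subgroup.comap (QuotientGroup.mk' F)) h1
    rwa [comap_map_eq, QuotientGroup.ker_mk', comap_top] at h2
  refine ⟨hDn, le_antisymm (fun x hx => ?_) le_normalizer⟩
  refine mem_iInf.mpr fun p => ?_
  have := Fact.mk p.2
  have hcop : ∀ L : Subgroup G, (Nat.card ((K p).subgroupOf L)).Coprime p := fun L => by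
    rw [← card_map_of_injective L.subtype_injective, subgroupOf_map_subtype]
    exact (coprime_card_complementSystem hK p).coprime_dvd_left (card_dvd_of_le inf_le_left)
  -- the two parts of `K p`
  have hFi : ∃ k, ((K p).subgroupOf F).index = (p : ℕ) ^ k := by
    obtain ⟨k, -, hk⟩ := (Nat.dvd_prime_pow p.2).mp (hK p ▸ relIndex_normal_dvd_index (K p) F)
    exact ⟨k, hk⟩
  have hDle : D ≤ normalizer (K p : Set G) := systemNormalizer_le p
  have hDn' : ((K p).subgroupOf D).Normal := normal_subgroupOf_of_le_normalizer hDle
  have hDi : ∃ k, ((K p).subgroupOf D).index = (p : ℕ) ^ k := by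
    have h1 := relIndex_sup_right (H := D.subgroupOf (normalizer (K p : Set G)))
      (K := (K p).subgroupOf (normalizer (K p : Set G)))
    rw [← subgroupOf_sup hDle le_normalizer, relIndex_subgroupOf (sup_le hDle le_normalizer),
      relIndex_subgroupOf hDle] at h1
    obtain ⟨k, -, hk⟩ := (Nat.dvd_prime_pow p.2).mp
      (hK p ▸ h1 ▸ relIndex_dvd_index_of_le (le_sup_right : K p ≤ D ⊔ K p))
    exact ⟨k, hk⟩
  have hFchar : ((K p).subgroupOf F).Characteristic := by
    have := hF
    obtain ⟨k, hk⟩ := hFi
    have : ((K p).subgroupOf F).Normal := hall_normal_of_isNilpotent (by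
      rw [hk]; exact (hcop F).pow_right _)
    exact characteristic_of_coprime (by rw [hk]; exact (hcop F).pow_right _)
  have hDchar : ((K p).subgroupOf D).Characteristic := by
    obtain ⟨k, hk⟩ := hDi
    exact characteristic_of_coprime (by rw [hk]; exact (hcop D).pow_right _)
  set A := K p ⊓ F with hA
  set B := K p ⊓ D with hB
  have hAn : A.Normal := by
    have : (((K p).subgroupOf F).map F.subtype).Normal := inferInstance
    rwa [subgroupOf_map_subtype] at this
  have hKeq : B ⊔ A = K p := by
    refine eq_of_le_of_card_ge (sup_le inf_le_left inf_le_left) ?_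
    obtain ⟨i, hi⟩ := hFi
    obtain ⟨j, hj⟩ := hDi
    have h1 : Nat.card A * (p : ℕ) ^ i = Nat.card F := by
      rw [← hi, hA, ← subgroupOf_map_subtype, card_map_of_injective F.subtype_injective, card_mul_index]
    have h2 : Nat.card B * (p : ℕ) ^ j = Nat.card D := by
      rw [← hj, hB, ← subgroupOf_map_subtype, card_map_of_injective D.subtype_injective, card_mul_index]
    have hG := card_sup_dvd_mul D F
    rw [hsup, card_top, ← h1, ← h2] at hG
    have h3 : Nat.card (K p) ∣ Nat.card B * Nat.card A := by
      refine (((coprime_card_complementSystem hK p).pow_right (i + j))).dvd_of_dvd_mul_right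
        ((card_subgroup_dvd_card (K p)).trans (hG.trans (dvd_of_eq ?_)))
      rw [pow_add]; ring
    have h4 := card_sup_mul_card_inf B A
    refine Nat.le_of_mul_le_mul_right ?_ (Nat.card_pos (α := (B ⊓ A : Subgroup G)))
    rw [h4]
    -- the intersection is counted once
    have h5 := card_sup_mul_card_inf D F
    rw [hsup, card_top, ← h1, ← h2] at h5
    obtain ⟨l, -, hl⟩ := (Nat.dvd_prime_pow p.2).mp (show Nat.card (D ⊓ F : Subgroup G) / Nat.card (B ⊓ A : Subgroup G) ∣
      (p : ℕ) ^ (i + j) from by
        have hle : B ⊓ A ≤ D ⊓ F := inf_le_inf inf_le_right inf_le_right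
        have hd := card_dvd_of_le hle
        rw [Nat.div_dvd_iff_dvd_mul hd Nat.card_pos]
        have h6 : Nat.card (D ⊓ F : Subgroup G) = Nat.card (B ⊓ A : Subgroup G) *
            (B ⊓ A).relIndex (D ⊓ F) := by
          rw [← relIndex_bot_left (H := (B ⊓ A : Subgroup G)), relIndex_mul_relIndex _ _ _ bot_le hle,
            relIndex_bot_left]
        rw [h6]
        refine mul_dvd_mul_left _ ?_
        have h7 : B ⊓ A = (K p) ⊓ (D ⊓ F) := by
          rw [hB, hA]
          refine le_antisymm (le_inf (inf_le_left.trans inf_le_left)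
            (inf_le_inf inf_le_right inf_le_right)) (le_inf (le_inf inf_le_left (inf_le_right.trans inf_le_left))
              (le_inf inf_le_left (inf_le_right.trans inf_le_right)))
        rw [h7, inf_relIndex_right]
        have hFD : ((D ⊓ F).subgroupOf D).Normal := by
          rw [inf_comm, inf_subgroupOf_right]
          exact Normal.subgroupOf inferInstance _
        have h8 := relIndex_normal_dvd_index ((K p).subgroupOf D) ((D ⊓ F).subgroupOf D)
        rw [relIndex_subgroupOf inf_le_left] at h8
        exact h8.trans (hj ▸ pow_dvd_pow _ (Nat.le_add_left j i)))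
    have hd : Nat.card (B ⊓ A : Subgroup G) ∣ Nat.card (D ⊓ F : Subgroup G) :=
      card_dvd_of_le (inf_le_inf inf_le_right inf_le_right)
    rw [← Nat.div_mul_cancel hd, hl] at h5
    have h9 : Nat.card (K p) * ((K p).index * ((p : ℕ) ^ l * Nat.card (B ⊓ A : Subgroup G))) =
        (Nat.card B * Nat.card A) * (p : ℕ) ^ (i + j) := by
      rw [← mul_assoc, (K p).card_mul_index, h5, pow_add]; ring
    rw [hK p, ← mul_assoc ((p : ℕ) ^ _), ← pow_add] at h9
    have h10 : Nat.card (K p) * Nat.card (B ⊓ A : Subgroup G) ∣ Nat.card B * Nat.card A := by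
      refine Nat.Coprime.dvd_of_dvd_mul_right ?_
        (⟨(p : ℕ) ^ ((Nat.card G).factorization p + l), by rw [← h9]; ring⟩ :
          Nat.card (K p) * Nat.card (B ⊓ A : Subgroup G) ∣ Nat.card B * Nat.card A * (p : ℕ) ^ (i + j))
      exact (Nat.Coprime.mul_left (coprime_card_complementSystem hK p)
        ((coprime_card_complementSystem hK p).coprime_dvd_left
          (card_dvd_of_le (inf_le_left.trans inf_le_left)))).pow_right _
    exact Nat.le_of_dvd (Nat.mul_pos Nat.card_pos Nat.card_pos) h10
  have hxB : MulAut.conj x • B = B := by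
    have h1 : MulAut.conj x • B ≤ D :=
      (Coprime.conj_smul_le_self hx inf_le_right)
    have hn : ((K p).subgroupOf D).map D.subtype = B := by rw [subgroupOf_map_subtype]
    -- conjugation by `x` restricts to an automorphism of `D`
    let σ : D ≃* D := D.normalizerMonoidHom ⟨x, hx⟩
    have h2 : ((K p).subgroupOf D).map σ.toMonoidHom = (K p).subgroupOf D :=
      characteristic_iff_map_eq.mp hDchar σ
    have h3 := congrArg (Subgroup.map D.subtype) h2
    rw [hn, map_map] at h3
    conv_rhs => rw [← h3]
    rw [Coprime.conj_smul_eq_map, ← hn, map_map]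
    congr 1
  refine Coprime.mem_normalizer_of_conj_smul_eq ?_
  conv_lhs => rw [← hKeq]
  rw [smul_sup, hxB, Coprime.conj_smul_eq_self_of_mem_normalizer (by rw [normalizer_eq_top]; exact mem_top _), hKeq]

/-- A central chief factor is covered, a noncentral one avoided, by a system normalizer. -/
theorem systemNormalizer_minNormal [Group.IsSolvable G] {B : Subgroup G} (hB : IsMinNormal B)
    {K : Nat.Primes → Subgroup G} (hK : IsComplementSystem K) :
    (B ≤ center G → B ≤ systemNormalizer K) ∧ (¬ B ≤ center G → B ⊓ systemNormalizer K = ⊥) := by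
  have := hB.normal
  refine ⟨fun hc => hc.trans (le_iInf fun p => fun z hz => mem_normalizer_iff.mpr fun y => by
    rw [← mem_center_iff.mp hz y, mul_inv_cancel_right]), fun hnc => ?_⟩
  have := hB.isMulCommutative
  obtain ⟨r, hr, hBr, -⟩ := hB.exists_isPGroup
  have := Fact.mk hr
  let P : Nat.Primes := ⟨r, hr⟩
  obtain ⟨a, ha⟩ := IsPGroup.iff_card.mp hBr
  set Z := centralizer (B : Set G) with hZ
  have hZn : Z.Normal := inferInstance
  have hBK : B ⊓ K P = ⊥ := Coprime.inf_eq_bot_of_coprime (by
    rw [ha]; exact (coprime_card_complementSystem hK P).symm.pow_left _)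
  -- the fixed points of `K P` on `B`
  set Y := B ⊓ centralizer (K P : Set G) with hY
  have hDY : B ⊓ systemNormalizer K ≤ Y := by
    rintro y ⟨hyB, hyD⟩
    refine ⟨hyB, mem_centralizer_iff.mpr fun k hk => ?_⟩
    have h1 : y * k * y⁻¹ * k⁻¹ ∈ B ⊓ K P :=
      ⟨by
        rw [mul_assoc, mul_assoc, ← mul_assoc k]
        exact mul_mem hyB (‹B.Normal›.conj_mem _ (inv_mem hyB) k),
       (K P).mul_mem ((mem_normalizer_iff.mp (systemNormalizer_le P hyD) k).mp hk) ((K P).inv_mem hk)⟩
    rw [hBK, mem_bot, mul_inv_eq_one, mul_inv_eq_iff_eq_mul] at h1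
    exact h1.symm
  have : Nontrivial (G ⧸ Z) := QuotientGroup.nontrivial_iff.mpr fun e => hnc fun b hb =>
    mem_center_iff.mpr fun g => (mem_centralizer_iff.mp (show g ∈ Z from e ▸ mem_top g) b hb).symm
  obtain ⟨R₀, hR₀⟩ := exists_isMinNormal (G := G ⧸ Z)
  have := hR₀.normal
  obtain ⟨s, hs, hR₀s, -⟩ := hR₀.exists_isPGroup
  have := Fact.mk hs
  set R := R₀.comap (QuotientGroup.mk' Z) with hR
  have hRn : R.Normal := Normal.comap ‹R₀.Normal› _
  have hZR : Z ≤ R := fun x hx => by
    rw [hR, mem_comap, show QuotientGroup.mk' Z x = 1 from (QuotientGroup.eq_one_iff x).mpr hx]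
    exact one_mem _
  -- `B ⊓ C(R)` is trivial
  have hBR : B ⊓ centralizer (R : Set G) = ⊥ := by
    refine (hB.eq_of_le _ inferInstance inf_le_left).resolve_right fun e => hR₀.ne_bot ?_
    have h1 : R ≤ Z := fun x hx => mem_centralizer_iff.mpr fun b hb =>
      (mem_centralizer_iff.mp (inf_eq_left.mp e hb) x hx).symm
    rw [← map_comap_eq_self_of_surjective (QuotientGroup.mk'_surjective Z) R₀,
      Subgroup.map_eq_bot_iff, QuotientGroup.ker_mk']
    exact h1
  have hsr : s ≠ r := by
    intro e; subst e
    -- a `p`-group of automorphisms of a `p`-group fixes a nontrivial point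
    obtain ⟨S⟩ : Nonempty (Sylow s R) := inferInstance
    set S' := (S : Subgroup R).map R.subtype with hS'
    have hmapS : S'.map (QuotientGroup.mk' Z) = R₀ := by
      have hsurj : Function.Surjective ((QuotientGroup.mk' Z).subgroupComap R₀) :=
        (QuotientGroup.mk' Z).subgroupComap_surjective_of_surjective R₀ (QuotientGroup.mk'_surjective Z)
      have h2 : ((S.mapSurjective hsurj : Sylow s R₀) : Subgroup R₀) = ⊤ := by
        refine ((S.mapSurjective hsurj).3 ?_ le_top).symm
        exact IsPGroup.of_equiv hR₀s topEquiv.symm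
      have h3 := congrArg (Subgroup.map R₀.subtype) h2
      rw [Sylow.coe_mapSurjective, map_map, ← MonoidHom.range_eq_map, R₀.range_subtype] at h3
      rw [hS', map_map]; exact h3
    have hRS : R ≤ S' ⊔ Z := by
      rw [← QuotientGroup.ker_mk' Z, ← comap_map_eq, hmapS]
    have hT : IsPGroup s (B ⊔ S' : Subgroup G) :=
      hBr.to_sup_of_normal_left (S.isPGroup'.map R.subtype)
    have := hT.isNilpotent
    have hne : B.subgroupOf (B ⊔ S') ≠ ⊥ := by
      rw [Ne, subgroupOf_eq_bot]
      exact fun hd => hB.ne_bot (disjoint_self.mp (hd.mono_right le_sup_left))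
    obtain ⟨⟨z, hzU⟩, ⟨hzB, hzc⟩, hz1⟩ := (bot_or_exists_ne_one _).resolve_left
      (inf_center_ne_bot (N := B.subgroupOf (B ⊔ S')) hne)
    have hzR : z ∈ centralizer (R : Set G) := mem_centralizer_iff.mpr fun x hx => by
      have : S' ⊔ Z ≤ centralizer ({z} : Set G) := sup_le
        (fun t ht => mem_centralizer_singleton_iff.mpr
          (congrArg Subtype.val (mem_center_iff.mp hzc ⟨t, mem_sup_right ht⟩)))
        (fun t ht => mem_centralizer_singleton_iff.mpr (mem_centralizer_iff.mp ht z hzB).symm)
      exact mem_centralizer_singleton_iff.mp (this (hRS hx))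
    have : z ∈ B ⊓ centralizer (R : Set G) := ⟨hzB, hzR⟩
    rw [hBR, mem_bot] at this
    exact hz1 (Subtype.ext this)
  have hRK : R ≤ K P ⊔ Z := by
    have hK' := isComplementSystem_map hK Z P
    set K' := (K P).map (QuotientGroup.mk' Z) with hK'd
    have hcop : (Nat.card (K' ⊔ R₀ : Subgroup _)).Coprime r := by
      refine Nat.Coprime.coprime_dvd_left (card_sup_dvd_mul _ _) (Nat.Coprime.mul_left ?_ ?_)
      · exact (coprime_card_complementSystem hK P).coprime_dvd_left (card_map_dvd _ _)
      · obtain ⟨b, hb⟩ := IsPGroup.iff_card.mp hR₀s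
        rw [hb]; exact ((Nat.coprime_primes hs hr).mpr hsr).pow_left b
    have h1 : (K' ⊔ R₀).index = K'.index := by
      have hd := index_dvd_of_le (le_sup_left : K' ≤ K' ⊔ R₀)
      rw [show K'.index = _ from hK'] at hd
      obtain ⟨b, -, hb⟩ := (Nat.dvd_prime_pow hr).mp hd
      rw [index_eq_ordProj hr hcop ⟨b, hb⟩, show K'.index = _ from hK']
    have h2 : R₀ ≤ K' := by
      refine le_sup_right.trans (eq_of_le_of_card_ge (le_sup_left : K' ≤ K' ⊔ R₀) ?_).ge
      refine le_of_eq (Nat.eq_of_mul_eq_mul_right (m := K'.index) (Nat.pos_of_ne_zero index_ne_zero_of_finite) ?_)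
      rw [K'.card_mul_index, ← h1, (K' ⊔ R₀).card_mul_index]
    have h3 := comap_mono (f := QuotientGroup.mk' Z) h2
    rwa [hK'd, comap_map_eq, QuotientGroup.ker_mk'] at h3
  refine le_bot_iff.mp (hDY.trans (hBR ▸ ?_))
  rintro y ⟨hyB, hyK⟩
  refine ⟨hyB, mem_centralizer_iff.mpr fun x hx => ?_⟩
  have : K P ⊔ Z ≤ centralizer ({y} : Set G) := sup_le
    (fun t ht => mem_centralizer_singleton_iff.mpr (mem_centralizer_iff.mp hyK t ht))
    (fun t ht => mem_centralizer_singleton_iff.mpr (mem_centralizer_iff.mp ht y hyB).symm)
  exact mem_centralizer_singleton_iff.mp (this (hRK hx))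

end

end Cfsg.Agent.Core
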