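import Cfsg.Agent.Core.MinimalNormal
import Cfsg.Agent.Core.Hall

/-!
Maximal subgroups with trivial core.
-/

set_option autoImplicit false

namespace Cfsg.Agent.Core

open Subgroup
open scoped Pointwise

universe u

variable {G : Type u} [Group G] {U : Subgroup G}

theorem coreFree_sup_eq_top (hU : IsCoatom U) (hcore : U.normalCore = ⊥) {K : Subgroup G} [hK : K.Normal]
    (hne : K ≠ ⊥) : K ⊔ U = ⊤ :=
  hU.2 _ (lt_of_le_of_ne le_sup_right fun e => hne (le_bot_iff.mp (hcore ▸
    normal_le_normalCore.mpr (le_sup_left.trans e.ge))))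

theorem coreFree_centralizer_inf (hU : IsCoatom U) (hcore : U.normalCore = ⊥) {N : Subgroup G}
    [N.Normal] (hN : N ≠ ⊥) : centralizer (N : Set G) ⊓ U = ⊥ := by
  have hn : (centralizer (N : Set G) ⊓ U).Normal := by
    refine normalizer_eq_top_iff.mp (top_le_iff.mp ((coreFree_sup_eq_top hU hcore hN).ge.trans ?_))
    refine sup_le (fun n hn => mem_normalizer_iff.mpr fun x => ?_) (le_trans (b := U)
      le_rfl (Coprime.le_normalizer_inf (by rw [normalizer_eq_top]; exact le_top) le_normalizer))
    have key : ∀ y ∈ centralizer (N : Set G), ∀ m ∈ N, m * y * m⁻¹ = y := fun y hy m hm => by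
      rw [hy m hm, mul_inv_cancel_right]
    refine ⟨fun hx => (key x hx.1 n hn).symm ▸ hx, fun hx => ?_⟩
    have h := key _ hx.1 n⁻¹ (N.inv_mem hn)
    have e : x = n * x * n⁻¹ := by simpa [mul_assoc] using h
    exact e.symm ▸ hx
  exact le_bot_iff.mp (hcore ▸ normal_le_normalCore.mpr inf_le_right)

theorem coreFree_centralizer_minimal [Finite G] (hU : IsCoatom U) (hcore : U.normalCore = ⊥)
    {N : Subgroup G} [N.Normal] (hN : N ≠ ⊥) (hC : centralizer (N : Set G) ≠ ⊥) :
    IsMinNormal (centralizer (N : Set G)) := by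
  refine ⟨inferInstance, hC, fun K hK hle => ?_⟩
  by_cases hKb : K = ⊥
  · exact Or.inl hKb
  refine Or.inr (eq_of_le_of_card_ge hle ?_)
  have hd := coreFree_centralizer_inf hU hcore hN
  have h1 : Nat.card (U ⊔ centralizer (N : Set G) : Subgroup G) =
      Nat.card U * Nat.card (centralizer (N : Set G)) :=
    card_sup_of_inf_eq_bot (by rw [inf_comm, hd])
  rw [sup_comm, coreFree_sup_eq_top hU hcore hC, card_top] at h1
  have h2 := card_sup_dvd_mul U K
  rw [sup_comm, coreFree_sup_eq_top hU hcore hKb, card_top, h1] at h2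
  exact Nat.le_of_dvd Nat.card_pos ((Nat.mul_dvd_mul_iff_left Nat.card_pos).mp h2)

theorem coreFree_centralizer_eq [Finite G] (hU : IsCoatom U) (hcore : U.normalCore = ⊥)
    {N : Subgroup G} (hN : IsMinNormal N) [IsMulCommutative N] : centralizer (N : Set G) = N := by
  have := hN.normal
  have hle : N ≤ centralizer (N : Set G) := le_centralizer N
  have hC : centralizer (N : Set G) ≠ ⊥ := fun e => hN.ne_bot (le_bot_iff.mp (hle.trans e.le))
  exact ((coreFree_centralizer_minimal hU hcore hN.ne_bot hC).eq_of_le N hN.normal hle).resolve_left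
    hN.ne_bot |>.symm

theorem coreFree_isComplement [Finite G] (hU : IsCoatom U) (hcore : U.normalCore = ⊥)
    {N : Subgroup G} [N.Normal] [IsMulCommutative N] (hN : N ≠ ⊥) : IsComplement' N U := by
  refine Coprime.isComplement'_of_inf_sup ?_ (coreFree_sup_eq_top hU hcore hN)
  exact le_bot_iff.mp ((inf_le_inf_right U (le_centralizer N)).trans
    (coreFree_centralizer_inf hU hcore hN).le)

end Cfsg.Agent.Core
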