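import Cfsg.Agent.Core.CoreFree
import Mathlib.GroupTheory.GroupAction.Primitive

/-!
Point stabilisers of faithful primitive actions.
-/

set_option autoImplicit false

namespace Cfsg.Agent.Core

open Subgroup MulAction
open scoped Pointwise

variable {G : Type*} [Group G] {Ω : Type*} [MulAction G Ω] [FaithfulSMul G Ω]

theorem stabilizer_normalCore_eq_bot (hp : IsPretransitive G Ω) (ω : Ω) :
    (stabilizer G ω).normalCore = ⊥ := by
  refine eq_bot_iff.mpr fun g hg => mem_bot.mpr (eq_of_smul_eq_smul (α := Ω) fun x => ?_)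
  obtain ⟨b, rfl⟩ := exists_smul_eq G ω x
  have h := hg b⁻¹
  rw [inv_inv, mem_stabilizer_iff, mul_smul, mul_smul, inv_smul_eq_iff] at h
  rw [one_smul, h]

theorem primitive_stabilizer_isCoatom [Nontrivial G] (hprim : IsPreprimitive G Ω) (ω : Ω) :
    IsCoatom (stabilizer G ω) := by
  have := hprim
  have : Nontrivial Ω := by
    by_contra hc
    rw [not_nontrivial_iff_subsingleton] at hc
    obtain ⟨g, hg⟩ := exists_ne (1 : G)
    exact hg (eq_of_smul_eq_smul (α := Ω) fun x => Subsingleton.elim _ _)
  exact IsPreprimitive.isCoatom_stabilizer_of_isPreprimitive G ω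

theorem primitive_isComplement [Finite G] (hprim : IsPreprimitive G Ω) (ω : Ω) {M : Subgroup G}
    [M.Normal] [IsMulCommutative M] (hM : M ≠ ⊥) : IsComplement' M (stabilizer G ω) :=
  have : Nontrivial G := not_subsingleton_iff_nontrivial.mp fun _ => hM (Subsingleton.elim _ _)
  coreFree_isComplement (primitive_stabilizer_isCoatom hprim ω)
    (stabilizer_normalCore_eq_bot hprim.toIsPretransitive ω) hM

end Cfsg.Agent.Core
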