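import Cfsg.Agent.Core.AbelianFPFLinear
import Mathlib

/-!
# Abelian normal subgroups of linear groups regular on the nonzero vectors
-/

set_option autoImplicit false

namespace Cfsg.Agent.Core

open Module

universe u

variable {p : ℕ} [Fact p.Prime] {V : Type u} [AddCommGroup V] [Module (ZMod p) V] [Finite V]
  (H : Subgroup (V ≃ₗ[ZMod p] V))

instance finite_sub (A : Subgroup H) : Finite A := by
  have : Finite (V ≃ₗ[ZMod p] V) := Finite.of_injective (fun e : V ≃ₗ[ZMod p] V => (e : V → V))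
    DFunLike.coe_injective
  infer_instance

/-- The action homomorphism. -/
def linAction (A : Subgroup H) : A →* Module.End (ZMod p) V where
  toFun a := (((a : H) : V ≃ₗ[ZMod p] V) : V →ₗ[ZMod p] V)
  map_one' := rfl
  map_mul' _ _ := rfl

/-- The setting is fixed-point-free. -/
theorem linAction_fpf (hreg : ∀ v w : V, v ≠ 0 → w ≠ 0 → ∃! h : H, (h : V ≃ₗ[ZMod p] V) v = w)
    (A : Subgroup H) : ∀ a : A, a ≠ 1 → ∀ v : V, linAction H A a v = v → v = 0 := by
  intro a ha v hv
  by_contra hv0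
  exact ha (Subtype.ext ((hreg v v hv0 hv0).unique hv rfl))

/-- A minimal invariant subspace below a given one. -/
theorem exists_minimal_invariant {A : Subgroup H} {W₀ : Submodule (ZMod p) V} (h0 : W₀ ≠ ⊥)
    (hinv : ∀ a : A, ∀ w ∈ W₀, linAction H A a w ∈ W₀) :
    ∃ W, W ≤ W₀ ∧ W ≠ ⊥ ∧ (∀ a : A, ∀ w ∈ W, linAction H A a w ∈ W) ∧
      ∀ U : Submodule (ZMod p) V, U ≤ W → (∀ a : A, ∀ u ∈ U, linAction H A a u ∈ U) →
        U = ⊥ ∨ U = W := by
  have : Finite (Submodule (ZMod p) V) :=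
    Finite.of_injective (fun W : Submodule (ZMod p) V => (W : Set V)) SetLike.coe_injective
  obtain ⟨W, hle, hW⟩ := (Set.toFinite {W : Submodule (ZMod p) V | W ≠ ⊥ ∧
    ∀ a : A, ∀ w ∈ W, linAction H A a w ∈ W}).exists_le_minimal (a := W₀) ⟨h0, hinv⟩
  exact ⟨W, hle, hW.prop.1, hW.prop.2, fun U hU hUi => or_iff_not_imp_left.2 fun hU0 =>
    le_antisymm hU (hW.le_of_le ⟨hU0, hUi⟩ hU)⟩

/-- A nontrivial element of such an abelian subgroup. -/
theorem abelian_cyclic (hreg : ∀ v w : V, v ≠ 0 → w ≠ 0 → ∃! h : H, (h : V ≃ₗ[ZMod p] V) v = w)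
    (hV : Nontrivial V) (A : Subgroup H) [IsMulCommutative A] : IsCyclic A := by
  obtain ⟨W, -, hW0, hWi, hWm⟩ := exists_minimal_invariant (W₀ := (⊤ : Submodule (ZMod p) V)) (A := A)
    H top_ne_bot (fun _ _ _ => Submodule.mem_top)
  exact (abelian_fpf_minimal (linAction H A) (linAction_fpf H hreg A) W hW0 hWi hWm).1

/-- A normal abelian subgroup with a proper invariant subspace is not self-centralising. -/
theorem not_self_centralizing
    (hreg : ∀ v w : V, v ≠ 0 → w ≠ 0 → ∃! h : H, (h : V ≃ₗ[ZMod p] V) v = w)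
    (A : Subgroup H) [A.Normal] [IsMulCommutative A] {W₀ : Submodule (ZMod p) V} (h0 : W₀ ≠ ⊥)
    (h1 : W₀ ≠ ⊤) (hinv : ∀ a : A, ∀ w ∈ W₀, linAction H A a w ∈ W₀) :
    Subgroup.centralizer (A : Set H) ≠ A := by
  classical
  intro hC
  have hp := (Fact.out : p.Prime)
  obtain ⟨W, hWle, hW0, hWi, hWm⟩ := exists_minimal_invariant H h0 hinv
  obtain ⟨hcyc, hdvd, hroots⟩ :=
    abelian_fpf_minimal (linAction H A) (linAction_fpf H hreg A) W hW0 hWi hWm
  have hVn : Nontrivial V := ⟨⟨_, _, (Submodule.exists_mem_ne_zero_of_ne_bot hW0).choose_spec.2⟩⟩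
  set n := finrank (ZMod p) V with hn
  set k := finrank (ZMod p) W with hk
  obtain ⟨a, ha⟩ := hcyc.exists_generator
  -- conjugates of a generator
  have hindex : A.index ≤ n := by
    let f : H ⧸ A → {b : A // Polynomial.aeval (linAction H A b) (linAction H A a).charpoly = 0} :=
      fun q => ⟨⟨q.out * a * q.out⁻¹, (inferInstance : A.Normal).conj_mem _ a.2 _⟩, by
        have e : linAction H A ⟨q.out * a * q.out⁻¹, (inferInstance : A.Normal).conj_mem _ a.2 _⟩ =
            ((q.out : H) : V ≃ₗ[ZMod p] V).conj (linAction H A a) := LinearMap.ext fun v => rfl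
        rw [e, ← LinearEquiv.charpoly_conj ((q.out : H) : V ≃ₗ[ZMod p] V) (linAction H A a)]
        exact LinearMap.aeval_self_charpoly _⟩
    have hf : Function.Injective f := by
      intro q q' h
      have h' : q.out * (a : H) * q.out⁻¹ = q'.out * a * q'.out⁻¹ :=
        congrArg (fun b : {b : A // _} => ((b : A) : H)) h
      rw [← QuotientGroup.out_eq' q, ← QuotientGroup.out_eq' q']
      refine QuotientGroup.eq.2 ?_
      refine hC.le (Subgroup.mem_centralizer_iff.2 ?_)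
      intro b hb
      obtain ⟨i, hi⟩ := ha ⟨b, hb⟩
      have hb' : (a : H) ^ i = b := by simpa using congrArg Subtype.val hi
      rw [← hb']
      refine (Commute.zpow_left ?_ i).eq
      show (a : H) * (q.out⁻¹ * q'.out) = q.out⁻¹ * q'.out * a
      calc (a : H) * (q.out⁻¹ * q'.out) = q.out⁻¹ * (q.out * a * q.out⁻¹) * q'.out := by group
        _ = _ := by rw [h']; group
    refine (Nat.card_le_card_of_injective f hf).trans
      ((hroots _ (LinearMap.charpoly_monic _).ne_zero).trans ?_)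
    rw [LinearMap.charpoly_natDegree]
  -- `2 k ≤ n`
  have h2k : 2 * k ≤ n := by
    obtain ⟨u, hu⟩ : ∃ u, u ∉ W := by
      by_contra! h
      exact h1 (eq_top_mono hWle (Submodule.eq_top_iff'.2 h))
    obtain ⟨w, hw, hw0⟩ := Submodule.exists_mem_ne_zero_of_ne_bot hW0
    obtain ⟨g, hg, -⟩ := hreg w u hw0 fun e => hu (e ▸ W.zero_mem)
    let e : V ≃ₗ[ZMod p] V := (g : V ≃ₗ[ZMod p] V)
    set W' : Submodule (ZMod p) V := W.map (e : V →ₗ[ZMod p] V) with hW'
    have hW'i : ∀ b : A, ∀ x ∈ W ⊓ W', linAction H A b x ∈ W ⊓ W' := by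
      rintro b x ⟨hx, x', hx', rfl⟩
      refine ⟨hWi b _ hx, ?_⟩
      refine ⟨linAction H A ⟨g⁻¹ * b * g, by simpa using (inferInstance : A.Normal).conj_mem _ b.2 g⁻¹⟩ x',
        hWi _ _ hx', ?_⟩
      show e ((((g⁻¹ * b * g : H)) : V ≃ₗ[ZMod p] V) x') = ((b : H) : V ≃ₗ[ZMod p] V) (e x')
      rw [Subgroup.coe_mul, Subgroup.coe_mul, Subgroup.coe_inv]
      exact e.apply_symm_apply _
    have hdim : finrank (ZMod p) W' = k := e.finrank_map_eq W
    rcases hWm _ inf_le_left hW'i with h | h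
    · have h3 := Submodule.finrank_sup_add_finrank_inf_eq W W'
      rw [h, finrank_bot, add_zero, hdim] at h3
      have := (W ⊔ W').finrank_le
      omega
    · have hle : W ≤ W' := inf_eq_left.1 h
      have hu' : u ∈ W := by
        rw [Submodule.eq_of_le_of_finrank_le hle hdim.le]
        exact ⟨w, hw, hg⟩
      exact absurd hu' hu
  -- the order
  have hcardH : Nat.card H = p ^ n - 1 := by
    obtain ⟨v, hv⟩ := exists_ne (0 : V)
    have hb : Function.Bijective (fun h : H => (⟨(h : V ≃ₗ[ZMod p] V) v,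
        fun e => hv ((h : V ≃ₗ[ZMod p] V).map_eq_zero_iff.1 e)⟩ : {x : V // x ≠ 0})) :=
      ⟨fun g g' e => (hreg v _ hv (fun e' => hv ((g' : V ≃ₗ[ZMod p] V).map_eq_zero_iff.1 e'))).unique
        (congrArg Subtype.val e) rfl, fun x => by
        obtain ⟨g, hg, -⟩ := hreg v x hv x.2
        exact ⟨g, Subtype.ext hg⟩⟩
    have := Fintype.ofFinite V
    rw [Nat.card_eq_of_bijective _ hb, Nat.card_eq_fintype_card, Fintype.card_subtype_compl,
      Fintype.card_subtype_eq, Module.card_eq_pow_finrank (K := ZMod p), ZMod.card]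
  have hkpos : 0 < k := Nat.pos_of_ne_zero fun e => hW0 (Submodule.finrank_eq_zero.1 e)
  rw [Module.natCard_eq_pow_finrank (K := ZMod p) (V := W), Nat.card_zmod] at hdvd
  have hpk : 2 ≤ p ^ k := le_trans hp.two_le (Nat.le_self_pow hkpos.ne' p)
  have hA : Nat.card A ≤ p ^ k - 1 := Nat.le_of_dvd (by omega) hdvd
  have hle : p ^ n - 1 ≤ (p ^ k - 1) * n := by
    rw [← hcardH, ← A.card_mul_index]
    exact Nat.mul_le_mul hA hindex
  have hsmall : n ≤ p ^ (n - k) := by
    have h3 : ∀ m : ℕ, 0 < m → 2 * m ≤ 2 ^ m := fun m hm => by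
      obtain ⟨j, rfl⟩ := Nat.exists_eq_add_of_le hm
      have := @Nat.lt_two_pow_self j
      rw [show Nat.succ 0 + j = j + 1 by omega, pow_succ]
      omega
    have h4 := h3 (n - k) (by omega)
    have h5 : 2 ^ (n - k) ≤ p ^ (n - k) := Nat.pow_le_pow_left hp.two_le _
    omega
  have h6 : (p ^ k - 1) * n ≤ (p ^ k - 1) * p ^ (n - k) := Nat.mul_le_mul le_rfl hsmall
  rw [Nat.sub_mul (p ^ k) 1 (p ^ (n - k)), one_mul, ← pow_add, show k + (n - k) = n by omega] at h6
  have h7 : 2 ≤ p ^ (n - k) := le_trans hp.two_le (Nat.le_self_pow (by omega) p)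
  have h8 : p ^ (n - k) ≤ p ^ n := Nat.pow_le_pow_right hp.pos (by omega)
  omega

end Cfsg.Agent.Core
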