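import Cfsg.Agent.S0046
import Cfsg.Agent.Core.Hall
import Cfsg.Agent.Core.MinimalNormal
import Cfsg.Agent.Core.MinimalNonNilpotent
import Cfsg.Agent.Char.Artin

/-!
Wielandt's theorem on nilpotent Hall subgroups.
-/

set_option autoImplicit false

namespace Cfsg.Agent.Core

open Subgroup
open scoped Pointwise

universe u

theorem wielandt_hall_aux : ∀ (n : ℕ) (G : Type u) [Group G] [Finite G], Nat.card G = n →
    ∀ (m : ℕ) (H K : Subgroup G), Nat.card K = m → Group.IsNilpotent H →
      (Nat.card H).Coprime H.index → (Nat.card K).Coprime H.index →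
      ∃ x : G, K ≤ MulAut.conj x • H := by
  intro n
  induction n using Nat.strong_induction_on with
  | _ n ihG =>
    intro G _ _ hn m
    induction m using Nat.strong_induction_on with
    | _ m ihK =>
      intro H K hm hH hHall hK
      rcases eq_or_ne K ⊥ with rfl | hKb
      · exact ⟨1, bot_le⟩
      have hKnil : ∀ M : Subgroup K, IsCoatom M → Group.IsNilpotent M := by
        intro M hM
        have hc : Nat.card (M.map K.subtype) = Nat.card M := card_map_of_injective K.subtype_injective
        obtain ⟨x, hx⟩ := ihK _ (by rw [hc, ← hm]; exact card_lt_of_ne_top hM.1) H (M.map K.subtype) rfl hH hHall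
          (hK.coprime_dvd_left (card_dvd_of_le (map_subtype_le M)))
        have h1 : Group.IsNilpotent (MulAut.conj x • H : Subgroup G) := by
          rw [Coprime.conj_smul_eq_map]; exact isNilpotent_map hH _
        exact (Group.isNilpotent_congr (M.equivMapOfInjective K.subtype K.subtype_injective)).mpr
          (isNilpotent_mono h1 hx)
      have : Group.IsSolvable K := S0046.result hKnil
      have : Nontrivial K := (nontrivial_iff_ne_bot K).mpr hKb
      obtain ⟨N₀, hN₀⟩ := exists_isMinNormal (G := K)
      obtain ⟨q, hq, hN₀q, -⟩ := hN₀.exists_isPGroup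
      have := Fact.mk hq
      set Q := N₀.map K.subtype with hQ
      have hQp : IsPGroup q Q := hN₀q.map K.subtype
      have hQb : Q ≠ ⊥ := fun e => hN₀.ne_bot ((map_eq_bot_iff_of_injective _ K.subtype_injective).mp e)
      have hKN : K ≤ normalizer (Q : Set G) := by
        have := hN₀.normal
        have h1 := le_normalizer_map (H := N₀) K.subtype
        rw [normalizer_eq_top, ← MonoidHom.range_eq_map, K.range_subtype] at h1
        exact h1
      have hqK : q ∣ Nat.card K :=
        (hQp.card_eq_or_dvd.resolve_left fun e => hQb (card_eq_one.mp e)).trans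
          (card_dvd_of_le (map_subtype_le N₀))
      -- every prime of `K` has its Sylow subgroups inside `H`
      have hsyl : ∀ (p : ℕ) [Fact p.Prime], ¬ p ∣ H.index → ∃ P : Sylow p G, (P : Subgroup G) ≤ H := by
        intro p _ hp
        obtain ⟨P₀⟩ : Nonempty (Sylow p H) := inferInstance
        have hni : ¬ p ∣ ((P₀ : Subgroup H).map H.subtype).index := by
          rw [index_map_subtype]
          exact (Fact.out : p.Prime).not_dvd_mul P₀.not_dvd_index hp
        exact ⟨(P₀.isPGroup'.map H.subtype).toSylow hni, map_subtype_le _⟩
      have hqi : ¬ q ∣ H.index := fun h => hq.ne_one (Nat.eq_one_of_dvd_coprimes hK hqK h)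
      set N := normalizer (Q : Set G) with hN
      obtain ⟨R⟩ : Nonempty (Sylow q N) := inferInstance
      obtain ⟨S, hS⟩ := (R.isPGroup'.map N.subtype).exists_le_sylow
      obtain ⟨S₀, hS₀⟩ := hsyl q hqi
      obtain ⟨g, hg⟩ := MulAction.exists_smul_eq G S₀ S
      set H' := MulAut.conj g • H with hH'
      have hSH : (S : Subgroup G) ≤ H' := by
        rw [← hg]; exact pointwise_smul_le_pointwise_smul_iff.mpr hS₀
      have hH'n : Group.IsNilpotent H' := by rw [hH', Coprime.conj_smul_eq_map]; exact isNilpotent_map hH _
      have hc' : Nat.card H' = Nat.card H := Coprime.card_conj_smul g H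
      have hi' : H'.index = H.index := by
        refine Nat.eq_of_mul_eq_mul_left (Nat.card_pos (α := H)) ?_
        rw [H.card_mul_index, ← hc', H'.card_mul_index]
      have hQS : Q ≤ (S : Subgroup G) := by
        have h1 : Q.subgroupOf N ≤ (R : Subgroup N) := by
          have hQn : (Q.comap N.subtype).Normal := normal_in_normalizer
          exact (hQp.comap_of_injective N.subtype N.subtype_injective).le_sylow_of_normal R
        have h2 := map_mono (f := N.subtype) h1
        rw [map_subgroupOf_eq_of_le le_normalizer] at h2
        exact h2.trans hS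
      suffices h : ∃ x : G, K ≤ MulAut.conj x • H' by
        obtain ⟨x, hx⟩ := h
        exact ⟨x * g, by rwa [Coprime.conj_mul_smul]⟩
      by_cases hNt : N = ⊤
      · -- `Q` is normal in `G`
        have : Q.Normal := normalizer_eq_top_iff.mp hNt
        set f := QuotientGroup.mk' Q with hf
        have hfs : Function.Surjective f := QuotientGroup.mk'_surjective Q
        have hker : f.ker ≤ H' := by rw [QuotientGroup.ker_mk']; exact hQS.trans hSH
        have hidx : (H'.map f).index = H'.index := index_map_eq H' hfs hker
        obtain ⟨x, hx⟩ := ihG _ (hn ▸ card_quotient_lt hQb) (G ⧸ Q) rfl _ (H'.map f) (K.map f) rfl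
          (isNilpotent_map hH'n f)
          (by rw [hidx, hi']; exact (hc' ▸ hHall).coprime_dvd_left (card_map_dvd _ _))
          (by rw [hidx, hi']; exact hK.coprime_dvd_left (card_map_dvd _ _))
        obtain ⟨x, rfl⟩ := hfs x
        refine ⟨x, ?_⟩
        rw [← Coprime.map_conj_smul, map_le_iff_le_comap, comap_map_eq_self] at hx
        · exact hx
        · rw [QuotientGroup.ker_mk']
          refine le_trans ?_ (pointwise_smul_le_pointwise_smul_iff.mpr (hQS.trans hSH))
          rw [Coprime.conj_smul_eq_self_of_mem_normalizer (by rw [normalizer_eq_top]; exact mem_top x)]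
      · set L := H' ⊓ N with hL
        have hLnil : Group.IsNilpotent L := isNilpotent_mono hH'n inf_le_left
        have hcop : ∀ p : ℕ, p.Prime → p ∣ (L.subgroupOf N).index → p ∣ H.index := by
          intro p hp hpd
          by_contra hpi
          have := Fact.mk hp
          rcases eq_or_ne p q with e | hpq
          · subst e
            refine R.not_dvd_index (hpd.trans (index_dvd_of_le fun r hr => ?_))
            exact mem_subgroupOf.mpr ⟨hSH (hS (mem_map_of_mem N.subtype hr)), r.2⟩
          · obtain ⟨P₀, hP₀⟩ := hsyl p hpi
            have hPH : ((g • P₀ : Sylow p G) : Subgroup G) ≤ H' :=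
              pointwise_smul_le_pointwise_smul_iff.mpr hP₀
            have hPN : ((g • P₀ : Sylow p G) : Subgroup G) ≤ N := by
              refine fun y hy => centralizer_le_normalizer _ (mem_centralizer_iff.mpr fun z hz => ?_)
              have := hH'n
              have hco : (orderOf (⟨z, hSH (hQS hz)⟩ : H')).Coprime (orderOf (⟨y, hPH hy⟩ : H')) := by
                rw [orderOf_mk, orderOf_mk]
                obtain ⟨i, hi⟩ := IsPGroup.iff_orderOf.mp S.isPGroup' ⟨z, hQS hz⟩
                obtain ⟨j, hj⟩ := IsPGroup.iff_orderOf.mp (g • P₀).isPGroup' ⟨y, hy⟩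
                rw [orderOf_mk] at hi hj
                rw [hi, hj]
                exact Nat.Coprime.pow _ _ ((Nat.coprime_primes hq hp).mpr hpq.symm)
              exact congrArg Subtype.val (Char.commute_of_nilpotent_coprime hco).eq
            refine ((g • P₀).subtype hPN).not_dvd_index (hpd.trans (index_dvd_of_le fun r hr => ?_))
            rw [Sylow.coe_subtype] at hr
            exact mem_subgroupOf.mpr ⟨hPH hr, r.2⟩
        have hcard : Nat.card (L.subgroupOf N) = Nat.card L := Coprime.card_subgroupOf inf_le_right
        obtain ⟨x, hx⟩ := ihG _ (hn ▸ card_lt_of_ne_top hNt) N rfl _ (L.subgroupOf N) (K.subgroupOf N) rfl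
          ((Group.isNilpotent_congr (subgroupOfEquivOfLe inf_le_right)).mpr hLnil)
          (Nat.coprime_of_dvd' fun p hp h1 h2 => absurd (hcop p hp h2) fun h => hp.ne_one
            (Nat.eq_one_of_dvd_coprimes hHall (h1.trans (hcard ▸ hc' ▸ card_dvd_of_le inf_le_left)) h))
          (Nat.coprime_of_dvd' fun p hp h1 h2 => absurd (hcop p hp h2) fun h => hp.ne_one
            (Nat.eq_one_of_dvd_coprimes hK (Coprime.card_subgroupOf hKN ▸ h1) h))
        refine ⟨x, ?_⟩
        have h1 := map_mono (f := N.subtype) hx
        rw [Coprime.conj_smul_map_subtype, map_subgroupOf_eq_of_le hKN,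
          map_subgroupOf_eq_of_le inf_le_right] at h1
        exact h1.trans (pointwise_smul_le_pointwise_smul_iff.mpr inf_le_left)

/-- Wielandt: subgroups with primes in a nilpotent Hall subgroup lie in its conjugates. -/
theorem exists_le_conj_nilpotent_hall {G : Type u} [Group G] [Finite G] {H K : Subgroup G}
    (hH : Group.IsNilpotent H) (hHall : (Nat.card H).Coprime H.index)
    (hK : (Nat.card K).Coprime H.index) : ∃ x : G, K ≤ MulAut.conj x • H :=
  wielandt_hall_aux _ G rfl _ H K rfl hH hHall hK

end Cfsg.Agent.Core
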